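import Cfsg.Agent.S1136
import Cfsg.Agent.Lib.BenderQ.Classify

/-!
Suzuki's classification of split rank one set-ups, in the form used by the consumers of Bender's theorem.
-/

set_option autoImplicit false

namespace CfsgLib.RankOneRecog

universe u

/-- the classification of rank one set-ups, as the proposition of `Lib/BenderQ/Classify` -/
theorem rankOneClass : BenderQ.RankOneClass.{u} :=
  fun _ _ _ _ _ _ _ _ _ hS h2 => Cfsg.Agent.S1136.result hS h2

end CfsgLib.RankOneRecog
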