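import Cfsg.Agent.Lib.RankOneRecog.Setup
import Cfsg.Agent.Lib.RankOneTwo.Main
import Cfsg.Agent.Lib.Characters.PermTwo
import Cfsg.Agent.Lib.Characters.Values
import Cfsg.Agent.Lib.SL2Char.Counting
import Cfsg.Agent.Lib.Sporadic.CharTools

/-!
Rank one set-ups with `|Q| = |Z| ^ 2`: `K` is transitive on the nontrivial cosets of `Z` in `Q`, the
elements of `D` centralising `Z` are trivial and `D = K` if the involutions generate the group.
-/

set_option autoImplicit false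

noncomputable section

namespace CfsgLib.RankOneRecog

open CfsgLib.RankOneInvol CfsgLib.RankOneTwo CfsgLib.Characters
open MulAction (stabilizer mem_stabilizer_iff fixedBy)
open scoped ComplexConjugate
open scoped Classical

universe u v

/-- A nontrivial finite solvable group has a nontrivial linear character. -/
theorem exists_linear_ne_one (M : Type u) [Group M] [Finite M] [Group.IsSolvable M] [Nontrivial M] :
    ∃ f : M →* ℂˣ, ∃ x, f x ≠ 1 := by
  have hlt : commutator M < ⊤ := IsSolvable.commutator_lt_top_of_nontrivial M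
  obtain ⟨x, -, hx⟩ := SetLike.exists_of_lt hlt
  have hne : (Abelianization.of x : Abelianization M) ≠ 1 := fun h => hx ((QuotientGroup.eq_one_iff x).1 h)
  obtain ⟨f, hf⟩ := CommGroup.exists_apply_ne_one_of_hasEnoughRootsOfUnity (Abelianization M) ℂ hne
  exact ⟨f.comp Abelianization.of, x, hf⟩

/-- The sum of an irreducible character over the products of two elements of a normal set on which it is
constant. -/
theorem sum_pair_irr {G : Type u} [Group G] [Fintype G] (χ : Cfsg.IrrCharacter G) (C : Finset G)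
    (hC : ∀ g h : G, h * g * h⁻¹ ∈ C ↔ g ∈ C) {T : ℂ} (hT : ∀ x ∈ C, (χ : G → ℂ) x = T) :
    ∑ x ∈ C, ∑ y ∈ C, (χ : G → ℂ) (x * y) = (C.card : ℂ) ^ 2 * T ^ 2 / (χ : G → ℂ) 1 := by
  obtain ⟨_, n, ρ, hρ, rfl⟩ := χ
  haveI := hρ
  let φ : G → ℂ := fun g => if g ∈ C then 1 else 0
  have hφ : Cfsg.IsClassFunction G φ := fun g h => by simp only [φ, hC]
  have hsum : ∑ g : G, φ g * ρ.character g = (C.card : ℂ) * T := by
    simp only [φ, ite_mul, one_mul, zero_mul, Finset.sum_ite_mem, Finset.univ_inter]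
    rw [Finset.sum_congr rfl hT, Finset.sum_const, nsmul_eq_mul]
  have hfun : funEnd ρ φ = ∑ x ∈ C, ρ x := by
    simp only [funEnd, φ, ite_smul, one_smul, zero_smul, Finset.sum_ite_mem, Finset.univ_inter]
  have h := congrArg (fun A => LinearMap.trace ℂ (Fin n → ℂ) (A * A)) (funEnd_eq_smul ρ hφ)
  simp only [hfun, Finset.sum_mul, Finset.mul_sum, map_sum, ← map_mul, smul_mul_assoc, mul_smul_comm,
    mul_one, map_smul, LinearMap.trace_one, smul_eq_mul, hsum] at h
  dsimp only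
  rw [Representation.char_one]
  have hn : (Module.finrank ℂ (Fin n → ℂ) : ℂ) ≠ 0 := by
    haveI := nontrivial_of_irreducible ρ
    exact_mod_cast Module.finrank_pos.ne'
  rw [Finset.sum_comm] at h
  refine h.trans ?_
  field_simp

variable {G : Type u} {Ω : Type v} [Group G] [MulAction G Ω] {a : Ω} {t : G} {Q : Subgroup G}

section Induced

variable [Fintype G] [Fintype Ω]

/-- An induced function from a point stabiliser as a sum over the fixed points. -/
theorem indFun_stabilizer_eq (htr : ∀ c : Ω, ∃ g : G, g • a = c)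
    {θ : stabilizer G a → ℂ} (hθ : Cfsg.IsClassFunction (stabilizer G a) θ) (g : G) (val : Ω → ℂ)
    (hval : ∀ x : G, ∀ h : x⁻¹ * g * x ∈ stabilizer G a, θ ⟨_, h⟩ = val (x • a)) :
    Cfsg.indFun (stabilizer G a) θ g = ∑ c ∈ Finset.univ.filter (fun c => g • c = c), val c := by
  rw [Induction.indFun_eq_sum_quotient _ hθ, Finset.sum_filter]
  let e : G ⧸ stabilizer G a ≃ Ω := Equiv.ofBijective (MulAction.ofQuotientStabilizer G a)
    ⟨MulAction.injective_ofQuotientStabilizer G a, fun c => by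
      obtain ⟨x, rfl⟩ := htr c
      exact ⟨QuotientGroup.mk x, rfl⟩⟩
  refine Fintype.sum_equiv e _ _ fun q => ?_
  have he : e q = q.out • a := by
    conv_lhs => rw [← q.out_eq']
    rfl
  have hiff : q.out⁻¹ * g * q.out ∈ stabilizer G a ↔ g • e q = e q := by
    rw [mem_stabilizer_iff, he, mul_smul, mul_smul, inv_smul_eq_iff]
  by_cases h : g • e q = e q
  · rw [if_pos h, Induction.extendByZero_mem _ θ (hiff.2 h), hval _ (hiff.2 h), he]
  · rw [if_neg h, Induction.extendByZero_notMem _ θ (mt hiff.1 h)]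

end Induced

variable [Finite G] (hS : Cfsg.IsRankOneSetup G Ω a t Q)
  (h2 : ∃ x y : G, x ≠ 1 ∧ y ≠ 1 ∧ x ≠ y ∧ x * x = 1 ∧ y * y = 1 ∧ x * y = y * x)
include hS h2

/-- `Q / Z` has fixed-point-free action of `K`. -/
theorem Ksub_fpf_mod {j x : G} (hj : j ∈ Ksub G a t) (hj1 : j ≠ 1) (hx : x ∈ Q)
    (h : x⁻¹ * (j * x * j⁻¹) ∈ Zsub G a) : x ∈ Zsub G a := by
  classical
  have hj' := (mem_Ksub_iff hS h2).1 hj
  have hja : j • a = a := (mem_twoPt.1 (Ksub_le hS h2 hj)).1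
  haveI : Finite (Zsub G a) := inferInstance
  let f : Zsub G a → Zsub G a := fun z =>
    ⟨(z : G) * (j * (z : G)⁻¹ * j⁻¹), mul_mem z.2 (Zsub_conj hS h2 hja (inv_mem z.2))⟩
  have hf : Function.Injective f := fun z w e => by
    have e' : (z : G) * (j * (z : G)⁻¹ * j⁻¹) = (w : G) * (j * (w : G)⁻¹ * j⁻¹) := congrArg Subtype.val e
    refine Subtype.ext (inv_mul_eq_one.1 (invSet_fpf hS hj' hj1
      (Zsub_le hS h2 (mul_mem (inv_mem w.2) z.2)) ?_)).symm
    calc j * ((w : G)⁻¹ * z) = (w : G)⁻¹ * ((w : G) * (j * (w : G)⁻¹ * j⁻¹)) * j * z := by group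
      _ = (w : G)⁻¹ * ((z : G) * (j * (z : G)⁻¹ * j⁻¹)) * j * z := by rw [e']
      _ = (w : G)⁻¹ * z * j := by group
  obtain ⟨z, hz⟩ := Finite.surjective_of_injective hf ⟨_, h⟩
  have hz' : (z : G) * (j * (z : G)⁻¹ * j⁻¹) = x⁻¹ * (j * x * j⁻¹) := congrArg Subtype.val hz
  have h1 := invSet_fpf hS hj' hj1 (Q.mul_mem hx (Zsub_le hS h2 z.2)) (by
    calc j * (x * z) = x * (x⁻¹ * (j * x * j⁻¹)) * (j * z) := by group
      _ = x * ((z : G) * (j * (z : G)⁻¹ * j⁻¹)) * (j * z) := by rw [hz']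
      _ = x * z * j := by group)
  rw [eq_inv_of_mul_eq_one_left h1]
  exact inv_mem z.2

variable (hcard : Nat.card Q = Nat.card (Zsub G a) ^ 2)
include hcard

theorem Zsub_subgroupOf_normal : ((Zsub G a).subgroupOf Q).Normal := by
  constructor
  intro z hz g
  rw [Subgroup.mem_subgroupOf] at hz ⊢
  rw [Subgroup.coe_mul, Subgroup.coe_mul, Subgroup.coe_inv, ← Zsub_comm hS h2 hz g.2,
    mul_inv_cancel_right]
  exact hz

omit hcard in
theorem card_Zsub_subgroupOf : Nat.card ((Zsub G a).subgroupOf Q) = Nat.card (Zsub G a) :=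
  Nat.card_congr (Subgroup.subgroupOfEquivOfLe (Zsub_le hS h2)).toEquiv

theorem card_quotient_Zsub : Nat.card (Q ⧸ (Zsub G a).subgroupOf Q) = Nat.card (Zsub G a) := by
  have h := Subgroup.card_eq_card_quotient_mul_card_subgroup ((Zsub G a).subgroupOf Q)
  rw [card_Zsub_subgroupOf hS h2, hcard, pow_two] at h
  exact (Nat.eq_of_mul_eq_mul_right Nat.card_pos h).symm

/-- `K` is transitive on the nontrivial cosets of `Z` in `Q`. -/
theorem exists_Ksub_conj_mem {x y : G} (hx : x ∈ Q) (hy : y ∈ Q) (hxZ : x ∉ Zsub G a)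
    (hyZ : y ∉ Zsub G a) : ∃ k ∈ Ksub G a t, y⁻¹ * (k * x * k⁻¹) ∈ Zsub G a := by
  classical
  set Zq := (Zsub G a).subgroupOf Q
  have hka : ∀ k : Ksub G a t, (k : G) • a = a := fun k => (mem_twoPt.1 (Ksub_le hS h2 k.2)).1
  let F : Option (Ksub G a t) → Q ⧸ Zq := fun o => o.elim (QuotientGroup.mk 1) fun k =>
    QuotientGroup.mk ⟨(k : G) * x * (k : G)⁻¹, Q_conj hS (hka k) hx⟩
  have hne : ∀ k : Ksub G a t, F (some k) ≠ F none := fun k e => by
    have e' := QuotientGroup.eq.1 e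
    rw [Subgroup.mem_subgroupOf] at e'
    simp only [Subgroup.coe_mul, Subgroup.coe_inv, OneMemClass.coe_one, mul_one, inv_mem_iff] at e'
    have := Zsub_conj hS h2 (g := (k : G)⁻¹) (inv_smul_eq_iff.2 (hka k).symm) e'
    exact hxZ (by simpa [mul_assoc] using this)
  have hinj : Function.Injective F := by
    rintro (_ | k) (_ | l) e
    · rfl
    · exact absurd e.symm (hne l)
    · exact absurd e (hne k)
    · have e' := QuotientGroup.eq.1 e
      rw [Subgroup.mem_subgroupOf] at e'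
      simp only [Subgroup.coe_mul, Subgroup.coe_inv] at e'
      by_contra hkl
      have hj1 : (k : G)⁻¹ * l ≠ 1 := fun h => hkl (by rw [Subtype.ext (inv_mul_eq_one.1 h)])
      refine hxZ (Ksub_fpf_mod hS h2 (mul_mem (inv_mem k.2) l.2) hj1 hx ?_)
      have := Zsub_conj hS h2 (g := (k : G)⁻¹) (inv_smul_eq_iff.2 (hka k).symm) e'
      simpa [mul_assoc] using this
  have hbij : Function.Bijective F := (Nat.bijective_iff_injective_and_card F).2
    ⟨hinj, by rw [Finite.card_option, card_quotient_Zsub hS h2 hcard, card_Zsub hS h2]⟩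
  obtain ⟨o, ho⟩ := hbij.2 (QuotientGroup.mk ⟨y, hy⟩)
  rcases o with _ | k
  · have e' := QuotientGroup.eq.1 ho
    rw [Subgroup.mem_subgroupOf] at e'
    exact absurd (by simpa using e') hyZ
  · have e' := QuotientGroup.eq.1 ho.symm
    rw [Subgroup.mem_subgroupOf] at e'
    exact ⟨k, k.2, by simpa using e'⟩

theorem nontrivial_quotient_Zsub : Nontrivial (Q ⧸ (Zsub G a).subgroupOf Q) := by
  rw [← Finite.one_lt_card_iff_nontrivial, card_quotient_Zsub hS h2 hcard, card_Zsub hS h2]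
  have : 0 < Nat.card (Ksub G a t) := Nat.card_pos
  omega

variable [FaithfulSMul G Ω]

/-- Squares of elements of `Q` lie in `Z`. -/
theorem sq_mem_Zsub_of_card {y : G} (hy : y ∈ Q) : y * y ∈ Zsub G a := by
  by_cases hyZ : y ∈ Zsub G a
  · exact mul_mem hyZ hyZ
  haveI := Zsub_subgroupOf_normal hS h2 hcard
  haveI := nontrivial_quotient_Zsub hS h2 hcard
  haveI : Fact (Nat.Prime 2) := ⟨Nat.prime_two⟩
  obtain ⟨n, hn, hc⟩ := (IsPGroup.nontrivial_iff_card
    ((isPGroup_two_Q hS h2).to_quotient ((Zsub G a).subgroupOf Q))).1 inferInstance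
  obtain ⟨c, hc2⟩ := exists_prime_orderOf_dvd_card' (G := Q ⧸ (Zsub G a).subgroupOf Q) 2
    (hc ▸ dvd_pow_self 2 hn.ne')
  obtain ⟨⟨x, hx⟩, rfl⟩ := QuotientGroup.mk_surjective c
  have hxZ : x ∉ Zsub G a := fun h => by
    rw [(QuotientGroup.eq_one_iff (⟨x, hx⟩ : Q)).2 (Subgroup.mem_subgroupOf.2 h), orderOf_one] at hc2
    exact absurd hc2 (by norm_num)
  have hx2 : x * x ∈ Zsub G a := by
    have h := pow_orderOf_eq_one (QuotientGroup.mk ⟨x, hx⟩ : Q ⧸ (Zsub G a).subgroupOf Q)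
    rw [hc2, pow_two, ← QuotientGroup.mk_mul, QuotientGroup.eq_one_iff, Subgroup.mem_subgroupOf] at h
    exact h
  obtain ⟨k, hk, hz⟩ := exists_Ksub_conj_mem hS h2 hcard hx hy hxZ hyZ
  have hka := (mem_twoPt.1 (Ksub_le hS h2 hk)).1
  set z := y⁻¹ * (k * x * k⁻¹) with hzdef
  have hyeq : y = k * x * k⁻¹ * z⁻¹ := by rw [hzdef]; group
  have hzc := Zsub_comm hS h2 (inv_mem hz) (Q_conj hS hka hx)
  have : y * y = k * (x * x) * k⁻¹ * (z⁻¹ * z⁻¹) := by
    rw [hyeq]
    calc k * x * k⁻¹ * z⁻¹ * (k * x * k⁻¹ * z⁻¹)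
        = k * x * k⁻¹ * (z⁻¹ * (k * x * k⁻¹)) * z⁻¹ := by group
      _ = k * x * k⁻¹ * (k * x * k⁻¹ * z⁻¹) * z⁻¹ := by rw [hzc]
      _ = _ := by group
  rw [this]
  exact mul_mem (Zsub_conj hS h2 hka hx2) (mul_mem (inv_mem hz) (inv_mem hz))

/-- An element of `D` centralising `Z` is trivial. -/
theorem eq_one_of_centralizes_Zsub {w : G} (hw : w ∈ twoPt G a t)
    (hwZ : ∀ z ∈ Zsub G a, w * z = z * w) : w = 1 := by
  classical
  obtain ⟨s, s', -, hs, -⟩ := exists_two_invols hS h2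
  have hsZ : s ∈ Zsub G a := Subgroup.subset_closure hs
  have hwa := (mem_twoPt.1 hw).1
  have hwc : ∀ k ∈ Ksub G a t, w * k * w⁻¹ = k := by
    intro k hk
    have hka := (mem_twoPt.1 (Ksub_le hS h2 hk)).1
    have hz' := Zsub_conj hS h2 hka hsZ
    obtain ⟨k₀, -, hu⟩ := Ksub_regular hS h2 hsZ (mem_invols.1 hs).2.1 hz'
      (conj_ne_one (mem_invols.1 hs).2.1 k)
    refine (congrArg Subtype.val ((hu ⟨_, Ksub_conj hS h2 hw hk⟩ ?_).trans (hu ⟨k, hk⟩ rfl).symm))
    show w * k * w⁻¹ * s * (w * k * w⁻¹)⁻¹ = k * s * k⁻¹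
    calc w * k * w⁻¹ * s * (w * k * w⁻¹)⁻¹ = w * (k * (w⁻¹ * (s * w)) * k⁻¹) * w⁻¹ := by group
      _ = w * (k * s * k⁻¹) * w⁻¹ := by rw [← hwZ s hsZ]; group
      _ = _ := by rw [hwZ _ hz', mul_inv_cancel_right]
  have hwQ : ∀ x ∈ Q, w * x * w⁻¹ = x := by
    intro x hx
    by_cases hxZ : x ∈ Zsub G a
    · rw [hwZ x hxZ, mul_inv_cancel_right]
    have hwx : w * x * w⁻¹ ∈ Q := Q_conj hS hwa hx
    have hwxZ : w * x * w⁻¹ ∉ Zsub G a := fun h => hxZ (by
      have e : x = w * x * w⁻¹ := by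
        calc x = w⁻¹ * (w * x * w⁻¹ * w) := by group
          _ = w⁻¹ * (w * (w * x * w⁻¹)) := by rw [hwZ _ h]
          _ = _ := by group
      rw [e]; exact h)
    obtain ⟨k, hk, hz⟩ := exists_Ksub_conj_mem hS h2 hcard hx hwx hxZ hwxZ
    have hka := (mem_twoPt.1 (Ksub_le hS h2 hk)).1
    set z := (w * x * w⁻¹)⁻¹ * (k * x * k⁻¹) with hzdef
    have hsq := sq_mem_Zsub_of_card hS h2 hcard hx
    have hx2 : x * x ≠ 1 := fun e => hxZ ((mem_Zsub_iff hS h2).2 (Or.inr (mem_invols.2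
      ⟨Q_smul hS hx, fun h1 => hxZ (h1 ▸ one_mem _), e⟩)))
    have hkx : k * (x * x) * k⁻¹ = x * x := by
      have e : k * x * k⁻¹ = w * x * w⁻¹ * z := by rw [hzdef]; group
      calc k * (x * x) * k⁻¹ = k * x * k⁻¹ * (k * x * k⁻¹) := by group
        _ = w * x * w⁻¹ * (z * (w * x * w⁻¹)) * z := by rw [e]; group
        _ = w * x * w⁻¹ * (w * x * w⁻¹ * z) * z := by rw [Zsub_comm hS h2 hz hwx]
        _ = w * (x * x) * w⁻¹ * (z * z) := by group
        _ = x * x := by rw [Zsub_sq hS h2 hz, mul_one, hwZ _ hsq, mul_inv_cancel_right]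
    obtain ⟨k₀, -, hu⟩ := Ksub_regular hS h2 hsq hx2 hsq hx2
    have hk1 : k = 1 := congrArg Subtype.val ((hu ⟨k, hk⟩ hkx).trans (hu 1 (by simp)).symm)
    rw [hk1] at hzdef
    have hstep : w * x * w⁻¹ = x * z := by
      calc w * x * w⁻¹ = 1 * x * 1⁻¹ * ((w * x * w⁻¹)⁻¹ * (1 * x * 1⁻¹))⁻¹ := by group
        _ = x * z⁻¹ := by rw [← hzdef]; group
        _ = x * z := by rw [inv_eq_of_mul_eq_one_right (Zsub_sq hS h2 hz)]
    have hpow : ∀ i : ℕ, w ^ i * x * (w ^ i)⁻¹ = x * z ^ i := by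
      intro i
      induction i with
      | zero => simp
      | succ i ih =>
        have hzi : w * z ^ i * w⁻¹ = z ^ i := by
          rw [hwZ _ (pow_mem hz i), mul_inv_cancel_right]
        calc w ^ (i + 1) * x * (w ^ (i + 1))⁻¹ = w * (w ^ i * x * (w ^ i)⁻¹) * w⁻¹ := by
              rw [pow_succ']; group
          _ = w * x * w⁻¹ * (w * z ^ i * w⁻¹) := by rw [ih]; group
          _ = x * z ^ (i + 1) := by rw [hzi, hstep, pow_succ']; group
    have hn := hpow (orderOf w)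
    rw [pow_orderOf_eq_one, one_mul, inv_one, mul_one, left_eq_mul] at hn
    obtain ⟨m, hm⟩ := odd_twoPt hS hw
    rw [hm, pow_succ, pow_mul, pow_two, Zsub_sq hS h2 hz, one_pow, one_mul] at hn
    rw [hstep, hn, mul_one]
  refine eq_of_smul_eq_smul (α := Ω) fun c => ?_
  rw [one_smul]
  by_cases hc : c = a
  · rw [hc, hwa]
  obtain ⟨q, hq, rfl⟩ := Q_trans hS hc
  rw [smul_smul, show w * q = q * w from mul_inv_eq_iff_eq_mul.1 (hwQ q hq), mul_smul,
    (mem_twoPt.1 hw).2]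

/-- `D = K` when the involutions generate. -/
theorem twoPt_eq_Ksub_of_sq (hgen : Lsub G = ⊤) : twoPt G a t = Ksub G a t := by
  classical
  haveI := Fintype.ofFinite G
  haveI := CfsgLib.RankOneInvol.finite_omega hS
  haveI := Fintype.ofFinite Ω
  haveI hpre : MulAction.IsPretransitive G Ω := ⟨fun x y => by
    obtain ⟨g, rfl⟩ := CfsgLib.RankOneInvol.exists_smul hS x
    obtain ⟨g', rfl⟩ := CfsgLib.RankOneInvol.exists_smul hS y
    exact ⟨g' * g⁻¹, by rw [mul_smul, inv_smul_smul]⟩⟩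
  refine le_antisymm (fun d₁ hd₁ => ?_) (Ksub_le hS h2)
  by_contra hd₁K
  set H := stabilizer G a with hH
  -- the subgroup `Q K` of `H`
  let M : Subgroup G :=
    { carrier := {g | ∃ q ∈ Q, ∃ k ∈ Ksub G a t, g = q * k}
      one_mem' := ⟨1, Q.one_mem, 1, one_mem _, (mul_one 1).symm⟩
      mul_mem' := fun {g g'} ⟨q, hq, k, hk, e⟩ ⟨q', hq', k', hk', e'⟩ =>
        ⟨q * (k * q' * k⁻¹), Q.mul_mem hq (Q_conj hS (mem_twoPt.1 (Ksub_le hS h2 hk)).1 hq'),
          k * k', mul_mem hk hk', by rw [e, e']; group⟩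
      inv_mem' := fun {g} ⟨q, hq, k, hk, e⟩ => ⟨k⁻¹ * q⁻¹ * k⁻¹⁻¹,
        Q_conj hS (mem_twoPt.1 (Ksub_le hS h2 (inv_mem hk))).1 (Q.inv_mem hq), k⁻¹, inv_mem hk,
        by rw [e]; group⟩ }
  have hQM : Q ≤ M := fun q hq => ⟨q, hq, 1, one_mem _, (mul_one q).symm⟩
  have hKM : Ksub G a t ≤ M := fun k hk => ⟨1, Q.one_mem, k, hk, (one_mul k).symm⟩
  haveI hMn : (M.subgroupOf H).Normal := ⟨fun n hn g => by
    rw [Subgroup.mem_subgroupOf] at hn ⊢
    obtain ⟨q, hq, k, hk, e⟩ := hn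
    obtain ⟨q', hq', d, hd, e'⟩ := decomp hS (show (g : G) • a = a from g.2)
    rw [Subgroup.coe_mul, Subgroup.coe_mul, Subgroup.coe_inv, e, e',
      show q' * d * (q * k) * (q' * d)⁻¹ = q' * ((d * q * d⁻¹) * (d * k * d⁻¹)) * q'⁻¹ by group]
    exact mul_mem (mul_mem (hQM hq') (mul_mem (hQM (Q_conj hS (mem_twoPt.1 hd).1 hq))
      (hKM (Ksub_conj hS h2 hd hk)))) (hQM (Q.inv_mem hq'))⟩
  have hVcomm : ∀ v ∈ twoPt G a t, ∀ v' ∈ twoPt G a t, t * v * t = v → t * v' * t = v' →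
      v * v' = v' * v := by
    obtain ⟨f, -, -, hfE⟩ := exists_exponent hS h2
    let V : Subgroup G :=
      { carrier := {v | v ∈ twoPt G a t ∧ t * v * t = v}
        one_mem' := ⟨one_mem _, by rw [mul_one, hS.mul_self]⟩
        mul_mem' := fun {v w} hv hw => ⟨mul_mem hv.1 hw.1, by rw [conj_t_mul hS, hv.2, hw.2]⟩
        inv_mem' := fun {v} hv => ⟨inv_mem hv.1, by rw [conj_t_inv hS, hv.2]⟩ }
    have hcyc := (hfE V (fun v hv => hv.1) fun e he hek => eq_one_of_centralizes_Zsub hS h2 hcard he.1 fun z hz => by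
      obtain ⟨s, r, h⟩ := exists_paired_right hS (isSwap_t hS)
      have hes := (centralizer_base hS h he.1).2 he.2
      rcases (mem_Zsub_iff hS h2).1 hz with rfl | hz'
      · rw [one_mul, mul_one]
      obtain ⟨k, hk, rfl⟩ := invols_eq_conj hS h hz'
      have hkc : Commute e k := hek k ((mem_Ksub_iff hS h2).2 hk)
      exact ((hkc.inv_right.mul_right hes).mul_right hkc).eq).1
    intro v hv v' hv' hvt hvt'
    haveI := hcyc
    exact congrArg Subtype.val (IsCyclic.commutative.is_comm.comm (⟨v, hv, hvt⟩ : V) ⟨v', hv', hvt'⟩)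
  have hrep : ∀ g : H, ∃ v : H, (v : G) ∈ twoPt G a t ∧ t * (v : G) * t = v ∧
      (QuotientGroup.mk g : H ⧸ M.subgroupOf H) = QuotientGroup.mk v := by
    intro g
    obtain ⟨q, hq, d, hd, e⟩ := decomp hS (show (g : G) • a = a from g.2)
    obtain ⟨v, k, hv, hvt, hk, rfl⟩ := decomp_V hS hd
    refine ⟨⟨v, (mem_twoPt.1 hv).1⟩, hv, hvt, ?_⟩
    rw [QuotientGroup.eq, Subgroup.mem_subgroupOf, Subgroup.coe_mul, Subgroup.coe_inv, e]
    rw [show (q * (v * k))⁻¹ * v = k⁻¹ * (v⁻¹ * q⁻¹ * v⁻¹⁻¹) by group]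
    exact mul_mem (hKM (inv_mem ((mem_Ksub_iff hS h2).2 hk)))
      (hQM (Q_conj hS (mem_twoPt.1 (inv_mem hv)).1 (Q.inv_mem hq)))
  letI : CommGroup (H ⧸ M.subgroupOf H) :=
    { (inferInstance : Group (H ⧸ M.subgroupOf H)) with
      mul_comm := fun x y => by
        induction x using QuotientGroup.induction_on with
        | _ g =>
          induction y using QuotientGroup.induction_on with
          | _ g' =>
            obtain ⟨v, hv, hvt, e⟩ := hrep g
            obtain ⟨v', hv', hvt', e'⟩ := hrep g'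
            rw [e, e', ← QuotientGroup.mk_mul, ← QuotientGroup.mk_mul]
            exact congrArg _ (Subtype.ext (hVcomm _ hv _ hv' hvt hvt')) }
  have hx₁ : (QuotientGroup.mk (⟨d₁, (mem_twoPt.1 hd₁).1⟩ : H) : H ⧸ M.subgroupOf H) ≠ 1 := by
    rw [ne_eq, QuotientGroup.eq_one_iff, Subgroup.mem_subgroupOf]
    rintro ⟨q, hq, k, hk, e⟩
    have := decomp_unique hS Q.one_mem hq hd₁ (Ksub_le hS h2 hk) (by rw [one_mul]; exact e)
    exact hd₁K (this.2 ▸ hk)
  obtain ⟨f₀, hf₀⟩ := CommGroup.exists_apply_ne_one_of_hasEnoughRootsOfUnity _ ℂ hx₁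
  set η : H →* ℂˣ := f₀.comp (QuotientGroup.mk' (M.subgroupOf H)) with hη
  have hηM : ∀ h : H, (h : G) ∈ M → η h = 1 := fun h hh => by
    rw [hη, MonoidHom.comp_apply, QuotientGroup.mk'_apply, (QuotientGroup.eq_one_iff h).2 hh, map_one]
  set θ : H → ℂ := fun h => (η h : ℂ) with hθ
  have hθcl : Cfsg.IsClassFunction H θ := fun g h => by
    show ((η (h * g * h⁻¹) : ℂˣ) : ℂ) = (η g : ℂˣ)
    rw [map_mul, map_mul, map_inv, mul_comm (η h), mul_inv_cancel_right]
  set τ : G → ℂ := Cfsg.indFun H θ with hτ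
  have hτchar : Cfsg.IsCharacter G τ :=
    Induction.isCharacter_indFun H (irr_isCharacter (linearIrr η))
  have hτcl := isClassFunction_of_isCharacter hτchar
  set π : G → ℂ := fun g => ((Finset.univ.filter fun c : Ω => g • c = c).card : ℂ) with hπ
  have htr := CfsgLib.RankOneInvol.exists_smul hS
  -- `τ = η π` on `H`
  have hτH : ∀ h : H, τ h = θ h * π h := by
    intro h
    rw [hτ, indFun_stabilizer_eq htr hθcl _ (fun _ => θ h) ?_, Finset.sum_const, nsmul_eq_mul, mul_comm]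
    intro x hx
    show ((η _ : ℂˣ) : ℂ) = (η h : ℂˣ)
    congr 1
    by_cases hxa : x • a = a
    · have : (⟨_, hx⟩ : H) = ⟨x, hxa⟩⁻¹ * h * ⟨x, hxa⟩ := rfl
      rw [this, map_mul, map_mul, map_inv, mul_comm, mul_inv_cancel_left]
    obtain ⟨q, hq, hqc⟩ := Q_trans hS hxa
    have hh' : (q * t)⁻¹ * x ∈ H := by
      rw [hH, mem_stabilizer_iff, mul_smul, inv_smul_eq_iff, mul_smul, hqc]
    have hd : q⁻¹ * h * q ∈ twoPt G a t := by
      refine mem_twoPt.2 ⟨?_, ?_⟩
      · rw [mul_smul, mul_smul, Q_smul hS hq, show (h : G) • a = a from h.2, Q_smul hS (Q.inv_mem hq)]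
      · have hfix : (h : G) • x • a = x • a := by
          have := mem_stabilizer_iff.1 hx
          rwa [mul_smul, mul_smul, inv_smul_eq_iff] at this
        rw [mul_smul, mul_smul, hqc, hfix, ← hqc, inv_smul_smul]
    have hd' : t * (q⁻¹ * h * q) * t ∈ H := (mem_twoPt.1 (conj_t_twoPt hS hd)).1
    have e1 : (⟨_, hx⟩ : H) = (⟨_, hh'⟩ : H)⁻¹ * ⟨_, hd'⟩ * ⟨_, hh'⟩ := Subtype.ext (by
      simp only [Subgroup.coe_mul, Subgroup.coe_inv, mul_inv_rev, t_inv hS, inv_inv, mul_assoc,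
        tt_cancel hS, mul_inv_cancel_left, inv_mul_cancel_left])
    obtain ⟨v, k, hv, hvt, hk, e⟩ := decomp_V hS hd
    have hkK := (mem_Ksub_iff hS h2).2 hk
    have hvH : v ∈ H := (mem_twoPt.1 hv).1
    have hkH : k ∈ H := (mem_twoPt.1 (Ksub_le hS h2 hkK)).1
    have e2 : (⟨_, hd'⟩ : H) = ⟨v, hvH⟩ * ⟨k, hkH⟩⁻¹ := Subtype.ext (by
      simp only [Subgroup.coe_mul, Subgroup.coe_inv]
      rw [e, conj_t_mul hS, hvt, ((mem_invSet hS).1 hk).2])
    have e3 : h = ⟨q, Q_smul hS hq⟩ * (⟨v, hvH⟩ * ⟨k, hkH⟩) * ⟨q, Q_smul hS hq⟩⁻¹ := Subtype.ext (by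
      simp only [Subgroup.coe_mul, Subgroup.coe_inv]
      rw [← e]; group)
    have hkη : η ⟨k, hkH⟩ = 1 := hηM _ (hKM hkK)
    rw [e1, map_mul, map_mul, map_inv, mul_comm, mul_inv_cancel_left, e2, e3]
    simp only [map_mul, map_inv, hkη, inv_one, mul_one]
    rw [mul_comm (η _) (η ⟨v, hvH⟩), mul_inv_cancel_right]
  -- `τ = π` on products of two involutions
  have hτuv : ∀ u v : G, u * u = 1 → v * v = 1 → τ (u * v) = π (u * v) := by
    intro u v hu hv
    rw [hτ, indFun_stabilizer_eq htr hθcl _ (fun _ => 1) ?_, Finset.sum_const, nsmul_one]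
    intro x hx
    show ((η _ : ℂˣ) : ℂ) = 1
    rw [← Units.val_one]
    congr 1
    refine hηM _ ?_
    show x⁻¹ * (u * v) * x ∈ M
    have hconj : ∀ {w : G}, w * w = 1 → x⁻¹ * w * x * (x⁻¹ * w * x) = 1 := fun {w} hw => by
      calc x⁻¹ * w * x * (x⁻¹ * w * x) = x⁻¹ * (w * w) * x := by group
        _ = 1 := by rw [hw]; group
    set u' := x⁻¹ * u * x
    set y := x⁻¹ * (u * v) * x with hy
    have hyv : y = u' * (x⁻¹ * v * x) := by
      show x⁻¹ * (u * v) * x = x⁻¹ * u * x * (x⁻¹ * v * x)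
      group
    have hu'2 : u' * u' = 1 := hconj hu
    have hya : y • a = a := hx
    by_cases hua : u' • a = a
    · have hva : (x⁻¹ * v * x) • a = a := by
        rw [show x⁻¹ * v * x = u' * y by rw [hyv, ← mul_assoc, hu'2, one_mul], mul_smul, hya, hua]
      rw [hyv]
      exact mul_mem (hQM (inv_mem_Q_of_fixed hS hu'2 hua)) (hQM (inv_mem_Q_of_fixed hS (hconj hv) hva))
    obtain ⟨q, hq, hqc⟩ := Q_trans hS hua
    have hu'1 : u' ≠ 1 := fun e => hua (by rw [e, one_smul])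
    have hinv : u' * y * u' = y⁻¹ := by
      calc u' * y * u' = u' * u' * (x⁻¹ * v * x) * u' := by rw [hyv]; simp only [mul_assoc]
        _ = x⁻¹ * v * x * u' := by rw [hu'2, one_mul]
        _ = y⁻¹ := by
          rw [hyv, mul_inv_rev, inv_eq_of_mul_eq_one_right hu'2,
            inv_eq_of_mul_eq_one_right (hconj hv)]
    have hyc : y • u' • a = u' • a := by
      have hyu : y * u' = u' * y⁻¹ := by rw [← hinv]; simp [← mul_assoc, hu'2]
      rw [smul_smul, hyu, mul_smul, inv_smul_eq_iff.2 hya.symm]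
    set d := q⁻¹ * y * q with hddef
    have hd : d ∈ twoPt G a t := by
      refine mem_twoPt.2 ⟨?_, ?_⟩
      · rw [mul_smul, mul_smul, Q_smul hS hq, hya, Q_smul hS (Q.inv_mem hq)]
      · rw [mul_smul, mul_smul, hqc, hyc, ← hqc, inv_smul_smul]
    set w := q⁻¹ * u' * q with hwdef
    have hw : IsSwap G a t w := by
      refine ⟨?_, ?_, ?_⟩
      · exact conj_ne_one' hu'1 q
      · calc w * w = q⁻¹ * (u' * u') * q := by rw [hwdef]; group
          _ = 1 := by rw [hu'2]; group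
      · rw [hwdef, mul_smul, mul_smul, Q_smul hS hq, ← hqc, inv_smul_smul]
    obtain ⟨k, hk, hwk⟩ := swap_eq_conj_t hS hw
    have hwd : w * d * w = d⁻¹ := by
      calc w * d * w = q⁻¹ * (u' * y * u') * q := by rw [hwdef, hddef]; group
        _ = d⁻¹ := by rw [hinv, hddef]; group
    have hkD := ((mem_invSet hS).1 hk).1
    have he : k * d * k⁻¹ ∈ invSet G a t := (mem_invSet hS).2 ⟨mul_mem (mul_mem hkD hd) (inv_mem hkD), by
      calc t * (k * d * k⁻¹) * t = k * ((k⁻¹ * t * k) * d * (k⁻¹ * t * k)) * k⁻¹ := by group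
        _ = (k * d * k⁻¹)⁻¹ := by rw [← hwk, hwd]; group⟩
    have hdK : d ∈ Ksub G a t := by
      have := Ksub_conj hS h2 (inv_mem hkD) ((mem_Ksub_iff hS h2).2 he)
      simpa [mul_assoc] using this
    rw [show y = q * d * q⁻¹ by rw [hddef]; group]
    exact mul_mem (mul_mem (hQM hq) (hKM hdK)) (hQM (Q.inv_mem hq))
  -- cardinalities
  set q := Nat.card (Zsub G a) with hqdef
  obtain ⟨e₀, he₀2, hqe₀, -⟩ := exists_exponent hS h2
  have hq4 : 4 ≤ q := by
    rw [hqdef, hqe₀]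
    calc 4 = 2 ^ 2 := rfl
      _ ≤ 2 ^ e₀ := Nat.pow_le_pow_right (by norm_num) he₀2
  have hqeven : 2 ∣ q := by rw [hqdef, hqe₀]; exact dvd_pow_self 2 (by omega)
  have hΩ : Fintype.card Ω = q ^ 2 + 1 := by
    rw [← Nat.card_eq_fintype_card, RankOne.card_omega hS, hcard]
  have hπQ : ∀ x ∈ Q, x ≠ 1 → π x = 1 := fun x hx hx1 => by
    simp only [hπ]
    rw [show (Finset.univ.filter fun c : Ω => x • c = c) = {a} from ?_]
    · simp
    ext c
    simp only [Finset.mem_filter, Finset.mem_univ, true_and, Finset.mem_singleton]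
    exact ⟨fun hc => (RankOne.smul_eq_self_iff hS hx hx1).1 hc, fun e => e ▸ Q_smul hS hx⟩
  have hπ1 : π 1 = (q : ℂ) ^ 2 + 1 := by simp [hπ, hΩ]
  have hτQ : ∀ x ∈ Q, x ≠ 1 → τ x = 1 := fun x hx hx1 => by
    have := hτH ⟨x, Q_smul hS hx⟩
    rw [this, hπQ x hx hx1, mul_one]
    show ((η _ : ℂˣ) : ℂ) = 1
    rw [hηM _ (hQM hx), Units.val_one]
  have hτ1 : τ 1 = (q : ℂ) ^ 2 + 1 := by
    have := hτH 1
    simp only [hθ, map_one, Units.val_one, one_mul, OneMemClass.coe_one, hπ1] at this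
    exact this
  -- the involutions
  obtain ⟨s, -, -, hs, -⟩ := exists_two_invols hS h2
  obtain ⟨hsa, hs1, hs2⟩ := mem_invols.1 hs
  have hsQ : s ∈ Q := inv_mem_Q_of_fixed hS hs2 hsa
  set C : Finset G := Finset.univ.filter fun u => u ≠ 1 ∧ u * u = 1 with hC
  have hCmem : ∀ u, u ∈ C ↔ u ≠ 1 ∧ u * u = 1 := fun u => by simp [hC]
  have hCinv : ∀ g h : G, h * g * h⁻¹ ∈ C ↔ g ∈ C := fun g h => by
    rw [hCmem, hCmem]
    exact and_congr (not_congr (by rw [mul_inv_eq_one, mul_eq_left]))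
      (by rw [show h * g * h⁻¹ * (h * g * h⁻¹) = h * (g * g) * h⁻¹ by group, mul_inv_eq_one, mul_eq_left])
  have hCval : ∀ (φ : G → ℂ), Cfsg.IsClassFunction G φ → ∀ u ∈ C, φ u = φ s := fun φ hφ u hu => by
    obtain ⟨g, rfl⟩ := invol_conj hS hs1 hs2 ((hCmem u).1 hu).1 ((hCmem u).1 hu).2
    rw [hφ s g]
  have hC0 : (C.card : ℂ) ≠ 0 := Nat.cast_ne_zero.2 (Finset.card_ne_zero.2 ⟨s, (hCmem s).2 ⟨hs1, hs2⟩⟩)
  -- the norm of `τ`
  have hnorm : Cfsg.classInner τ τ = 2 := by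
    haveI := Fintype.ofFinite (Quotient (MulAction.orbitRel H Ω))
    rw [Induction.classInner_indFun H θ hτcl]
    have hval : ∀ h : H, θ h * conj (τ h) = π h := fun h => by
      rw [hτH h, map_mul, ← mul_assoc, show conj (π h) = π h from Complex.conj_natCast _]
      have : θ h * conj (θ h) = 1 := by
        rw [show conj (θ h) = ((η h⁻¹ : ℂˣ) : ℂ) from (irr_apply_inv (linearIrr η) h).symm]
        show ((η h : ℂˣ) : ℂ) * ((η h⁻¹ : ℂˣ) : ℂ) = 1
        rw [← Units.val_mul, ← map_mul, mul_inv_cancel, map_one, Units.val_one]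
      rw [this, one_mul]
    rw [Cfsg.classInner, Finset.sum_congr rfl fun h _ => hval h]
    have hfix : ∀ h : H, π h = (Nat.card (fixedBy Ω h) : ℂ) := fun h => by
      rw [Nat.card_eq_fintype_card, Fintype.card_subtype]
      rfl
    rw [Finset.sum_congr rfl fun h _ => hfix h, PermTwo.sum_fixedBy (G := H) Ω]
    have h2orb : Nat.card (Quotient (MulAction.orbitRel H Ω)) = 2 := by
      rw [← Fintype.card_bool, ← Nat.card_eq_fintype_card (α := Bool)]
      refine (Nat.card_eq_of_bijective (fun b : Bool => Quotient.mk _ (if b then a else t • a))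
        ⟨?_, fun o => ?_⟩).symm
      · have hne : ¬ (MulAction.orbitRel H Ω) (t • a) a := fun h => by
          obtain ⟨g, hg⟩ := h
          exact ta_ne hS (hg.symm.trans g.2)
        intro b b' e
        rcases b <;> rcases b' <;> first | rfl | skip
        · exact absurd (Quotient.exact e) hne
        · exact absurd (Quotient.exact e.symm) hne
      · induction o using Quotient.inductionOn with
        | _ c =>
          by_cases hc : c = a
          · exact ⟨true, by simp [hc]⟩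
          · obtain ⟨x, hx, rfl⟩ := Q_trans hS hc
            exact ⟨false, (Quotient.sound (⟨⟨x, Q_smul hS hx⟩, rfl⟩ :
              MulAction.orbitRel H Ω (x • t • a) (t • a))).symm⟩
    rw [h2orb, Nat.cast_two, mul_comm (2 : ℂ), inv_mul_cancel_left₀]
    exact Nat.cast_ne_zero.2 Nat.card_pos.ne'
  obtain ⟨χ₁, χ₂, ε₁, ε₂, hne, hε₁, hε₂, hdec⟩ :=
    SL2Char.exists_pair_of_norm_two (isGeneralizedCharacter_of_isCharacter hτchar) hnorm
  have hcoef : ∀ (χ : Cfsg.IrrCharacter G) (ε : ℤ), (ε = 1 ∨ ε = -1) →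
      Cfsg.classInner τ (χ : G → ℂ) = (ε : ℂ) → ε = 1 := by
    intro χ ε hε he
    obtain ⟨n, hn⟩ := classInner_char_nat hτchar (irr_isCharacter χ)
    rw [hn] at he
    have : (n : ℤ) = ε := by exact_mod_cast he
    omega
  have hε₁' : ε₁ = 1 := hcoef χ₁ ε₁ hε₁ (by
    rw [hdec, classInner_add_left, classInner_smul_left, classInner_smul_left, classInner_irr_self χ₁.2,
      classInner_irr, if_neg (Ne.symm hne), mul_one, mul_zero, add_zero])
  have hε₂' : ε₂ = 1 := hcoef χ₂ ε₂ hε₂ (by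
    rw [hdec, classInner_add_left, classInner_smul_left, classInner_smul_left, classInner_irr_self χ₂.2,
      classInner_irr, if_neg hne, mul_one, mul_zero, zero_add])
  subst hε₁' hε₂'
  simp only [Int.cast_one, one_smul] at hdec
  have hdec' : ∀ g, τ g = (χ₁ : G → ℂ) g + (χ₂ : G → ℂ) g := fun g => congrFun hdec g
  -- the Steinberg character and the class sum identity
  have hSt : Cfsg.IsIrrCharacter G (fun g => (Nat.card (fixedBy Ω g) : ℂ) - 1) :=
    (PermTwo.isIrrCharacter_fix_sub_one_iff (by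
      rw [Nat.card_eq_fintype_card, hΩ]; nlinarith)).2 hS.two_transitive
  have hπfix : ∀ g, π g = (Nat.card (fixedBy Ω g) : ℂ) := fun g => by
    rw [Nat.card_eq_fintype_card, Fintype.card_subtype]
    rfl
  have hsumπ : ∑ u ∈ C, ∑ v ∈ C, π (u * v) = (C.card : ℂ) ^ 2 := by
    have h1 := sum_pair_irr ⟨_, hSt⟩ C hCinv (T := 0) fun u hu => by
      have hval := hCval _ (irr_isClassFunction ⟨_, hSt⟩) u hu
      dsimp only at hval ⊢
      rw [hval, ← hπfix, hπQ s hsQ hs1, sub_self]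
    dsimp only at h1
    simp only [Finset.sum_sub_distrib, Finset.sum_const, nsmul_eq_mul, mul_one] at h1
    simp only [hπfix]
    linear_combination h1
  set T₁ := (χ₁ : G → ℂ) s
  set T₂ := (χ₂ : G → ℂ) s
  have hkey : T₁ ^ 2 / (χ₁ : G → ℂ) 1 + T₂ ^ 2 / (χ₂ : G → ℂ) 1 = 1 := by
    have h1 := sum_pair_irr χ₁ C hCinv (hCval _ (irr_isClassFunction χ₁))
    have h2' := sum_pair_irr χ₂ C hCinv (hCval _ (irr_isClassFunction χ₂))
    have h3 : ∑ u ∈ C, ∑ v ∈ C, τ (u * v) = (C.card : ℂ) ^ 2 := by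
      rw [← hsumπ]
      exact Finset.sum_congr rfl fun u hu => Finset.sum_congr rfl fun v hv =>
        hτuv u v ((hCmem u).1 hu).2 ((hCmem v).1 hv).2
    simp only [hdec', Finset.sum_add_distrib, h1, h2'] at h3
    refine mul_left_cancel₀ (pow_ne_zero 2 hC0) ?_
    linear_combination h3
  -- a linear character of `Q / Z`
  haveI := Zsub_subgroupOf_normal hS h2 hcard
  haveI := nontrivial_quotient_Zsub hS h2 hcard
  haveI : Fact (Nat.Prime 2) := ⟨Nat.prime_two⟩
  haveI : Group.IsNilpotent (Q ⧸ (Zsub G a).subgroupOf Q) :=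
    ((isPGroup_two_Q hS h2).to_quotient _).isNilpotent
  obtain ⟨μ₀, x₀, hx₀⟩ := exists_linear_ne_one (Q ⧸ (Zsub G a).subgroupOf Q)
  set μ : Q →* ℂˣ := μ₀.comp (QuotientGroup.mk' _) with hμ
  obtain ⟨x₁, rfl⟩ := QuotientGroup.mk'_surjective ((Zsub G a).subgroupOf Q) x₀
  set f : Q → ℂ := fun x => ((μ x⁻¹ : ℂˣ) : ℂ) with hf
  have hf0 : ∑ x : Q, f x = 0 := by
    have h : ∑ x : Q, ((μ x : ℂˣ) : ℂ) = 0 :=
      sum_hom_units_eq_zero ((Units.coeHom ℂ).comp μ) fun e => hx₀ (by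
        have := congrArg (fun g : Q →* ℂ => g x₁) e
        simpa [hμ] using this)
    rw [← h]
    exact Fintype.sum_equiv (Equiv.inv Q) _ _ fun x => rfl
  haveI := Fintype.ofFinite (Zsub G a)
  have hfZ : ∀ (x : Q) (z : Zsub G a), f (x * ⟨z, Zsub_le hS h2 z.2⟩) = f x := fun x z => by
    simp only [hf, _root_.mul_inv_rev, map_mul]
    rw [show μ ((⟨z, Zsub_le hS h2 z.2⟩ : Q)⁻¹) = 1 from
      (congrArg μ₀ ((QuotientGroup.eq_one_iff (N := (Zsub G a).subgroupOf Q)
        ((⟨z, Zsub_le hS h2 z.2⟩ : Q)⁻¹)).2 (inv_mem (Subgroup.mem_subgroupOf.2 z.2)))).trans (map_one μ₀),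
      one_mul]
  have hfix : ∀ x : Q, (x : G) ∈ Zsub G a → f x = 1 := fun x hx => by
    have := hfZ 1 ⟨x, hx⟩
    rw [one_mul] at this
    rw [this]
    simp [hf]
  have hcQ : (Fintype.card Q : ℂ) = (q : ℂ) ^ 2 := by
    rw [← Nat.card_eq_fintype_card, hcard, Nat.cast_pow]
  have hcZ : (Fintype.card (Zsub G a) : ℂ) = q := by rw [← Nat.card_eq_fintype_card]
  have hsgn : Cfsg.IsCharacter Q fun x => ((μ x : ℂˣ) : ℂ) := irr_isCharacter (linearIrr μ)
  have hdata : ∀ χ : Cfsg.IrrCharacter G, ∃ (d A m : ℕ) (T x : ℤ), 0 < d ∧ (χ : G → ℂ) 1 = d ∧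
      (χ : G → ℂ) s = T ∧ ∑ y : Q, (χ : G → ℂ) y = (q : ℂ) ^ 2 * A ∧
      ∑ y : Q, f y * (χ : G → ℂ) y = (q : ℂ) ^ 2 * m ∧ (d : ℤ) - T = q * x ∧
      (m = 0 → T = A - x) := by
    intro χ
    have hcl := irr_isClassFunction χ
    obtain ⟨d, hd, hd0, -⟩ := irr_degree_dvd_card χ
    obtain ⟨T, hT, -⟩ := CfsgLib.Sporadic.CharTools.exists_int_of_sq_eq_one (irr_isCharacter χ) hd (show s ^ 2 = 1 by rw [pow_two, hs2])
    have hqC : (q : ℂ) ≠ 0 := Nat.cast_ne_zero.2 (by omega)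
    have hresQ : Cfsg.IsCharacter Q fun y => (χ : G → ℂ) y :=
      Clifford.isCharacter_pullback (irr_isCharacter χ) Q.subtype
    obtain ⟨A, hA⟩ := classInner_char_nat hresQ isCharacter_one
    obtain ⟨m, hm⟩ := classInner_char_nat hresQ hsgn
    obtain ⟨α, hα⟩ := classInner_char_nat
      (Clifford.isCharacter_pullback (irr_isCharacter χ) (Zsub G a).subtype) isCharacter_one
    have hA' : ∑ y : Q, (χ : G → ℂ) y = (q : ℂ) ^ 2 * A := by
      rw [Cfsg.classInner, Nat.card_eq_fintype_card, hcQ, inv_mul_eq_iff_eq_mul₀ (pow_ne_zero 2 hqC)] at hA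
      simpa using hA
    have hm' : ∑ y : Q, f y * (χ : G → ℂ) y = (q : ℂ) ^ 2 * m := by
      rw [Cfsg.classInner, Nat.card_eq_fintype_card, hcQ, inv_mul_eq_iff_eq_mul₀ (pow_ne_zero 2 hqC)] at hm
      rw [← hm]
      refine Finset.sum_congr rfl fun y _ => ?_
      rw [mul_comm]
      congr 1
      exact irr_apply_inv (linearIrr μ) y
    have hα' : ∑ z : Zsub G a, (χ : G → ℂ) z = (q : ℂ) * α := by
      rw [Cfsg.classInner, Nat.card_eq_fintype_card, hcZ, inv_mul_eq_iff_eq_mul₀ hqC] at hα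
      simpa using hα
    have hsplit : ∑ z : Zsub G a, (χ : G → ℂ) z = (d : ℂ) + ((q : ℂ) - 1) * T := by
      rw [Finset.sum_eq_add_sum_sdiff_singleton_of_mem (Finset.mem_univ (1 : Zsub G a)),
        OneMemClass.coe_one, hd]
      congr 1
      rw [Finset.sum_congr rfl fun z hz => ?_, Finset.sum_const, nsmul_eq_mul]
      · rw [Finset.card_sdiff, Finset.inter_univ, Finset.card_singleton, Finset.card_univ,
          Nat.cast_sub Fintype.card_pos, hcZ, Nat.cast_one]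
      · have hz1 : z ≠ 1 := by simpa using hz
        rw [hCval _ hcl (z : G) ((hCmem _).2 ⟨fun e => hz1 (Subtype.ext e), Zsub_sq hS h2 z.2⟩), hT]
    let Sx : G → ℂ := fun y => ∑ z : Zsub G a, (χ : G → ℂ) (y * z)
    have hSZ : ∀ y ∈ Zsub G a, Sx y = (q : ℂ) * α := fun y hy => by
      rw [← hα']
      exact Fintype.sum_equiv (Equiv.mulLeft (⟨y, hy⟩ : Zsub G a)) _ _ fun z => rfl
    obtain ⟨y₀, hy₀⟩ : ∃ y₀ : Q, (y₀ : G) ∉ Zsub G a := by
      obtain ⟨c, hc⟩ := exists_ne (1 : Q ⧸ (Zsub G a).subgroupOf Q)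
      obtain ⟨y, rfl⟩ := QuotientGroup.mk_surjective c
      exact ⟨y, fun h => hc ((QuotientGroup.eq_one_iff y).2 (Subgroup.mem_subgroupOf.2 h))⟩
    have hSc : ∀ y ∈ Q, y ∉ Zsub G a → Sx y = Sx y₀ := fun y hy hyZ => by
      obtain ⟨k, hk, hz⟩ := exists_Ksub_conj_mem hS h2 hcard y₀.2 hy hy₀ hyZ
      have hka := (mem_twoPt.1 (Ksub_le hS h2 hk)).1
      have hki : k⁻¹ • a = a := inv_smul_eq_iff.2 hka.symm
      set z₀ : Zsub G a := ⟨_, hz⟩
      refine (Fintype.sum_equiv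
        { toFun := fun z : Zsub G a => z₀ * ⟨k * z * k⁻¹, Zsub_conj hS h2 hka z.2⟩
          invFun := fun z => ⟨k⁻¹ * ((z₀⁻¹ * z : Zsub G a) : G) * k⁻¹⁻¹,
            Zsub_conj hS h2 hki (z₀⁻¹ * z).2⟩
          left_inv := fun z => Subtype.ext (by simp only [Subgroup.coe_mul, Subgroup.coe_inv]; group)
          right_inv := fun z => Subtype.ext (by simp only [Subgroup.coe_mul, Subgroup.coe_inv]; group) }
        _ _ fun z => ?_).symm
      show (χ : G → ℂ) ((y₀ : G) * z) = (χ : G → ℂ) (y * (y⁻¹ * (k * y₀ * k⁻¹) * (k * z * k⁻¹)))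
      rw [show y * (y⁻¹ * (k * y₀ * k⁻¹) * (k * z * k⁻¹)) = k * ((y₀ : G) * z) * k⁻¹ by group, hcl]
    have hgen' : ∀ g : Q → ℂ, (∀ (y : Q) (z : Zsub G a), g (y * ⟨z, Zsub_le hS h2 z.2⟩) = g y) →
        (∀ y : Q, (y : G) ∈ Zsub G a → g y = 1) →
        (q : ℂ) * ∑ y : Q, g y * (χ : G → ℂ) y =
          (q : ℂ) * α * q + Sx y₀ * ((∑ y : Q, g y) - q) := by
      intro g hg hg1
      have e1 : ∀ z : Zsub G a, ∑ y : Q, g y * (χ : G → ℂ) ((y : G) * z) =
          ∑ y : Q, g y * (χ : G → ℂ) y := fun z =>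
        Fintype.sum_equiv (Equiv.mulRight (⟨z, Zsub_le hS h2 z.2⟩ : Q)) _ _ fun y => by
          simp [hg y z]
      have e2 : ∑ y : Q, g y * Sx y = (q : ℂ) * ∑ y : Q, g y * (χ : G → ℂ) y := by
        simp only [Sx, Finset.mul_sum]
        rw [Finset.sum_comm]
        simp only [e1, Finset.sum_const, Finset.card_univ, nsmul_eq_mul, hcZ, Finset.mul_sum]
      have hcardZQ : ((Finset.univ.filter fun y : Q => (y : G) ∈ Zsub G a).card : ℂ) = q := by
        rw [← hcZ, ← Fintype.card_subtype]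
        exact congrArg _ (Fintype.card_congr
          { toFun := fun y => ⟨(y.1 : G), y.2⟩
            invFun := fun z => ⟨⟨z, Zsub_le hS h2 z.2⟩, z.2⟩
            left_inv := fun y => rfl
            right_inv := fun z => rfl })
      rw [← e2, ← Finset.sum_filter_add_sum_filter_not Finset.univ (fun y : Q => (y : G) ∈ Zsub G a),
        ← Finset.sum_filter_add_sum_filter_not Finset.univ (fun y : Q => (y : G) ∈ Zsub G a) (f := g)]
      rw [Finset.sum_congr rfl fun y hy => by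
          rw [hg1 y (Finset.mem_filter.1 hy).2, hSZ _ (Finset.mem_filter.1 hy).2, one_mul],
        Finset.sum_congr rfl (s₁ := Finset.univ.filter fun y : Q => ¬(y : G) ∈ Zsub G a)
          (f := fun y : Q => g y * Sx y) fun y hy => by
          rw [hSc _ y.2 (Finset.mem_filter.1 hy).2, mul_comm],
        Finset.sum_congr rfl (s₁ := Finset.univ.filter fun y : Q => (y : G) ∈ Zsub G a) (f := g)
          fun y hy => hg1 y (Finset.mem_filter.1 hy).2,
        Finset.sum_const, Finset.sum_const, ← Finset.mul_sum, nsmul_eq_mul, nsmul_eq_mul, hcardZQ, mul_one]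
      ring
    have hone := hgen' (fun _ => 1) (fun _ _ => rfl) fun _ _ => rfl
    simp only [one_mul, hA', Finset.sum_const, Finset.card_univ, nsmul_one, hcQ] at hone
    have hmu := hgen' f hfZ hfix
    rw [hm', hf0] at hmu
    refine ⟨d, A, m, T, (α : ℤ) - T, hd0, hd, hT, hA', hm', ?_, fun hm0 => ?_⟩
    · have : (d : ℂ) - T = q * ((α : ℂ) - T) := by linear_combination hsplit.symm.trans hα'
      exact_mod_cast this
    · subst hm0
      have hS0 : Sx y₀ = (q : ℂ) * α := by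
        refine mul_left_cancel₀ hqC ?_
        linear_combination hmu
      have hAα : (A : ℂ) = α := by
        refine mul_left_cancel₀ (pow_ne_zero 3 hqC) ?_
        rw [hS0] at hone
        linear_combination hone
      have : (A : ℤ) = α := by exact_mod_cast hAα
      omega
  obtain ⟨d₁', A₁, m₁, U₁, x₁', hd₁0, hd₁', hU₁, hA₁, hm₁, hx₁', hz₁⟩ := hdata χ₁
  obtain ⟨d₂, A₂, m₂, U₂, x₂, hd₂0, hd₂, hU₂, hA₂, hm₂, hx₂, hz₂⟩ := hdata χ₂
  -- totals
  have hqC : (q : ℂ) ≠ 0 := Nat.cast_ne_zero.2 (by omega)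
  have hτsum : ∀ g : Q → ℂ, g 1 = 1 → ∑ y : Q, g y * τ y = (q : ℂ) ^ 2 + ∑ y : Q, g y := by
    intro g hg
    rw [Finset.sum_eq_add_sum_sdiff_singleton_of_mem (Finset.mem_univ (1 : Q)) (fun y => g y * τ y),
      Finset.sum_eq_add_sum_sdiff_singleton_of_mem (Finset.mem_univ (1 : Q)) g, OneMemClass.coe_one,
      hτ1, hg, Finset.sum_congr rfl fun y hy => ?_]
    · ring
    · rw [hτQ _ y.2 fun e => (by simpa using hy : y ≠ 1) (Subtype.ext e), mul_one]
  have hAtot : A₁ + A₂ = 2 := by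
    have h := hτsum (fun _ => 1) rfl
    simp only [one_mul, hdec', Finset.sum_add_distrib, hA₁, hA₂, Finset.sum_const, Finset.card_univ,
      nsmul_one, hcQ] at h
    have : ((A₁ + A₂ : ℕ) : ℂ) = ((2 : ℕ) : ℂ) := by
      push_cast
      refine mul_left_cancel₀ (pow_ne_zero 2 hqC) ?_
      linear_combination h
    exact_mod_cast this
  have hmtot : m₁ + m₂ = 1 := by
    have h := hτsum f (hfix 1 (one_mem _))
    simp only [hdec', mul_add, Finset.sum_add_distrib, hm₁, hm₂, hf0] at h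
    have : ((m₁ + m₂ : ℕ) : ℂ) = ((1 : ℕ) : ℂ) := by
      push_cast
      refine mul_left_cancel₀ (pow_ne_zero 2 hqC) ?_
      linear_combination h
    exact_mod_cast this
  have hTtot : U₁ + U₂ = 1 := by
    have : ((U₁ + U₂ : ℤ) : ℂ) = ((1 : ℤ) : ℂ) := by
      push_cast
      rw [← hU₁, ← hU₂, ← hdec', hτQ s hsQ hs1]
    exact_mod_cast this
  have hdtot : d₁' + d₂ = q ^ 2 + 1 := by
    have : ((d₁' + d₂ : ℕ) : ℂ) = ((q ^ 2 + 1 : ℕ) : ℂ) := by
      push_cast
      rw [← hd₁', ← hd₂, ← hdec', hτ1]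
    exact_mod_cast this
  rw [hd₁', hd₂, show T₁ = U₁ from hU₁, show T₂ = U₂ from hU₂] at hkey
  have hkey' : U₁ ^ 2 * (d₂ : ℤ) + U₂ ^ 2 * d₁' = (d₁' : ℤ) * d₂ := by
    have h1 : (d₁' : ℂ) ≠ 0 := Nat.cast_ne_zero.2 hd₁0.ne'
    have h3 : (d₂ : ℂ) ≠ 0 := Nat.cast_ne_zero.2 hd₂0.ne'
    field_simp at hkey
    have : ((U₁ ^ 2 * (d₂ : ℤ) + U₂ ^ 2 * d₁' : ℤ) : ℂ) = (((d₁' : ℤ) * d₂ : ℤ) : ℂ) := by
      push_cast
      linear_combination hkey
    exact_mod_cast this
  -- one of the characters is trivial on the involutions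
  have hfinal : ∀ (χ : Cfsg.IrrCharacter G) (d A : ℕ) (T x : ℤ), (χ : G → ℂ) 1 = d → (χ : G → ℂ) s = T →
      0 < d → A ≤ 2 → (d : ℤ) - T = q * x → T = A - x →
      Cfsg.classInner τ (χ : G → ℂ) = 1 →
      (T ^ 2 * ((q : ℤ) ^ 2 + 1 - d) + (1 - T) ^ 2 * d = (d : ℤ) * ((q : ℤ) ^ 2 + 1 - d)) → False := by
    intro χ d A T x hd hT hd0 hA hdT hTx hin heq
    have hq' : (4 : ℤ) ≤ q := by exact_mod_cast hq4
    have hd' : (d : ℤ) = T ^ 2 + x ^ 2 := by
      refine mul_left_cancel₀ (show ((q : ℤ) ^ 2) ≠ 0 by positivity) ?_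
      linear_combination -heq + ((d : ℤ) - T + q * x) * hdT
    have hx0 : x = 0 := by
      obtain ⟨k, hk⟩ := hqeven
      have hk' : (q : ℤ) = 2 * k := by exact_mod_cast hk
      subst hTx
      interval_cases A
      · have : x * (2 * x - (q - 1)) = 0 := by push_cast at *; nlinarith
        rcases mul_eq_zero.1 this with h | h <;> omega
      · have : x * (2 * x - (q + 1)) = 0 := by push_cast at *; nlinarith
        rcases mul_eq_zero.1 this with h | h <;> omega
      · have h : x * ((q : ℤ) + 3 - 2 * x) = 2 := by push_cast at *; nlinarith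
        exfalso
        have hdv : x ∣ 2 := ⟨_, h.symm⟩
        have h4 : x ≤ 2 := Int.le_of_dvd (by norm_num) hdv
        have h5 : -2 ≤ x := by
          have := Int.le_of_dvd (show (0 : ℤ) < 2 by norm_num) (neg_dvd.2 hdv)
          omega
        interval_cases x <;> omega
    subst hx0
    have hTd : T = d := by push_cast at hdT; linarith
    subst hTd
    have hd1 : d = 1 := by
      have : (d : ℤ) * ((d : ℤ) - 1) = 0 := by linear_combination -hd'
      rcases mul_eq_zero.1 this with h | h <;> omega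
    subst hd1
    obtain ⟨g₀, hg₀⟩ := exists_linearIrr_eq χ (by rw [hd, Nat.cast_one])
    subst hg₀
    have hker : g₀.ker = ⊤ := by
      rw [eq_top_iff, ← hgen, Lsub, Subgroup.closure_le]
      intro u hu
      rw [SetLike.mem_coe, MonoidHom.mem_ker]
      by_cases hu1 : u = 1
      · rw [hu1, map_one]
      refine Units.ext ?_
      have := hCval _ (irr_isClassFunction (linearIrr g₀)) u ((hCmem u).2 ⟨hu1, hu⟩)
      rw [hT] at this
      show ((g₀ u : ℂˣ) : ℂ) = 1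
      exact this.trans (by push_cast; rfl)
    have hone : (linearIrr g₀ : G → ℂ) = fun _ => 1 := funext fun g => by
      show ((g₀ g : ℂˣ) : ℂ) = 1
      rw [show g₀ g = 1 from MonoidHom.mem_ker.1 (hker ▸ Subgroup.mem_top g), Units.val_one]
    rw [hone, hτ, Induction.classInner_indFun H θ (fun _ _ => rfl)] at hin
    have hηne : η ≠ 1 := fun e => hf₀ (by
      have := congrArg (fun g : H →* ℂˣ => g ⟨d₁, (mem_twoPt.1 hd₁).1⟩) e
      simpa [hη] using this)
    simp only [Cfsg.classInner, map_one, mul_one, hθ] at hin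
    rw [show ∑ h : H, ((η h : ℂˣ) : ℂ) = 0 from sum_hom_units_eq_zero ((Units.coeHom ℂ).comp η)
      fun e => hηne (MonoidHom.ext fun h => Units.ext (DFunLike.congr_fun e h)), mul_zero] at hin
    exact zero_ne_one hin
  have hin₁ : Cfsg.classInner τ (χ₁ : G → ℂ) = 1 := by
    rw [hdec, classInner_add_left, classInner_irr_self χ₁.2, classInner_irr, if_neg (Ne.symm hne), add_zero]
  have hin₂ : Cfsg.classInner τ (χ₂ : G → ℂ) = 1 := by
    rw [hdec, classInner_add_left, classInner_irr_self χ₂.2, classInner_irr, if_neg hne, zero_add]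
  have hdtot' : (d₁' : ℤ) + d₂ = (q : ℤ) ^ 2 + 1 := by exact_mod_cast hdtot
  rcases Nat.eq_zero_or_pos m₁ with h | h
  · refine hfinal χ₁ d₁' A₁ U₁ x₁' hd₁' hU₁ hd₁0 (by omega) hx₁' (hz₁ h) hin₁ ?_
    rw [← hdtot', ← hTtot]
    linear_combination hkey'
  · refine hfinal χ₂ d₂ A₂ U₂ x₂ hd₂ hU₂ hd₂0 (by omega) hx₂ (hz₂ (by omega)) hin₂ ?_
    rw [← hdtot', ← hTtot]
    linear_combination hkey'

end CfsgLib.RankOneRecog
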