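import Cfsg.Agent.Lib.RankOneRecog.AbelianChar
import Cfsg.Agent.Lib.RankOneRecog.SquareCase

/-!
In a faithful rank one set-up with a four group, a commutative regular normal subgroup `Q` of the
point stabiliser consists of involutions: `|Q| = q`.
-/

set_option autoImplicit false

noncomputable section

namespace CfsgLib.RankOneRecog

open CfsgLib.RankOneInvol CfsgLib.RankOneTwo
open MulAction (stabilizer)

universe u v

section Step

variable {G : Type u} {Ω : Type v} [Group G] [Finite G] [MulAction G Ω] {a : Ω} {t : G} {Q : Subgroup G}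
  (hS : Cfsg.IsRankOneSetup G Ω a t Q)
  (h2 : ∃ x y : G, x ≠ 1 ∧ y ≠ 1 ∧ x ≠ y ∧ x * x = 1 ∧ y * y = 1 ∧ x * y = y * x)
  [FaithfulSMul G Ω]
include hS h2

theorem card_eq_of_comm_ih (hab : ∀ x ∈ Q, ∀ y ∈ Q, x * y = y * x) (ih : AbIndHyp.{v} (Nat.card G)) :
    Nat.card Q = Nat.card (Zsub G a) := by
  refine card_eq_step hS h2 hab ih fun hcard => ?_
  have hQ := Q_le_Lsub hS h2
  have ht := t_mem_Lsub hS
  haveI : FaithfulSMul (Lsub G) Ω := ⟨fun {x y} e => Subtype.ext (eq_of_smul_eq_smul (α := Ω) e)⟩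
  exact twoPt_eq_Ksub_of_sq (setup_of_le hS hQ ht) (four_of_le hS h2 hQ ht)
    (by rw [Q_card_of_le hQ, Zsub_card_of_le hS h2 hQ ht]; exact hcard) Lsub_Lsub

end Step

/-- induction on the order of the group -/
theorem card_eq_of_comm_aux : ∀ N : ℕ, AbIndHyp.{v} N := by
  intro N
  induction N using Nat.strong_induction_on with
  | _ N ihN =>
    intro G' _ _ Ω' _ _ a' t' Q' hS h2 hab hlt
    exact card_eq_of_comm_ih hS h2 hab (ihN _ hlt)

/-- **commutative `Q`**: `|Q| = q` -/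
theorem card_eq_of_comm {G : Type u} {Ω : Type v} [Group G] [Finite G] [MulAction G Ω]
    [FaithfulSMul G Ω] {a : Ω} {t : G} {Q : Subgroup G} (hS : Cfsg.IsRankOneSetup G Ω a t Q)
    (h2 : ∃ x y : G, x ≠ 1 ∧ y ≠ 1 ∧ x ≠ y ∧ x * x = 1 ∧ y * y = 1 ∧ x * y = y * x)
    (hab : ∀ x ∈ Q, ∀ y ∈ Q, x * y = y * x) : Nat.card Q = Nat.card (Zsub G a) :=
  card_eq_of_comm_ih hS h2 hab (card_eq_of_comm_aux _)

end CfsgLib.RankOneRecog
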