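import Cfsg.Agent.Lib.RankOneRecog.Setup
import Cfsg.Agent.Lib.RankOneRecog.Unitary.Rows
import Cfsg.Agent.Lib.SuzukiTwo.Field
import Cfsg.Agent.Lib.StrongEmbedding.PSLTwo

/-!
If `t` and an involution of the point stabiliser generate a symmetric group of degree three then
`Zsub`, `Ksub` and `t` generate a copy of `SL₂`.
-/

set_option autoImplicit false
set_option linter.unusedSectionVars false

noncomputable section

namespace CfsgLib.RankOneRecog

open CfsgLib.RankOneInvol CfsgLib.RankOneTwo Unitary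
open MulAction (stabilizer mem_stabilizer_iff)

universe u v

section Hom

variable {L : Type*} [Field L] {H : Type*} [Group H]

/-- the relations of `SL₂` in characteristic two, on root group, torus and Weyl element -/
structure LineRel (z : L → H) (k : Lˣ → H) (w : H) : Prop where
  z_add : ∀ c d, z (c + d) = z c * z d
  k_mul : ∀ s r, k (s * r) = k s * k r
  kz : ∀ (s : Lˣ) (c : L), k s * z c = z ((s : L) ^ 2 * c) * k s
  wk : ∀ s, w * k s = k s⁻¹ * w
  ww : w * w = 1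
  wz : ∀ (c : L) (hc : c ≠ 0), w * z c * w = z c⁻¹ * k (Units.mk0 c⁻¹ (inv_ne_zero hc)) * w * z c⁻¹

variable {z : L → H} {k : Lˣ → H} {w : H}

theorem LineRel.z_zero (R : LineRel z k w) : z 0 = 1 := by
  have h := R.z_add 0 0
  rw [add_zero] at h
  exact left_eq_mul.1 h

theorem LineRel.k_one (R : LineRel z k w) : k 1 = 1 := by
  have h := R.k_mul 1 1
  rw [mul_one] at h
  exact left_eq_mul.1 h

theorem LineRel.zk (R : LineRel z k w) (s : Lˣ) (c : L) : z c * k s = k s * z (c / (s : L) ^ 2) := by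
  rw [R.kz, mul_div_cancel₀ c (pow_ne_zero _ s.ne_zero)]

theorem LineRel.w_upper (R : LineRel z k w) (c : L) (s : Lˣ) :
    w * (z c * k s) = z 0 * k s⁻¹ * w * z (c / (s : L) ^ 2) := by
  rw [R.zk, ← mul_assoc, R.wk, R.z_zero, one_mul]

theorem LineRel.w_zero (R : LineRel z k w) (s : Lˣ) (d : L) :
    w * (z 0 * k s * w * z d) = z (((s⁻¹ : Lˣ) : L) ^ 2 * d) * k s⁻¹ := by
  rw [← R.kz, R.z_zero, one_mul, ← mul_assoc, ← mul_assoc, R.wk, mul_assoc (k s⁻¹), R.ww, mul_one]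

theorem LineRel.w_lower (R : LineRel z k w) {e : L} (he : e ≠ 0) (s : Lˣ) (d : L) :
    w * (z e * k s * w * z d) =
      z e⁻¹ * k (Units.mk0 e⁻¹ (inv_ne_zero he) * s) * w * z ((s : L) ^ 2 * e⁻¹ + d) := by
  have h1 : w * z e = z e⁻¹ * k (Units.mk0 e⁻¹ (inv_ne_zero he)) * w * z e⁻¹ * w := by
    rw [← R.wz e he, mul_assoc, R.ww, mul_one]
  have h2 : w * k s * w = k s⁻¹ := by rw [R.wk, mul_assoc, R.ww, mul_one]
  have h3 : w * z e⁻¹ * k s⁻¹ = k s * w * z ((s : L) ^ 2 * e⁻¹) := by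
    have h5 := R.wk s⁻¹
    rw [inv_inv] at h5
    rw [mul_assoc, R.zk, ← mul_assoc, h5, Units.val_inv_eq_inv_val, inv_pow, div_inv_eq_mul,
      mul_comm e⁻¹]
  calc w * (z e * k s * w * z d) = w * z e * k s * w * z d := by simp only [mul_assoc]
    _ = z e⁻¹ * k (Units.mk0 e⁻¹ (inv_ne_zero he)) * (w * z e⁻¹) * (w * k s * w) * z d := by
        rw [h1]; simp only [mul_assoc]
    _ = z e⁻¹ * k (Units.mk0 e⁻¹ (inv_ne_zero he)) * (w * z e⁻¹ * k s⁻¹) * z d := by
        rw [h2]; simp only [mul_assoc]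
    _ = z e⁻¹ * k (Units.mk0 e⁻¹ (inv_ne_zero he)) * (k s * w * z ((s : L) ^ 2 * e⁻¹)) * z d := by rw [h3]
    _ = _ := by rw [R.k_mul, R.z_add]; simp only [mul_assoc]

theorem corner_ne {g : SL2 L} (h : g.1 1 0 = 0) : g.1 0 0 ≠ 0 := fun e => by
  have hd := g.2
  rw [Matrix.det_fin_two, h, e] at hd
  simp at hd

open scoped Classical in
/-- the value on a matrix in Bruhat normal form -/
def lineMap (z : L → H) (k : Lˣ → H) (w : H) (g : SL2 L) : H :=
  if h : g.1 1 0 = 0 then z (g.1 0 1 * g.1 0 0) * k (Units.mk0 _ (corner_ne h))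
  else z (g.1 0 0 / g.1 1 0) * k (Units.mk0 _ h)⁻¹ * w * z (g.1 1 1 / g.1 1 0)

variable [CharP L 2]

theorem lineRel_sl : LineRel (zc (L := L)) kc Jm where
  z_add := zc_add
  k_mul := kc_mul
  kz := kc_zc
  wk := Jm_kc
  ww := Jm_sq
  wz _ hc := Jm_zc_Jm hc

theorem lineMap_upper (z : L → H) (k : Lˣ → H) (w : H) (c : L) (s : Lˣ) :
    lineMap z k w (zc c * kc s) = z c * k s := by
  have e10 : (zc c * kc s).1 1 0 = 0 := by
    simp [zc_val, kc_val, Matrix.SpecialLinearGroup.coe_mul, Matrix.mul_apply, Fin.sum_univ_two]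
  have e00 : (zc c * kc s).1 0 0 = (s : L) := by
    simp [zc_val, kc_val, Matrix.SpecialLinearGroup.coe_mul, Matrix.mul_apply, Fin.sum_univ_two]
  have e01 : (zc c * kc s).1 0 1 = c * (s : L)⁻¹ := by
    simp [zc_val, kc_val, Matrix.SpecialLinearGroup.coe_mul, Matrix.mul_apply, Fin.sum_univ_two]
  rw [lineMap, dif_pos e10]
  congr 1
  · rw [e01, e00, inv_mul_cancel_right₀ s.ne_zero]
  · exact congrArg k (Units.ext e00)

theorem lineMap_lower (z : L → H) (k : Lˣ → H) (w : H) (e : L) (s : Lˣ) (d : L) :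
    lineMap z k w (zc e * kc s * Jm * zc d) = z e * k s * w * z d := by
  have hs := s.ne_zero
  have e10 : (zc e * kc s * Jm * zc d).1 1 0 = (s : L)⁻¹ := by
    simp [zc_val, kc_val, Jm_val, Matrix.SpecialLinearGroup.coe_mul, Matrix.mul_apply, Fin.sum_univ_two]
  have e00 : (zc e * kc s * Jm * zc d).1 0 0 = e * (s : L)⁻¹ := by
    simp [zc_val, kc_val, Jm_val, Matrix.SpecialLinearGroup.coe_mul, Matrix.mul_apply, Fin.sum_univ_two]
  have e11 : (zc e * kc s * Jm * zc d).1 1 1 = (s : L)⁻¹ * d := by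
    simp [zc_val, kc_val, Jm_val, Matrix.SpecialLinearGroup.coe_mul, Matrix.mul_apply, Fin.sum_univ_two]
  have h : (zc e * kc s * Jm * zc d).1 1 0 ≠ 0 := by rw [e10]; exact inv_ne_zero hs
  rw [lineMap, dif_neg h]
  congr 1
  · congr 1
    congr 1
    · rw [e00, e10, mul_div_cancel_right₀ _ (inv_ne_zero hs)]
    · exact congrArg k (Units.ext (by rw [Units.val_inv_eq_inv_val, Units.val_mk0, e10, inv_inv]))
  · rw [e11, e10, mul_div_cancel_left₀ _ (inv_ne_zero hs)]

theorem LineRel.map_zc_mul (R : LineRel z k w) (c : L) (g : SL2 L) :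
    lineMap z k w (zc c * g) = z c * lineMap z k w g := by
  rcases bruhat g with ⟨d, s, rfl⟩ | ⟨e, s, d, rfl⟩
  · rw [← mul_assoc, ← zc_add, lineMap_upper, lineMap_upper, R.z_add, mul_assoc]
  · simp only [← mul_assoc]
    rw [← zc_add, lineMap_lower, lineMap_lower, R.z_add]
    simp only [mul_assoc]

theorem LineRel.map_kc_mul (R : LineRel z k w) (r : Lˣ) (g : SL2 L) :
    lineMap z k w (kc r * g) = k r * lineMap z k w g := by
  rcases bruhat g with ⟨d, s, rfl⟩ | ⟨e, s, d, rfl⟩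
  · rw [← mul_assoc, kc_zc, mul_assoc, ← kc_mul, lineMap_upper, lineMap_upper, ← mul_assoc (k r), R.kz,
      mul_assoc, ← R.k_mul]
  · simp only [← mul_assoc]
    rw [kc_zc, mul_assoc (zc _) (kc r) (kc s), ← kc_mul, lineMap_lower, lineMap_lower, R.k_mul]
    simp only [← mul_assoc]
    rw [R.kz]

theorem LineRel.map_Jm_mul (R : LineRel z k w) (g : SL2 L) :
    lineMap z k w (Jm * g) = w * lineMap z k w g := by
  rcases bruhat g with ⟨c, s, rfl⟩ | ⟨e, s, d, rfl⟩
  · rw [lineMap_upper, lineRel_sl.w_upper, lineMap_lower, R.w_upper]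
  · rw [lineMap_lower]
    by_cases he : e = 0
    · subst he
      rw [lineRel_sl.w_zero, lineMap_upper, R.w_zero]
    · rw [lineRel_sl.w_lower he, lineMap_lower, R.w_lower he]

/-- the homomorphism -/
def LineRel.hom (R : LineRel z k w) : SL2 L →* H where
  toFun := lineMap z k w
  map_one' := by
    rw [show (1 : SL2 L) = zc 0 * kc 1 by rw [zc_zero, kc_one, one_mul], lineMap_upper, R.z_zero,
      R.k_one, one_mul]
  map_mul' x y := by
    rcases bruhat x with ⟨c, s, rfl⟩ | ⟨e, s, d, rfl⟩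
    · rw [mul_assoc, R.map_zc_mul, R.map_kc_mul, lineMap_upper, mul_assoc]
    · rw [mul_assoc, mul_assoc, mul_assoc, R.map_zc_mul, R.map_kc_mul, R.map_Jm_mul, R.map_zc_mul,
        lineMap_lower]
      simp only [mul_assoc]

theorem LineRel.hom_zc (R : LineRel z k w) (c : L) : R.hom (zc c) = z c := by
  have h := lineMap_upper z k w c 1
  rw [kc_one, mul_one, R.k_one, mul_one] at h
  exact h

theorem LineRel.hom_kc (R : LineRel z k w) (s : Lˣ) : R.hom (kc s) = k s := by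
  have h := lineMap_upper z k w 0 s
  rw [zc_zero, one_mul, R.z_zero, one_mul] at h
  exact h

theorem LineRel.hom_Jm (R : LineRel z k w) : R.hom Jm = w := by
  have h := lineMap_lower z k w 0 1 0
  rw [zc_zero, kc_one, one_mul, one_mul, mul_one, R.z_zero, R.k_one, one_mul, one_mul, mul_one] at h
  exact h

theorem LineRel.hom_injective (R : LineRel z k w) (hzk : ∀ c s, z c * k s = 1 → c = 0 ∧ s = 1)
    (hw : ∀ e s d, z e * k s * w * z d ≠ 1) : Function.Injective R.hom := by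
  rw [injective_iff_map_eq_one]
  intro g hg
  rcases bruhat g with ⟨c, s, rfl⟩ | ⟨e, s, d, rfl⟩
  · rw [map_mul, R.hom_zc, R.hom_kc] at hg
    obtain ⟨rfl, rfl⟩ := hzk c s hg
    rw [zc_zero, kc_one, one_mul]
  · rw [map_mul, map_mul, map_mul, R.hom_zc, R.hom_kc, R.hom_Jm, R.hom_zc] at hg
    exact absurd hg (hw e s d)

end Hom

section Line

variable {G : Type u} {Ω : Type v} [Group G] [Finite G] [MulAction G Ω] {a : Ω} {t : G} {Q : Subgroup G}
  (hS : Cfsg.IsRankOneSetup G Ω a t Q)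
  (h2 : ∃ x y : G, x ≠ 1 ∧ y ≠ 1 ∧ x ≠ y ∧ x * x = 1 ∧ y * y = 1 ∧ x * y = y * x)
include hS h2

/-- coordinates on `Zsub` in a field, with any prescribed nontrivial element as `1` -/
theorem exists_zCoord {s0 : G} (hs0 : s0 ∈ Zsub G a) (hs1 : s0 ≠ 1) :
    ∃ (L : Type) (_ : Field L) (_ : Fintype L) (_ : CharP L 2) (z : L → G),
      (∃ n, 2 ≤ n ∧ Fintype.card L = 2 ^ n) ∧ Fintype.card L = Nat.card (Zsub G a) ∧
      Function.Injective z ∧ (∀ c d, z (c + d) = z c * z d) ∧ z 1 = s0 ∧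
      (∀ x, x ∈ Zsub G a ↔ ∃ c, z c = x) ∧
      ∀ g ∈ Ksub G a t, ∃ m : L, ∀ c, g * z c * g⁻¹ = z (m * c) := by
  classical
  obtain ⟨f, hf, hcard, -⟩ := exists_exponent hS h2
  letI : CommGroup (Zsub G a) :=
    { (inferInstance : Group (Zsub G a)) with
      mul_comm := fun x y => Subtype.ext (Zsub_comm hS h2 x.2 (Zsub_le hS h2 y.2)) }
  haveI := isCyclic_Ksub hS h2
  letI : CommGroup (Ksub G a t) :=
    { (inferInstance : Group (Ksub G a t)) with
      mul_comm := fun x y => IsCyclic.isMulCommutative.is_comm.comm x y }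
  have hext : ∀ x y : Additive (Zsub G a),
      ((Additive.toMul x : Zsub G a) : G) = ((Additive.toMul y : Zsub G a) : G) → x = y :=
    fun x y h => Additive.toMul.injective (Subtype.ext h)
  let conjK : Ksub G a t → Additive (Zsub G a) →+ Additive (Zsub G a) := fun d =>
    { toFun := fun z => Additive.ofMul ⟨(d : G) * ((Additive.toMul z : Zsub G a) : G) * (d : G)⁻¹,
        Zsub_conj hS h2 (mem_twoPt.1 (Ksub_le hS h2 d.2)).1 (Additive.toMul z : Zsub G a).2⟩
      map_zero' := Additive.toMul.injective (Subtype.ext (by simp))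
      map_add' := fun x y => Additive.toMul.injective (Subtype.ext
        (show (d : G) * (((Additive.toMul x : Zsub G a) : G) * (Additive.toMul y : Zsub G a)) * (d : G)⁻¹ =
          (d : G) * (Additive.toMul x : Zsub G a) * (d : G)⁻¹ *
            ((d : G) * (Additive.toMul y : Zsub G a) * (d : G)⁻¹) by group)) }
  letI : DistribMulAction (Ksub G a t) (Additive (Zsub G a)) :=
    { smul := fun k => conjK k
      one_smul := fun z => hext _ _
        (show (1 : G) * ((Additive.toMul z : Zsub G a) : G) * (1 : G)⁻¹ = _ by simp)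
      mul_smul := fun k l z => hext _ _
        (show ((k : G) * l) * ((Additive.toMul z : Zsub G a) : G) * ((k : G) * l)⁻¹ =
          (k : G) * ((l : G) * ((Additive.toMul z : Zsub G a) : G) * (l : G)⁻¹) * (k : G)⁻¹ by group)
      smul_zero := fun k => map_zero (conjK k)
      smul_add := fun k => map_add (conjK k) }
  have hsm : ∀ (k : Ksub G a t) (z : Additive (Zsub G a)),
      ((Additive.toMul (k • z) : Zsub G a) : G) =
        (k : G) * ((Additive.toMul z : Zsub G a) : G) * (k : G)⁻¹ := fun k z => rfl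
  haveI : Nontrivial (Additive (Zsub G a)) :=
    ⟨⟨Additive.ofMul ⟨s0, hs0⟩, 0, fun e => hs1 (congrArg (fun w => ((Additive.toMul w : Zsub G a) : G)) e)⟩⟩
  obtain ⟨L', _, _, ε, χ, hχ, -, hL2⟩ := SuzukiTwo.exists_lineField (E := Additive (Zsub G a))
    (K := Ksub G a t) (fun z => hext _ _ (Zsub_sq hS h2 (Additive.toMul z : Zsub G a).2))
    (fun x y hx hy => by
      have hx' : ((Additive.toMul x : Zsub G a) : G) ≠ 1 := fun e => hx (hext _ _ e)
      have hy' : ((Additive.toMul y : Zsub G a) : G) ≠ 1 := fun e => hy (hext _ _ e)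
      obtain ⟨k, hk, hu⟩ := Ksub_regular hS h2 (Additive.toMul x : Zsub G a).2 hx'
        (Additive.toMul y : Zsub G a).2 hy'
      exact ⟨k, hext _ _ hk, fun l hl => hu l ((hsm l x).symm.trans
        (congrArg (fun w => ((Additive.toMul w : Zsub G a) : G)) hl))⟩)
  haveI : Fact (Nat.Prime 2) := ⟨Nat.prime_two⟩
  letI : Fintype L' := Fintype.ofFinite L'
  letI : Fintype (GaloisField 2 f) := Fintype.ofFinite _
  have hgf : Fintype.card (GaloisField 2 f) = 2 ^ f := by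
    rw [← Nat.card_eq_fintype_card]; exact GaloisField.card 2 f (by omega)
  have hcL : Fintype.card (GaloisField 2 f) = Fintype.card L' := by
    rw [hgf, ← hcard, ← Nat.card_eq_fintype_card]
    exact (Nat.card_congr ε.toEquiv).symm
  let φ : GaloisField 2 f ≃+* L' := FiniteField.ringEquivOfCardEq hcL
  obtain ⟨l0, hl0⟩ := ε.surjective (Additive.ofMul ⟨s0, hs0⟩)
  have hl00 : l0 ≠ 0 := fun e => hs1 (by
    rw [e, map_zero] at hl0
    exact (congrArg (fun w => ((Additive.toMul w : Zsub G a) : G)) hl0).symm)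
  let z : GaloisField 2 f → G := fun c => ((Additive.toMul (ε (φ c * l0)) : Zsub G a) : G)
  refine ⟨GaloisField 2 f, inferInstance, inferInstance, inferInstance, z, ⟨f, hf, hgf⟩,
    hgf.trans hcard.symm, fun c d h => φ.injective (mul_right_cancel₀ hl00 (ε.injective (hext _ _ h))),
    fun c d => ?_, ?_, fun x => ⟨fun hx => ?_, ?_⟩, fun g hg => ?_⟩
  · simp only [z, map_add, add_mul]
    rfl
  · simp only [z, map_one, one_mul, hl0]
    rfl
  · obtain ⟨l, hl⟩ := ε.surjective (Additive.ofMul ⟨x, hx⟩)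
    refine ⟨φ.symm (l / l0), ?_⟩
    simp only [z, RingEquiv.apply_symm_apply, div_mul_cancel₀ l hl00, hl]
    rfl
  · rintro ⟨c, rfl⟩
    exact (Additive.toMul (ε (φ c * l0)) : Zsub G a).2
  · refine ⟨φ.symm (χ ⟨g, hg⟩), fun c => ?_⟩
    show g * z c * g⁻¹ = _
    simp only [z, map_mul, RingEquiv.apply_symm_apply, mul_assoc (χ ⟨g, hg⟩), ← hχ]
    rfl

/-- **the line**: `t s t = s t s` gives `SL₂` on `Zsub`, `Ksub` and `t` -/
theorem exists_line (hs : ∃ s ∈ Zsub G a, s ≠ 1 ∧ t * s * t = s * t * s) :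
    ∃ (L : Type) (_ : Field L) (_ : Fintype L) (_ : CharP L 2) (ι : SL2 L →* G),
      Fintype.card L = Nat.card (Zsub G a) ∧ (∃ n, 2 ≤ n ∧ Fintype.card L = 2 ^ n) ∧
      Function.Injective ι ∧ ι Jm = t ∧
      (∀ x, x ∈ Zsub G a ↔ ∃ c, ι (zc c) = x) ∧ (∀ x, x ∈ Ksub G a t ↔ ∃ s, ι (kc s) = x) := by
  obtain ⟨s0, hs0, hs1, hrel⟩ := hs
  obtain ⟨L, iF, iT, iC, z, hn, hcard, hzinj, hzadd, hz1, hzr, hlin⟩ := exists_zCoord hS h2 hs0 hs1
  have hz0 : z 0 = 1 := by
    have h := hzadd 0 0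
    rw [add_zero] at h
    exact left_eq_mul.1 h
  have hzne : ∀ {c : L}, c ≠ 0 → z c ≠ 1 := fun hc e => hc (hzinj (e.trans hz0.symm))
  have hzmem : ∀ c, z c ∈ Zsub G a := fun c => (hzr _).2 ⟨c, rfl⟩
  have huniq : ∀ {g g' : G}, g ∈ Ksub G a t → g' ∈ Ksub G a t → g * z 1 * g⁻¹ = g' * z 1 * g'⁻¹ → g = g' :=
    fun {g g'} hg hg' e => by
    have hne : g * z 1 * g⁻¹ ≠ 1 := conj_ne_one (hzne one_ne_zero) g
    obtain ⟨k, -, hu⟩ := Ksub_regular hS h2 (hzmem 1) (hzne one_ne_zero)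
      (Zsub_conj hS h2 (mem_twoPt.1 (Ksub_le hS h2 hg)).1 (hzmem 1)) hne
    exact congrArg Subtype.val ((hu ⟨g, hg⟩ rfl).trans (hu ⟨g', hg'⟩ e.symm).symm)
  have hk : ∀ s : Lˣ, ∃ g ∈ Ksub G a t, ∀ c, g * z c * g⁻¹ = z ((s : L) ^ 2 * c) := fun s => by
    have hs2 : (s : L) ^ 2 ≠ 0 := pow_ne_zero _ s.ne_zero
    obtain ⟨g, hg, -⟩ := Ksub_regular hS h2 (hzmem 1) (hzne one_ne_zero) (hzmem _) (hzne hs2)
    obtain ⟨m, hm⟩ := hlin g g.2
    have : m = (s : L) ^ 2 := hzinj (by rw [← hg, hm, mul_one])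
    exact ⟨g, g.2, fun c => this ▸ hm c⟩
  choose k hkK hkz using hk
  have hkmul : ∀ s r, k (s * r) = k s * k r := fun s r => huniq (hkK _) (mul_mem (hkK s) (hkK r)) (by
    rw [hkz, show k s * k r * z 1 * (k s * k r)⁻¹ = k s * (k r * z 1 * (k r)⁻¹) * (k s)⁻¹ by group, hkz,
      hkz, Units.val_mul]
    congr 1; ring)
  have hk1 : k 1 = 1 := by
    have h := hkmul 1 1
    rw [mul_one] at h
    exact left_eq_mul.1 h
  have hkinv : ∀ s, k s⁻¹ = (k s)⁻¹ := fun s =>
    eq_inv_of_mul_eq_one_right (by rw [← hkmul, mul_inv_cancel, hk1])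
  have hkz' : ∀ (s : Lˣ) (c : L), k s * z c = z ((s : L) ^ 2 * c) * k s := fun s c => by
    rw [← hkz, inv_mul_cancel_right]
  have htk : ∀ s, t * k s = k s⁻¹ * t := fun s => by
    rw [hkinv, ← ((mem_invSet hS).1 ((mem_Ksub_iff hS h2).1 (hkK s))).2, mul_assoc _ t t, hS.mul_self,
      mul_one]
  have hsq : ∀ c : L, ∃ y : L, y * y = c := fun c => by
    obtain ⟨y, hy⟩ := FiniteField.isSquare_of_char_two (ringChar.eq L 2) c
    exact ⟨y, hy.symm⟩
  have R : LineRel z k t :=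
    { z_add := hzadd
      k_mul := hkmul
      kz := hkz'
      wk := htk
      ww := hS.mul_self
      wz := fun c hc => by
        obtain ⟨y, rfl⟩ := hsq c
        have hy : y ≠ 0 := fun e => hc (by rw [e, mul_zero])
        set r : Lˣ := Units.mk0 y hy with hr
        have hu : Units.mk0 (y * y)⁻¹ (inv_ne_zero hc) = r⁻¹ * r⁻¹ :=
          Units.ext (by simp [hr, mul_inv_rev])
        have hc' : ((r : L) ^ 2 * 1) = y * y := by rw [hr, Units.val_mk0, mul_one, sq]
        have h1 : k r⁻¹ * z 1 = z (y * y)⁻¹ * k r⁻¹ := by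
          rw [hkz', ← hc', mul_one, mul_one, Units.val_inv_eq_inv_val, inv_pow]
        have h3 : z 1 * k r = k r * z (y * y)⁻¹ := by
          rw [hkz', ← hc', mul_one, mul_inv_cancel₀ (pow_ne_zero _ r.ne_zero)]
        calc t * z (y * y) * t = t * (k r * z 1 * (k r)⁻¹) * t := by rw [hkz, hc']
          _ = (t * k r) * z 1 * ((k r)⁻¹ * t) := by group
          _ = (k r⁻¹ * t) * z 1 * (t * k r) := by rw [← hkinv, ← htk r]
          _ = k r⁻¹ * (t * z 1 * t) * k r := by simp only [mul_assoc]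
          _ = (k r⁻¹ * z 1) * t * (z 1 * k r) := by
              rw [hz1, hrel]; simp only [mul_assoc]
          _ = z (y * y)⁻¹ * k r⁻¹ * (t * k r) * z (y * y)⁻¹ := by
              rw [h1, h3]; simp only [mul_assoc]
          _ = z (y * y)⁻¹ * k (Units.mk0 (y * y)⁻¹ (inv_ne_zero hc)) * t * z (y * y)⁻¹ := by
              rw [htk, hu, hkmul]; simp only [mul_assoc] }
  have hzk : ∀ c s, z c * k s = 1 → c = 0 ∧ s = 1 := fun c s e => by
    have hks : k s = (z c)⁻¹ := eq_inv_of_mul_eq_one_right e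
    have h1 : k s = 1 := eq_one_of_mem_Q hS (hks ▸ inv_mem (Zsub_le hS h2 (hzmem c)))
      (mem_twoPt.1 (Ksub_le hS h2 (hkK s))).2
    refine ⟨?_, ?_⟩
    · rw [h1, mul_one] at e
      exact hzinj (e.trans hz0.symm)
    · have h4 := hkz s 1
      rw [h1, one_mul, inv_one, mul_one, mul_one] at h4
      exact Units.ext (CharTwo.sq_injective (R := L) (by
        show (s : L) ^ 2 = ((1 : Lˣ) : L) ^ 2
        rw [Units.val_one, one_pow]; exact (hzinj h4).symm))
  have hw : ∀ e s d, z e * k s * t * z d ≠ 1 := fun e s d h => by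
    refine ta_ne hS ?_
    have ht : t = (k s)⁻¹ * (z e)⁻¹ * (z d)⁻¹ := by
      calc t = (k s)⁻¹ * (z e)⁻¹ * (z e * k s * t * z d) * (z d)⁻¹ := by group
        _ = _ := by rw [h, mul_one]
    have hQ : ∀ c, (z c)⁻¹ • a = a := fun c => Q_smul hS (inv_mem (Zsub_le hS h2 (hzmem c)))
    rw [ht, mul_smul, hQ, mul_smul, hQ, inv_smul_eq_iff, (mem_twoPt.1 (Ksub_le hS h2 (hkK s))).1]
  refine ⟨L, iF, iT, iC, R.hom, hcard, hn, R.hom_injective hzk hw, R.hom_Jm, fun x => ?_, fun x => ?_⟩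
  · simp only [R.hom_zc]
    exact hzr x
  · simp only [R.hom_kc]
    refine ⟨fun hx => ?_, fun ⟨s, hs⟩ => hs ▸ hkK s⟩
    obtain ⟨m, hm⟩ := hlin x hx
    obtain ⟨y, rfl⟩ := hsq m
    have hy : y ≠ 0 := fun e => conj_ne_one (hzne one_ne_zero) x (by rw [hm, e, mul_zero, zero_mul, hz0])
    exact ⟨Units.mk0 y hy, huniq (hkK _) hx (by rw [hkz, hm, Units.val_mk0, sq])⟩

/-- if `Q` consists of involutions then `Lsub` is `PSL₂` -/
theorem psl_two_of_eq (hs : ∃ s ∈ Zsub G a, s ≠ 1 ∧ t * s * t = s * t * s) (hZ : Zsub G a = Q) :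
    ∃ (F : Type) (_ : Field F) (_ : Fintype F), (∃ n : ℕ, 2 ≤ n ∧ Fintype.card F = 2 ^ n) ∧
      Nonempty (Lsub G ≃* Matrix.ProjectiveSpecialLinearGroup (Fin 2) F) := by
  classical
  obtain ⟨L, iF, iT, iC, ι, -, hn, hinj, hJ, hz, hk⟩ := exists_line hS h2 hs
  have heq : ι.range = Lsub G := by
    refine le_antisymm ?_ ?_
    · rintro _ ⟨g, rfl⟩
      have hz' : ∀ c, ι (zc c) ∈ Lsub G := fun c => Zsub_le_Lsub hS h2 ((hz _).2 ⟨c, rfl⟩)
      have hk' : ∀ s, ι (kc s) ∈ Lsub G := fun s => Ksub_le_Lsub hS h2 ((hk _).2 ⟨s, rfl⟩)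
      rcases bruhat g with ⟨c, s, rfl⟩ | ⟨e, s, d, rfl⟩
      · rw [map_mul]; exact mul_mem (hz' c) (hk' s)
      · rw [map_mul, map_mul, map_mul, hJ]
        exact mul_mem (mul_mem (mul_mem (hz' e) (hk' s)) (t_mem_Lsub hS)) (hz' d)
    · rw [Lsub_eq_closure hS h2, Subgroup.closure_le]
      rintro x (hx | rfl)
      · obtain ⟨c, rfl⟩ := (hz x).1 (hZ ▸ hx)
        exact ⟨_, rfl⟩
      · exact ⟨_, hJ⟩
  have hb : Function.Bijective
      (QuotientGroup.mk' (Subgroup.center (SL2 L))) :=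
    ⟨by rw [← MonoidHom.ker_eq_bot_iff, QuotientGroup.ker_mk',
      StrongEmbedding.PSLTwo.center_sl_two_eq_bot], QuotientGroup.mk'_surjective _⟩
  exact ⟨L, iF, iT, hn, ⟨(MulEquiv.subgroupCongr heq).symm.trans ((MonoidHom.ofInjective hinj).symm.trans
    (MulEquiv.ofBijective _ hb))⟩⟩

end Line

end CfsgLib.RankOneRecog
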