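import Cfsg.Agent.Lib.RankOneRecog.Setup

/-!
The smallest section: a group of order eight with one involution, and a sharply doubly transitive
rank one set-up on nine points.
-/

set_option autoImplicit false

noncomputable section

namespace CfsgLib.RankOneRecog

open CfsgLib.RankOneInvol CfsgLib.RankOneTwo
open MulAction (stabilizer mem_stabilizer_iff)

universe u v

variable {G : Type u} [Group G]

/-- a group in which all elements outside `{1, s}` square to `s` is covered by four cosets of `{1, s}` -/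
theorem cover_of_unique_invol (U : Subgroup G) {s : G} (hss : s * s = 1)
    (hcen : ∀ u ∈ U, s * u = u * s) (hsq : ∀ u ∈ U, u ≠ 1 → u ≠ s → u * u = s) (hs1 : s ≠ 1)
    {x y : G} (hx : x ∈ U) (hy : y ∈ U) (hx0 : x ≠ 1 ∧ x ≠ s) (hy0 : y ≠ 1 ∧ y ≠ s)
    (hxy : x * y ≠ 1 ∧ x * y ≠ s) {u : G} (hu : u ∈ U) :
    (u = 1 ∨ u = s) ∨ (x * u = 1 ∨ x * u = s) ∨ (y * u = 1 ∨ y * u = s) ∨
      (x * y * u = 1 ∨ x * y * u = s) := by
  by_contra hcon
  simp only [not_or] at hcon
  obtain ⟨hu0, hxu, hyu, hxyu⟩ := hcon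
  have key : ∀ {p q : G}, p ∈ U → q ∈ U → p ≠ 1 ∧ p ≠ s → q ≠ 1 ∧ q ≠ s → p * q ≠ 1 ∧ p * q ≠ s →
      q * p = p * q * s := by
    intro p q hp hq hp0 hq0 hpq
    have h1 := hsq p hp hp0.1 hp0.2
    have h2 := hsq q hq hq0.1 hq0.2
    have h3 := hsq _ (mul_mem hp hq) hpq.1 hpq.2
    calc q * p = p⁻¹ * (p * q * (p * q)) * q⁻¹ := by group
      _ = p⁻¹ * s * q⁻¹ := by rw [h3]
      _ = p⁻¹ * (p * p) * ((q * q) * q⁻¹) * s⁻¹ := by
          rw [h1, h2, show p⁻¹ * s * (s * q⁻¹) = p⁻¹ * (s * s) * q⁻¹ by group, hss, mul_one,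
            show s⁻¹ = s from inv_eq_of_mul_eq_one_right hss,
            show p⁻¹ * q⁻¹ * s = p⁻¹ * (q⁻¹ * s) by group,
            show q⁻¹ * s = s * q⁻¹ from (hcen _ (inv_mem hq)).symm]
          group
      _ = p * q * s⁻¹ := by group
      _ = p * q * s := by rw [show s⁻¹ = s from inv_eq_of_mul_eq_one_right hss]
  have h1 : u * (x * y) = x * y * u := by
    calc u * (x * y) = u * x * y := by group
      _ = x * u * s * y := by rw [key hx hu hx0 hu0 hxu]
      _ = x * (u * y) * s := by rw [mul_assoc (x * u) s y, hcen y hy]; group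
      _ = x * (y * u * s) * s := by rw [key hy hu hy0 hu0 hyu]
      _ = x * y * u * (s * s) := by group
      _ = x * y * u := by rw [hss, mul_one]
  have h2 := key (mul_mem hx hy) hu hxy hu0 hxyu
  rw [h1] at h2
  exact hs1 (mul_left_cancel (a := x * y * u) (by rw [← h2, mul_one]))

/-- such a group has at most eight elements -/
theorem card_le_eight [Finite G] (U : Subgroup G) {s : G} (hss : s * s = 1)
    (hcen : ∀ u ∈ U, s * u = u * s) (hsq : ∀ u ∈ U, u ≠ 1 → u ≠ s → u * u = s) (hs1 : s ≠ 1) :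
    Nat.card U ≤ 8 := by
  classical
  obtain ⟨c, hc⟩ : ∃ c : Fin 8 → G, ∀ u ∈ U, u ∈ Set.range c := by
    by_cases hxe : ∃ x ∈ U, x ≠ 1 ∧ x ≠ s
    · obtain ⟨x, hx, hx0⟩ := hxe
      by_cases hye : ∃ y ∈ U, (y ≠ 1 ∧ y ≠ s) ∧ (x * y ≠ 1 ∧ x * y ≠ s)
      · obtain ⟨y, hy, hy0, hxy⟩ := hye
        refine ⟨![1, s, x⁻¹, x⁻¹ * s, y⁻¹, y⁻¹ * s, (x * y)⁻¹, (x * y)⁻¹ * s], fun u hu => ?_⟩
        rcases cover_of_unique_invol U hss hcen hsq hs1 hx hy hx0 hy0 hxy hu with
          (h | h) | (h | h) | (h | h) | (h | h)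
        · exact ⟨0, h.symm⟩
        · exact ⟨1, h.symm⟩
        · exact ⟨2, (eq_inv_of_mul_eq_one_right h).symm⟩
        · exact ⟨3, show x⁻¹ * s = u by rw [← h, inv_mul_cancel_left]⟩
        · exact ⟨4, (eq_inv_of_mul_eq_one_right h).symm⟩
        · exact ⟨5, show y⁻¹ * s = u by rw [← h, inv_mul_cancel_left]⟩
        · exact ⟨6, (eq_inv_of_mul_eq_one_right h).symm⟩
        · exact ⟨7, show (x * y)⁻¹ * s = u by rw [← h, inv_mul_cancel_left]⟩
      · push Not at hye
        refine ⟨![1, s, x⁻¹, x⁻¹ * s, 1, 1, 1, 1], fun u hu => ?_⟩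
        by_cases h1 : u = 1
        · exact ⟨0, h1.symm⟩
        by_cases h2 : u = s
        · exact ⟨1, h2.symm⟩
        by_cases h3 : x * u = 1
        · exact ⟨2, (eq_inv_of_mul_eq_one_right h3).symm⟩
        · exact ⟨3, show x⁻¹ * s = u by rw [← hye u hu ⟨h1, h2⟩ h3, inv_mul_cancel_left]⟩
    · push Not at hxe
      refine ⟨![1, s, 1, 1, 1, 1, 1, 1], fun u hu => ?_⟩
      by_cases h1 : u = 1
      · exact ⟨0, h1.symm⟩
      · exact ⟨1, (hxe u hu h1).symm⟩
  calc Nat.card U = (U : Set G).ncard := Nat.card_coe_set_eq _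
    _ ≤ (Set.range c).ncard := Set.ncard_le_ncard hc (Set.toFinite _)
    _ ≤ Nat.card (Fin 8) := by
        rw [← Set.image_univ, ← Set.ncard_univ]
        exact Set.ncard_image_le (Set.toFinite _)
    _ = 8 := Nat.card_fin 8

/-- in the sharply doubly transitive group of degree nine with one involution in a point stabiliser
two involutions multiply to an element of order dividing three -/
theorem paired_nine {Ω : Type v} [Finite G] [MulAction G Ω] [FaithfulSMul G Ω] {a : Ω} {t : G}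
    {Q : Subgroup G} (hS : Cfsg.IsRankOneSetup G Ω a t Q) (hD : ∀ g ∈ twoPt G a t, g = 1)
    (hQ : Nat.card Q = 8) {s : G} (hs : s ∈ Q) (hs1 : s ≠ 1) (hss : s * s = 1) :
    t * s * t = s * t * s := by
  classical
  have := CfsgLib.RankOneInvol.finite_omega hS
  have := Fintype.ofFinite Ω
  have htw : Nat.card (twoPt G a t) = 1 := Subgroup.card_eq_one.2 ((Subgroup.eq_bot_iff_forall _).2 hD)
  have hG : Nat.card G = 72 := by
    rw [RankOne.card_group hS, hQ, show Nat.card (RankOne.twoPoint (G := G) a t) = 1 from htw]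
  have hΩ : Nat.card Ω = 9 := by rw [RankOne.card_omega hS, hQ]
  -- an element fixing two points is trivial
  have hfix2 : ∀ {g : G} {c d : Ω}, c ≠ d → g • c = c → g • d = d → g = 1 := by
    intro g c d hcd hc hd
    obtain ⟨m, hma, hmb⟩ := two_trans hS hcd (ta_ne hS).symm
    by_contra hg
    exact conj_ne_one hg m (hD _ (mem_twoPt.2 ⟨by rw [← hma, mul_smul, mul_smul, inv_smul_smul, hc],
      by rw [← hmb, mul_smul, mul_smul, inv_smul_smul, hd]⟩))
  choose g hg using exists_smul hS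
  let N : Set G := {w | ∃ c : Ω, w • c = c}
  let f : Option (Ω × {q : Q // q ≠ 1}) → N := fun o => o.elim ⟨1, a, one_smul G a⟩
    fun w => ⟨g w.1 * ((w.2 : Q) : G) * (g w.1)⁻¹, w.1, by
      rw [mul_smul, mul_smul, inv_smul_eq_iff.2 (hg w.1).symm, Q_smul hS (w.2 : Q).2, hg]⟩
  have hne : ∀ q : {q : Q // q ≠ 1}, ((q : Q) : G) ≠ 1 := fun q e => q.2 (Subtype.ext e)
  have hN : Nat.card N = 64 := by
    have hb : Function.Bijective f := by
      refine ⟨?_, ?_⟩
      · rintro (_ | ⟨c, q⟩) (_ | ⟨c', q'⟩) e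
        · rfl
        · exact absurd (congrArg Subtype.val e).symm (conj_ne_one (hne q') (g c'))
        · exact absurd (congrArg Subtype.val e) (conj_ne_one (hne q) (g c))
        · have e' : g c * ((q : Q) : G) * (g c)⁻¹ = g c' * ((q' : Q) : G) * (g c')⁻¹ := congrArg Subtype.val e
          obtain rfl : c = c' := by
            by_contra hcc
            refine conj_ne_one (hne q) (g c) (hfix2 hcc ?_ ?_)
            · rw [mul_smul, mul_smul, inv_smul_eq_iff.2 (hg c).symm, Q_smul hS (q : Q).2, hg]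
            · rw [e', mul_smul, mul_smul, inv_smul_eq_iff.2 (hg c').symm, Q_smul hS (q' : Q).2, hg]
          obtain rfl : q = q' := Subtype.ext (Subtype.ext (mul_left_cancel (mul_right_cancel e')))
          rfl
      · rintro ⟨w, c, hc⟩
        by_cases h1 : w = 1
        · exact ⟨none, Subtype.ext h1.symm⟩
        obtain ⟨q, hq, d, hd, e⟩ := decomp hS (g := (g c)⁻¹ * w * g c)
          (by rw [mul_smul, mul_smul, hg, hc, inv_smul_eq_iff, hg])
        rw [hD d hd, mul_one] at e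
        refine ⟨some (c, ⟨⟨q, hq⟩, fun e1 => h1 ?_⟩), Subtype.ext ?_⟩
        · have : q = 1 := congrArg Subtype.val e1
          rw [this] at e
          calc w = g c * ((g c)⁻¹ * w * g c) * (g c)⁻¹ := by group
            _ = 1 := by rw [e]; group
        · show g c * q * (g c)⁻¹ = w
          rw [← e]; group
    rw [← Nat.card_eq_of_bijective f hb, Finite.card_option, Nat.card_prod, hΩ]
    have : Nat.card {q : Q // q ≠ 1} + 1 = 8 := by
      rw [← Finite.card_option, ← hQ]
      exact Nat.card_congr (Equiv.optionSubtypeNe 1)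
    omega
  set x := t * s with hxdef
  have hsa := Q_smul hS hs
  have hts : t ≠ s := fun e => ta_ne hS (by rw [e, hsa])
  have hfpf : ∀ d : Ω, x • d ≠ d := by
    intro d hd
    rw [hxdef, mul_smul] at hd
    have hd' : s • d = t • d := by
      calc s • d = t • t • s • d := (t_smul_smul hS _).symm
        _ = t • d := by rw [hd]
    by_cases hsd : s • d = d
    · have := invol_eq_of_fixed hS hs1 hss hsd hsa
      subst this
      exact ta_ne hS (hd'.symm.trans hsd)
    · refine hts ?_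
      have h1 : t * s = 1 := hfix2 hsd (by
        rw [mul_smul, show s • s • d = d by rw [smul_smul, hss, one_smul], hd'])
        (by rw [mul_smul, hd])
      exact (eq_inv_of_mul_eq_one_left h1).trans (inv_eq_of_mul_eq_one_right hss)
  have hxN : ∀ w : G, (∀ d : Ω, w • d ≠ d) → w ∈ Nᶜ := fun w hw ⟨c, hc⟩ => hw c hc
  have hconj : ∀ (q : G) (d : Ω), (q * x * q⁻¹) • d ≠ d := fun q d e => hfpf (q⁻¹ • d) (by
    rw [mul_smul, mul_smul] at e
    calc x • q⁻¹ • d = q⁻¹ • q • x • q⁻¹ • d := (inv_smul_smul q _).symm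
      _ = q⁻¹ • d := by rw [e])
  let ψ : Q → ↥(Nᶜ) := fun q => ⟨(q : G) * x * (q : G)⁻¹, hxN _ (hconj q)⟩
  have hψ : Function.Bijective ψ := by
    refine (Nat.bijective_iff_injective_and_card ψ).2 ⟨fun q q' e => ?_, ?_⟩
    · have e' : (q : G) * x * (q : G)⁻¹ = q' * x * (q' : G)⁻¹ := congrArg Subtype.val e
      have hc : ((q' : G)⁻¹ * q) * x = x * ((q' : G)⁻¹ * q) := by
        calc ((q' : G)⁻¹ * q) * x = (q' : G)⁻¹ * ((q : G) * x * (q : G)⁻¹) * q := by group
          _ = x * ((q' : G)⁻¹ * q) := by rw [e']; group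
      have hma : ((q' : G)⁻¹ * q) • a = a := Q_smul hS (mul_mem (inv_mem q'.2) q.2)
      refine Subtype.ext (inv_mul_eq_one.1 (hfix2 (hfpf a).symm hma ?_)).symm
      rw [smul_smul, hc, mul_smul, hma]
    · rw [hQ, Nat.card_coe_set_eq, Set.ncard_compl, hG, ← Nat.card_coe_set_eq, hN]
  -- hence all fixed-point-free elements have the order of `x`
  have horder : ∀ n : ℕ, x ^ n ≠ 1 → orderOf (x ^ n) = orderOf x := by
    intro n hn
    have hf : ∀ d : Ω, (x ^ n) • d ≠ d := fun d hd => hn (hfix2 (hfpf d).symm hd (by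
      rw [smul_smul, ← pow_succ, pow_succ', mul_smul, hd]))
    obtain ⟨q, hq⟩ := hψ.2 ⟨_, hxN _ hf⟩
    have hq' : (q : G) * x * (q : G)⁻¹ = x ^ n := congrArg Subtype.val hq
    rw [← hq']
    exact MulEquiv.orderOf_eq (MulAut.conj (q : G)) x
  have hx1 : orderOf x ≠ 1 := fun e => hfpf a (by rw [orderOf_eq_one_iff.1 e, one_smul])
  set l := (orderOf x).minFac with hldef
  have hl : l.Prime := Nat.minFac_prime hx1
  have hxl : orderOf x = l := by
    have hdvd : l ∣ orderOf x := Nat.minFac_dvd _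
    have hn0 : orderOf x / l ≠ 0 := (Nat.div_pos (Nat.le_of_dvd (orderOf_pos x) hdvd) hl.pos).ne'
    have ho : orderOf (x ^ (orderOf x / l)) = l := by
      rw [orderOf_pow' x hn0, Nat.gcd_eq_right (Nat.div_dvd_of_dvd hdvd),
        Nat.div_div_self hdvd (orderOf_pos x).ne']
    rw [← horder _ (fun e => hl.one_lt.ne (by rw [← ho, e, orderOf_one]))]
    exact ho
  have : Fact l.Prime := ⟨hl⟩
  have hl3 : l = 3 := by
    refine (Nat.prime_dvd_prime_iff_eq hl Nat.prime_three).1 (hl.dvd_of_dvd_pow (m := 3) (n := 2) ?_)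
    by_contra h
    let σ : Equiv.Perm Ω := MulAction.toPermHom G Ω x
    obtain ⟨d, hd⟩ := Equiv.Perm.exists_fixed_point_of_prime (p := l) (n := 1) (σ := σ)
      (by rwa [← Nat.card_eq_fintype_card, hΩ])
      (by rw [pow_one, ← map_pow, ← hxl, pow_orderOf_eq_one, map_one])
    exact hfpf d hd
  have h3 : x * x * x = 1 := by
    rw [← pow_orderOf_eq_one x, hxl, hl3, pow_succ, pow_succ, pow_one]
  have hsi : s⁻¹ = s := inv_eq_of_mul_eq_one_right hss
  have hti : t⁻¹ = t := CfsgLib.RankOneInvol.t_inv hS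
  calc t * s * t = x * x * x * (s⁻¹ * t⁻¹ * s⁻¹) := by rw [hxdef]; group
    _ = s * t * s := by rw [h3, one_mul, hsi, hti]

end CfsgLib.RankOneRecog
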