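import Cfsg.Agent.Lib.RankOneRecog.Setup
import Cfsg.Agent.Lib.RankOneTwo.Main
import Cfsg.Agent.Lib.SuzukiTwo.Count

/-!
`Q` as a 2-group with the group `K` acting regularly on its involutions.
-/

set_option autoImplicit false

noncomputable section

namespace CfsgLib.RankOneRecog

open CfsgLib.RankOneInvol CfsgLib.RankOneTwo
open MulAction (stabilizer mem_stabilizer_iff)
open scoped commutatorElement

universe u v

variable {G : Type u} {Ω : Type v} [Group G] [Finite G] [MulAction G Ω] {a : Ω} {t : G} {Q : Subgroup G}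
  (hS : Cfsg.IsRankOneSetup G Ω a t Q)
  (h2 : ∃ x y : G, x ≠ 1 ∧ y ≠ 1 ∧ x ≠ y ∧ x * x = 1 ∧ y * y = 1 ∧ x * y = y * x)
include hS h2

/-- `K` is commutative -/
@[reducible] def kComm : CommGroup (Ksub G a t) :=
  { (inferInstance : Group (Ksub G a t)) with
    mul_comm := fun x y =>
      haveI := isCyclic_Ksub hS h2
      IsCyclic.isMulCommutative.is_comm.comm x y }

/-- `K` acts on `Q` by conjugation -/
@[reducible] def kAct : MulDistribMulAction (Ksub G a t) Q where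
  smul k x := ⟨(k : G) * x * (k : G)⁻¹, Q_conj hS (mem_twoPt.1 (Ksub_le hS h2 k.2)).1 x.2⟩
  one_smul x := Subtype.ext (by show (1 : G) * x * (1 : G)⁻¹ = x; simp)
  mul_smul k l x := Subtype.ext (by
    show (k : G) * l * x * ((k : G) * l)⁻¹ = (k : G) * ((l : G) * x * (l : G)⁻¹) * (k : G)⁻¹
    group)
  smul_mul k x y := Subtype.ext (by
    show (k : G) * ((x : G) * y) * (k : G)⁻¹ = (k : G) * x * (k : G)⁻¹ * ((k : G) * y * (k : G)⁻¹)
    group)
  smul_one k := Subtype.ext (by show (k : G) * 1 * (k : G)⁻¹ = 1; simp)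

variable [FaithfulSMul G Ω]

theorem qSetting :
    letI := kComm hS h2; letI := kAct hS h2
    SuzukiTwo.Setting Q (Ksub G a t) := by
  letI := kComm hS h2; letI := kAct hS h2
  have hZ : ∀ x : Q, x ≠ 1 → x * x = 1 → (x : G) ∈ Zsub G a ∧ (x : G) ≠ 1 := fun x h1 h2' => by
    have h1' : (x : G) ≠ 1 := fun e => h1 (Subtype.ext e)
    exact ⟨Subgroup.subset_closure (mem_invols.2 ⟨Q_smul hS x.2, h1', congrArg Subtype.val h2'⟩), h1'⟩
  refine ⟨isPGroup_two_Q hS h2, ?_, fun x y hx hxx hy hyy => ?_⟩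
  · obtain ⟨s, s', hne, hs, hs'⟩ := exists_two_invols hS h2
    obtain ⟨-, h1, h11⟩ := mem_invols.1 hs
    obtain ⟨-, h1', h11'⟩ := mem_invols.1 hs'
    exact ⟨⟨s, (invol_central hS h2 hs).1⟩, ⟨s', (invol_central hS h2 hs').1⟩,
      fun e => hne (congrArg Subtype.val e), fun e => h1 (congrArg Subtype.val e), Subtype.ext h11,
      fun e => h1' (congrArg Subtype.val e), Subtype.ext h11'⟩
  · obtain ⟨hxZ, hx1⟩ := hZ x hx hxx
    obtain ⟨hyZ, hy1⟩ := hZ y hy hyy
    obtain ⟨k, hk, hu⟩ := Ksub_regular hS h2 hxZ hx1 hyZ hy1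
    exact ⟨k, Subtype.ext hk, fun l hl => hu l (congrArg Subtype.val hl)⟩

theorem mem_invols_Q {x : Q} : x ∈ SuzukiTwo.invols Q ↔ (x : G) ∈ Zsub G a := by
  letI := kComm hS h2; letI := kAct hS h2
  rw [(qSetting hS h2).mem_invols]
  refine ⟨fun h => ?_, fun h => Subtype.ext (Zsub_sq hS h2 h)⟩
  by_cases h1 : (x : G) = 1
  · rw [h1]; exact one_mem _
  · exact Subgroup.subset_closure (mem_invols.2 ⟨Q_smul hS x.2, h1, congrArg Subtype.val h⟩)

theorem card_invols_Q : Nat.card (SuzukiTwo.invols Q) = Nat.card (Zsub G a) :=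
  Nat.card_congr
    { toFun := fun x => ⟨((x : Q) : G), (mem_invols_Q hS h2).1 x.2⟩
      invFun := fun z => ⟨⟨z, Zsub_le hS h2 z.2⟩, (mem_invols_Q hS h2).2 z.2⟩
      left_inv := fun x => rfl
      right_inv := fun z => rfl }

/-- a square of `Q` is trivial only on `Zsub` -/
theorem mem_Zsub_of_sq {x : G} (hx : x ∈ Q) (h : x * x = 1) : x ∈ Zsub G a := by
  letI := kComm hS h2; letI := kAct hS h2
  exact (mem_invols_Q hS h2 (x := ⟨x, hx⟩)).1 ((qSetting hS h2).mem_invols.2 (Subtype.ext h))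

section NonComm

variable (hna : ∃ x y : Q, x * y ≠ y * x)
include hna

theorem sq_mem_Zsub {x : G} (hx : x ∈ Q) : x * x ∈ Zsub G a := by
  letI := kComm hS h2; letI := kAct hS h2
  exact (mem_invols_Q hS h2).1 (((qSetting hS h2).sq_mem hna).1 ⟨x, hx⟩)

theorem comm_mem_Zsub {x y : G} (hx : x ∈ Q) (hy : y ∈ Q) : ⁅x, y⁆ ∈ Zsub G a := by
  letI := kComm hS h2; letI := kAct hS h2
  exact (mem_invols_Q hS h2).1 (((qSetting hS h2).sq_mem hna).2 ⟨x, hx⟩ ⟨y, hy⟩)

theorem card_Q_cases :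
    Nat.card Q = Nat.card (Zsub G a) ^ 2 ∨ Nat.card Q = Nat.card (Zsub G a) ^ 3 := by
  letI := kComm hS h2; letI := kAct hS h2
  rw [← card_invols_Q hS h2]
  exact (qSetting hS h2).card_eq hna

end NonComm

end CfsgLib.RankOneRecog
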