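import Cfsg.Agent.Lib.RankOneRecog.Setup
import Cfsg.Agent.Lib.RankOneTwo.Section

/-!
The section on the fixed points of an element of `D` centralising `t`.
-/

set_option autoImplicit false

noncomputable section

namespace CfsgLib.RankOneRecog

open CfsgLib.RankOneInvol CfsgLib.RankOneTwo
open MulAction (stabilizer mem_stabilizer_iff)

universe u v

variable {G : Type u} {Ω : Type v} [Group G] [Finite G] [MulAction G Ω] {a : Ω} {t : G} {Q : Subgroup G}
  (hS : Cfsg.IsRankOneSetup G Ω a t Q)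
include hS

omit [Finite G] in
theorem mem_centralizer_single {x g : G} (h : x * g = g * x) : g ∈ Subgroup.centralizer ({x} : Set G) :=
  Subgroup.mem_centralizer_iff.2 fun w hw => by
    rw [Set.mem_singleton_iff] at hw; subst hw; exact h

theorem t_mem_centralizer {x : G} (hxt : t * x * t = x) : t ∈ Subgroup.centralizer ({x} : Set G) :=
  mem_centralizer_single hS (by
    calc x * t = t * x * t * t := by rw [hxt]
      _ = t * x := by rw [mul_assoc, hS.mul_self, mul_one])

/-- an element of `D` commuting with `t` centralises the paired involution and its partner -/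
theorem exists_paired_commute {x : G} (hx : x ∈ twoPt G a t) (hxt : t * x * t = x) :
    ∃ s r : G, IsPaired t a Q s t r ∧ x * s = s * x ∧ x * r = r * x := by
  obtain ⟨s, r, h⟩ := exists_paired_right hS (isSwap_t hS)
  have hxs := (centralizer_base hS h hx).2 hxt
  refine ⟨s, r, h, hxs, ?_⟩
  have h' := paired_conj hS h hx
  have ht : x * t * x⁻¹ = t := by
    rw [mul_inv_eq_iff_eq_mul]
    calc x * t = t * x * t * t := by rw [hxt]
      _ = t * x := by rw [mul_assoc, hS.mul_self, mul_one]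
  rw [hxt, ht, show x * s * x⁻¹ = s by rw [hxs, mul_inv_cancel_right]] at h'
  exact mul_inv_eq_iff_eq_mul.1 (paired_right_unique hS h' h).2

/-- **the section**: the image `G'` of `C(x)` on the fixed points of `x`, for `x` in `D` commuting
with `t`; `φ` maps `C(x)` onto `G'` and `ι` embeds the fixed points -/
theorem exists_section [FaithfulSMul G Ω] {x : G} (hx : x ∈ twoPt G a t) (hx1 : x ≠ 1)
    (hxt : t * x * t = x) :
    ∃ (G' : Type v) (_ : Group G') (_ : Finite G') (Ω' : Type v) (_ : MulAction G' Ω')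
      (_ : FaithfulSMul G' Ω') (a' : Ω') (ι : Ω' → Ω) (φ : Subgroup.centralizer ({x} : Set G) →* G'),
      Function.Surjective φ ∧ Function.Injective ι ∧ (∀ c, (∃ c', ι c' = c) ↔ x • c = c) ∧
      (∀ g c', ι (φ g • c') = (g : G) • ι c') ∧ ι a' = a ∧
      Cfsg.IsRankOneSetup G' Ω' a' (φ ⟨t, t_mem_centralizer hS hxt⟩)
        ((Q.subgroupOf (Subgroup.centralizer ({x} : Set G))).map φ) ∧
      Nat.card G' < Nat.card G ∧
      (∀ g : Subgroup.centralizer ({x} : Set G), (g : G) ∈ Q → φ g = 1 → g = 1) ∧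
      Nat.card ((Q.subgroupOf (Subgroup.centralizer ({x} : Set G))).map φ) =
        Nat.card (Q.subgroupOf (Subgroup.centralizer ({x} : Set G))) := by
  classical
  obtain ⟨s, r, hsr, hxs, -⟩ := exists_paired_commute hS hx hxt
  have hs := hsr.1
  obtain ⟨hsa, hs1, hs11⟩ := mem_invols.1 hs
  have hsQ : s ∈ Q := inv_mem_Q_of_fixed hS hs11 hsa
  have hX : ({x} : Set G) ⊆ (twoPt G a t : Set G) := Set.singleton_subset_iff.2 hx
  have h3 := three_fixed hS hx hsQ hs1 hxs
  have hxab := mem_twoPt.1 hx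
  set C : Subgroup G := Subgroup.centralizer ({x} : Set G) with hC
  have hcomm : ∀ g ∈ C, g * x = x * g := fun g hg => (Subgroup.mem_centralizer_iff.1 hg x rfl).symm
  have hmemC : ∀ {g : G}, x * g = g * x → g ∈ C := fun hg => mem_centralizer_single hS hg
  haveI := CfsgLib.RankOneInvol.finite_omega hS
  let F := {c : Ω // x • c = c}
  let act : C → F → F := fun g c => ⟨(g : G) • (c : Ω), by
    rw [smul_smul, ← hcomm g g.2, mul_smul, c.2]⟩
  let φ : C →* Equiv.Perm F :=
    { toFun := fun g =>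
        { toFun := act g
          invFun := act g⁻¹
          left_inv := fun c => Subtype.ext (inv_smul_smul (g : G) (c : Ω))
          right_inv := fun c => Subtype.ext (smul_inv_smul (g : G) (c : Ω)) }
      map_one' := Equiv.ext fun c => Subtype.ext (one_smul G (c : Ω))
      map_mul' := fun g h => Equiv.ext fun c => Subtype.ext (mul_smul (g : G) (h : G) (c : Ω)) }
  let G' : Subgroup (Equiv.Perm F) := φ.range
  let a' : F := ⟨a, hxab.1⟩
  let b' : F := ⟨t • a, hxab.2⟩
  let Q₀ : Subgroup C := Q.subgroupOf C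
  let Q' : Subgroup G' := Q₀.map φ.rangeRestrict
  let t' : G' := φ.rangeRestrict ⟨t, t_mem_centralizer hS hxt⟩
  haveI : FaithfulSMul G' F := ⟨fun {g h} e => Subtype.ext (Equiv.ext fun c => e c)⟩
  have hsmul : ∀ (g : C) (c : F), ((φ.rangeRestrict g • c : F) : Ω) = (g : G) • (c : Ω) := fun g c => rfl
  have hlift : ∀ g' : G', ∃ g : C, φ.rangeRestrict g = g' := fun g' => φ.rangeRestrict_surjective g'
  have htb : t' • a' = b' := Subtype.ext (hsmul _ _)
  have hinj : ∀ q : C, (q : G) ∈ Q → φ.rangeRestrict q = 1 → q = 1 := by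
    intro q hq e
    have h1 := congrArg (fun g' : G' => ((g' • b' : F) : Ω)) e
    simp only [hsmul, one_smul] at h1
    exact Subtype.ext (eq_one_of_mem_Q hS hq h1)
  have hsC : s ∈ C := hmemC hxs
  have hS' : Cfsg.IsRankOneSetup G' F a' t' Q' := by
    refine ⟨?_, ?_, ?_, ?_, ?_, ?_, ?_, ?_, ?_, ?_⟩
    · rw [MulAction.is_two_pretransitive_iff]
      intro b₁ b₂ c₁ c₂ hb hc
      obtain ⟨g, hg, e1, e2⟩ := centralizer_two_trans hS hX h3
        (b₁ := (b₁ : Ω)) (b₂ := (b₂ : Ω)) (c₁ := (c₁ : Ω)) (c₂ := (c₂ : Ω))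
        (fun w hw => by rw [Set.mem_singleton_iff] at hw; subst hw; exact b₁.2)
        (fun w hw => by rw [Set.mem_singleton_iff] at hw; subst hw; exact b₂.2)
        (fun w hw => by rw [Set.mem_singleton_iff] at hw; subst hw; exact c₁.2)
        (fun w hw => by rw [Set.mem_singleton_iff] at hw; subst hw; exact c₂.2)
        (fun e => hb (Subtype.ext e)) (fun e => hc (Subtype.ext e))
      exact ⟨φ.rangeRestrict ⟨g, hg⟩, Subtype.ext e1, Subtype.ext e2⟩
    · rw [← map_mul]
      exact (congrArg φ.rangeRestrict (Subtype.ext hS.mul_self)).trans (map_one _)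
    · intro e
      rw [e, one_smul] at htb
      exact ta_ne hS (congrArg Subtype.val htb).symm
    · intro e
      rw [mem_stabilizer_iff, htb] at e
      exact ta_ne hS (congrArg Subtype.val e)
    · rintro g' ⟨q, hq, rfl⟩
      exact Subtype.ext (by rw [hsmul]; exact Q_smul hS (Subgroup.mem_subgroupOf.1 hq))
    · intro g' hg' q' hq'
      obtain ⟨g, rfl⟩ := hlift g'
      obtain ⟨q, hq, rfl⟩ := hq'
      refine ⟨g * q * g⁻¹, ?_, by rw [map_mul, map_mul, map_inv]⟩
      exact Subgroup.mem_subgroupOf.2 (Q_conj hS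
        (by have := congrArg Subtype.val hg'; rwa [hsmul] at this) (Subgroup.mem_subgroupOf.1 hq))
    · rw [eq_bot_iff]
      rintro g' ⟨⟨q, hq, rfl⟩, hfix⟩
      rw [Subgroup.mem_bot]
      have h1 : (q : G) • (t • a) = t • a := by
        have e := congrArg Subtype.val (mem_stabilizer_iff.1 hfix)
        rw [htb, hsmul] at e
        exact e
      rw [show q = 1 from Subtype.ext (eq_one_of_mem_Q hS (Subgroup.mem_subgroupOf.1 hq) h1), map_one]
    · rw [htb]
      refine le_antisymm (sup_le ?_ inf_le_left) fun g' hg' => ?_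
      · rintro g' ⟨q, hq, rfl⟩
        exact Subtype.ext (by rw [hsmul]; exact Q_smul hS (Subgroup.mem_subgroupOf.1 hq))
      obtain ⟨g, rfl⟩ := hlift g'
      have hga : (g : G) • a = a := by
        have := congrArg Subtype.val hg'
        rwa [hsmul] at this
      obtain ⟨q, hq, d, hd, he⟩ := decomp hS hga
      have hqX : q ∈ C := Q_centralizes hS hX hq rfl fun w hw => by
        rw [Set.mem_singleton_iff] at hw
        subst hw
        have e : (g : G) • t • a = q • t • a := by rw [he, mul_smul, (mem_twoPt.1 hd).2]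
        rw [← e, smul_smul, ← hcomm g g.2, mul_smul, hxab.2]
      have hdX : d ∈ C := by
        have := mul_mem (inv_mem hqX) g.2
        rwa [he, inv_mul_cancel_left] at this
      rw [show g = ⟨q, hqX⟩ * ⟨d, hdX⟩ from Subtype.ext he, map_mul]
      refine Subgroup.mul_mem_sup ⟨_, Subgroup.mem_subgroupOf.2 hq, rfl⟩ ⟨?_, ?_⟩
      · exact Subtype.ext (by rw [hsmul]; exact (mem_twoPt.1 hd).1)
      · exact Subtype.ext (by rw [hsmul]; exact (mem_twoPt.1 hd).2)
    · have hmem : φ.rangeRestrict ⟨s, hsC⟩ ∈ Q' := ⟨_, Subgroup.mem_subgroupOf.2 hsQ, rfl⟩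
      have ho : orderOf (⟨_, hmem⟩ : Q') = 2 := by
        rw [← Subgroup.orderOf_coe]
        refine orderOf_eq_prime ?_ fun e => hs1 (congrArg Subtype.val (hinj _ hsQ e))
        show (φ.rangeRestrict ⟨s, hsC⟩) ^ 2 = 1
        rw [pow_two, ← map_mul, show (⟨s, hsC⟩ : C) * ⟨s, hsC⟩ = 1 from Subtype.ext hs11, map_one]
      exact even_iff_two_dvd.2 (ho ▸ orderOf_dvd_natCard _)
    · rw [htb]
      have hle : stabilizer G' a' ⊓ stabilizer G' b' ≤
          ((twoPt G a t).subgroupOf C).map φ.rangeRestrict := by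
        rintro g' ⟨h1, h1'⟩
        obtain ⟨g, rfl⟩ := hlift g'
        have e1 := congrArg Subtype.val h1
        have e2 := congrArg Subtype.val h1'
        rw [hsmul] at e1 e2
        exact ⟨g, Subgroup.mem_subgroupOf.2 (mem_twoPt.2 ⟨e1, e2⟩), rfl⟩
      refine Odd.of_dvd_nat ?_ (Subgroup.card_dvd_of_le hle)
      refine Odd.of_dvd_nat ?_ (Subgroup.card_map_dvd _ _)
      exact Odd.of_dvd_nat hS.odd_card (Subgroup.card_comap_dvd_of_injective _ C.subtype C.subtype_injective)
  have hxC : x ∈ C := hmemC rfl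
  have hxker : φ.rangeRestrict ⟨x, hxC⟩ = 1 := Subtype.ext (Equiv.ext fun c => Subtype.ext c.2)
  have hlt : Nat.card G' < Nat.card G := by
    refine lt_of_lt_of_le ?_ (Subgroup.card_le_card_group C)
    refine lt_of_le_of_ne (Nat.card_le_card_of_surjective _ φ.rangeRestrict_surjective) fun e => hx1 ?_
    have hb := (Nat.bijective_iff_surjective_and_card φ.rangeRestrict).2 ⟨φ.rangeRestrict_surjective, e.symm⟩
    exact congrArg Subtype.val (hb.1 (hxker.trans (map_one _).symm))
  refine ⟨G', inferInstance, inferInstance, F, inferInstance, inferInstance, a', Subtype.val,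
    φ.rangeRestrict, φ.rangeRestrict_surjective, Subtype.val_injective,
    fun c => ⟨fun ⟨c', e⟩ => e ▸ c'.2, fun h => ⟨⟨c, h⟩, rfl⟩⟩, hsmul, rfl, hS', hlt, hinj, ?_⟩
  refine (Nat.card_eq_of_bijective (fun q : Q₀ => (⟨φ.rangeRestrict (q : C), q, q.2, rfl⟩ : Q'))
    ⟨fun q q' e => ?_, fun g' => ?_⟩).symm
  · have e' : φ.rangeRestrict (q : C) = φ.rangeRestrict (q' : C) := congrArg Subtype.val e
    refine Subtype.ext (inv_mul_eq_one.1 (hinj _ ?_ (by rw [map_mul, map_inv, e', inv_mul_cancel]))).symm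
    exact Q.mul_mem (Q.inv_mem (Subgroup.mem_subgroupOf.1 q'.2)) (Subgroup.mem_subgroupOf.1 q.2)
  · obtain ⟨q, hq, e⟩ := g'.2
    exact ⟨⟨q, hq⟩, Subtype.ext e⟩

variable (h2 : ∃ x y : G, x ≠ 1 ∧ y ≠ 1 ∧ x ≠ y ∧ x * x = 1 ∧ y * y = 1 ∧ x * y = y * x)
include h2

/-- in a section, two centralised involutions of `G_a` give a four group and `φ` respects `Zsub` -/
theorem section_four {x : G} {G' : Type v} [Group G'] [Finite G'] {Ω' : Type v} [MulAction G' Ω']
    {a' : Ω'} {t' : G'} (φ : Subgroup.centralizer ({x} : Set G) →* G')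
    (hS' : Cfsg.IsRankOneSetup G' Ω' a' t' ((Q.subgroupOf (Subgroup.centralizer ({x} : Set G))).map φ))
    (hinj : ∀ g : Subgroup.centralizer ({x} : Set G), (g : G) ∈ Q → φ g = 1 → g = 1)
    {s s' : G} (hs : s ∈ Zsub G a) (hs' : s' ∈ Zsub G a) (hs1 : s ≠ 1) (hs1' : s' ≠ 1) (hne : s ≠ s')
    (hxs : x * s = s * x) (hxs' : x * s' = s' * x) :
    (∃ y z : G', y ≠ 1 ∧ z ≠ 1 ∧ y ≠ z ∧ y * y = 1 ∧ z * z = 1 ∧ y * z = z * y) ∧
      ∀ g : Subgroup.centralizer ({x} : Set G), (g : G) ∈ Q → (φ g ∈ Zsub G' a' ↔ (g : G) ∈ Zsub G a) := by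
  have hC : ∀ {g : G}, x * g = g * x → g ∈ Subgroup.centralizer ({x} : Set G) := fun h =>
    mem_centralizer_single hS h
  have hval : ∀ g : Subgroup.centralizer ({x} : Set G), (g : G) ∈ Q → (φ g = 1 ↔ (g : G) = 1) :=
    fun g hg => ⟨fun e => congrArg Subtype.val (hinj g hg e), fun e => by
      rw [show g = 1 from Subtype.ext e, map_one]⟩
  have hsq : ∀ g : Subgroup.centralizer ({x} : Set G), (g : G) ∈ Q →
      (φ g * φ g = 1 ↔ (g : G) * g = 1) := fun g hg => by
    rw [← map_mul]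
    exact hval (g * g) (Q.mul_mem hg hg)
  have h2' : ∃ y z : G', y ≠ 1 ∧ z ≠ 1 ∧ y ≠ z ∧ y * y = 1 ∧ z * z = 1 ∧ y * z = z * y := by
    have hsQ := Zsub_le hS h2 hs
    have hsQ' := Zsub_le hS h2 hs'
    refine ⟨φ ⟨s, hC hxs⟩, φ ⟨s', hC hxs'⟩, fun e => hs1 ((hval _ hsQ).1 e),
      fun e => hs1' ((hval _ hsQ').1 e), fun e => hne ?_, (hsq _ hsQ).2 (Zsub_sq hS h2 hs),
      (hsq _ hsQ').2 (Zsub_sq hS h2 hs'), ?_⟩
    · refine (inv_mul_eq_one (a := s) (b := s')).1 ?_
      exact (hval (⟨s, hC hxs⟩⁻¹ * ⟨s', hC hxs'⟩) (Q.mul_mem (Q.inv_mem hsQ) hsQ')).1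
        (by rw [map_mul, map_inv, e, inv_mul_cancel])
    · rw [← map_mul, ← map_mul]
      exact congrArg φ (Subtype.ext (Zsub_comm hS h2 hs hsQ'))
  refine ⟨h2', fun g hg => ?_⟩
  have hmem : φ g ∈ stabilizer G' a' := hS'.le ⟨g, Subgroup.mem_subgroupOf.2 hg, rfl⟩
  have hga : (g : G) • a = a := Q_smul hS hg
  rw [mem_Zsub_iff hS' h2', mem_Zsub_iff hS h2, mem_invols, mem_invols, hsq g hg, hval g hg]
  exact or_congr_right ⟨fun h => ⟨hga, fun e => h.2.1 ((hval g hg).2 e), h.2.2⟩,
    fun h => ⟨hmem, fun e => h.2.1 ((hval g hg).1 e), h.2.2⟩⟩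

end CfsgLib.RankOneRecog
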