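import Cfsg.Agent.Lib.RankOneRecog.Setup

/-!
A faithful rank one set-up with a four group and `D = K` is a Zassenhaus group.
-/

set_option autoImplicit false

noncomputable section

namespace CfsgLib.RankOneRecog

open CfsgLib.RankOneInvol CfsgLib.RankOneTwo
open MulAction (stabilizer mem_stabilizer_iff)

universe u v

variable {G : Type u} {Ω : Type v} [Group G] [Finite G] [MulAction G Ω] {a : Ω} {t : G} {Q : Subgroup G}
  (hS : Cfsg.IsRankOneSetup G Ω a t Q)
  (h2 : ∃ x y : G, x ≠ 1 ∧ y ≠ 1 ∧ x ≠ y ∧ x * x = 1 ∧ y * y = 1 ∧ x * y = y * x)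
  [FaithfulSMul G Ω]
include hS h2

/-- there is no regular normal subgroup -/
theorem exists_stabilizer_ne_bot (N : Subgroup G) (hN : N.Normal) [MulAction.IsPretransitive N Ω] :
    ∃ c : Ω, stabilizer N c ≠ ⊥ := by
  by_contra h
  push Not at h
  have hreg : ∀ m ∈ N, m • a = a → m = 1 := fun m hm e => by
    have : (⟨m, hm⟩ : N) ∈ stabilizer N a := e
    rw [h a, Subgroup.mem_bot] at this
    exact congrArg Subtype.val this
  obtain ⟨z, z', hne, hz, hz'⟩ := exists_two_invols hS h2
  have inv : ∀ {z : G}, z ∈ Cfsg.involutionsIn (stabilizer G a : Set G) → ∀ m ∈ N, z * m * z = m⁻¹ := by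
    intro z hz
    obtain ⟨hza, hz1, hz2⟩ := mem_invols.1 hz
    have hzi : z⁻¹ = z := inv_eq_of_mul_eq_one_right hz2
    let f : N →* N :=
      { toFun := fun m => ⟨z * m * z, by simpa [hzi] using hN.conj_mem m m.2 z⟩
        map_one' := Subtype.ext (by simp [hz2])
        map_mul' := fun m n => Subtype.ext (by
          show z * ((m : G) * n) * z = z * m * z * (z * n * z)
          simp only [mul_assoc]
          rw [← mul_assoc z z, hz2, one_mul]) }
    have hf : MonoidHom.FixedPointFree f := by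
      intro m hm
      have e : z * (m : G) * z = m := congrArg Subtype.val hm
      refine Subtype.ext (hreg m m.2 ?_)
      refine invol_eq_of_fixed hS hz1 hz2 ?_ hza
      rw [smul_smul]
      have : z * (m : G) = m * z := by
        calc z * (m : G) = z * m * z * z := by rw [mul_assoc, hz2, mul_one]
          _ = m * z := by rw [e]
      rw [this, mul_smul, hza]
    have hinv : Function.Involutive f := fun m => Subtype.ext (by
      show z * (z * (m : G) * z) * z = m
      simp only [mul_assoc, hz2, mul_one]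
      rw [← mul_assoc, hz2, one_mul])
    intro m hm
    exact congrArg Subtype.val (congrFun (MonoidHom.FixedPointFree.coe_eq_inv_of_involutive hf hinv) ⟨m, hm⟩)
  obtain ⟨hza, -, hz2⟩ := mem_invols.1 hz
  obtain ⟨hza', -, hz2'⟩ := mem_invols.1 hz'
  have h1 : z * z' = 1 := by
    refine eq_of_smul_eq_smul (α := Ω) fun c => ?_
    obtain ⟨⟨m, hm⟩, rfl⟩ := MulAction.exists_smul_eq N a c
    show (z * z') • m • a = (1 : G) • m • a
    have e : z * z' * m = m * (z * z') := by
      calc z * z' * m = z * (z' * m * z') * z' := by simp [mul_assoc, hz2']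
        _ = z * m⁻¹ * z * z * z' := by rw [inv hz' m hm]; simp [mul_assoc, hz2]
        _ = m⁻¹⁻¹ * (z * z') := by rw [inv hz _ (inv_mem hm)]; group
        _ = _ := by rw [inv_inv]
    rw [one_smul, smul_smul, e, mul_smul, mul_smul z z', hza', hza]
  exact hne ((eq_inv_of_mul_eq_one_left h1).trans (inv_eq_of_mul_eq_one_right hz2'))

/-- `D = K` gives a Zassenhaus group -/
theorem isZassenhaus_of_twoPt_eq (hD : twoPt G a t = Ksub G a t) : Cfsg.IsZassenhausGroup G Ω := by
  obtain ⟨k, hk, hk1⟩ := exists_invSet_ne_one hS h2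
  obtain ⟨hkD, -⟩ := (mem_invSet hS).1 hk
  refine ⟨inferInstance, hS.two_transitive, fun g x y z hxy hyz hxz hx hy hz => ?_,
    ⟨k, hk1, a, t • a, (ta_ne hS).symm, (mem_twoPt.1 hkD).1, (mem_twoPt.1 hkD).2⟩,
    fun N hN _ => exists_stabilizer_ne_bot hS h2 N hN⟩
  obtain ⟨m, hma, hmb⟩ := two_trans hS hxy (ta_ne hS).symm
  have hmem : m * g * m⁻¹ ∈ twoPt G a t :=
    mem_twoPt.2 ⟨by rw [← hma, mul_smul, mul_smul, inv_smul_smul, hx],
      by rw [← hmb, mul_smul, mul_smul, inv_smul_smul, hy]⟩
  rw [hD, mem_Ksub_iff hS h2] at hmem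
  by_contra hg
  rcases invSet_fixes_two hS hmem (conj_ne_one hg m) (c := m • z)
    (by rw [mul_smul, mul_smul, inv_smul_smul, hz]) with h | h
  · exact hxz (smul_left_cancel m (hma.trans h.symm))
  · exact hyz (smul_left_cancel m (hmb.trans h.symm))

end CfsgLib.RankOneRecog
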