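import Cfsg.Agent.Lib.RankOneRecog.PairedTools
import Cfsg.Agent.Lib.RankOneRecog.PairedNine
import Cfsg.Agent.Lib.RankOneRecog.Section
import Cfsg.Agent.Lib.RankOneRecog.Zassenhaus
import Cfsg.Agent.Lib.Suzuki.Recognition.Zassenhaus
import Cfsg.Agent.Lib.SuzukiGroup.Group
import Cfsg.Agent.Lib.RankOneRecog.QStruct

/-!
In a rank one set-up with `|Q| = q ^ 3` the involution paired with `t` satisfies `t s t = s t s`.

For an element `v` of prime order of `C_D(t)` either `C_Q(v) ≤ Z`, or `|C_Q(v)| = q₀ ^ 3` with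
`q₀ = |C_Z(v)|` and the claim holds in the section on the fixed points of `v` (by induction, and for
`q₀ = 2` by inspection of the nine point set-up). If `C_D(t) = 1` the group would be a Zassenhaus
group, hence a Suzuki group, of the wrong order.
-/

set_option autoImplicit false

noncomputable section

namespace CfsgLib.RankOneRecog

open CfsgLib.RankOneInvol CfsgLib.RankOneTwo
open MulAction (stabilizer mem_stabilizer_iff)

universe u v

/-- the claim in all smaller set-ups -/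
def IndPaired (N : ℕ) : Prop :=
  ∀ (G' : Type v) [Group G'] [Finite G'] (Ω' : Type v) [MulAction G' Ω'] [FaithfulSMul G' Ω']
    (a' : Ω') (t' : G') (Q' : Subgroup G'),
    Cfsg.IsRankOneSetup G' Ω' a' t' Q' →
    (∃ x y : G', x ≠ 1 ∧ y ≠ 1 ∧ x ≠ y ∧ x * x = 1 ∧ y * y = 1 ∧ x * y = y * x) →
    (∃ x y : Q', x * y ≠ y * x) → Nat.card Q' = Nat.card (Zsub G' a') ^ 3 →
    Nat.card G' < N → ∃ s ∈ Zsub G' a', s ≠ 1 ∧ t' * s * t' = s * t' * s

section

variable {G : Type u} {Ω : Type v} [Group G] [Finite G] [MulAction G Ω] {a : Ω} {t : G} {Q : Subgroup G}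
  (hS : Cfsg.IsRankOneSetup G Ω a t Q)
  (h2 : ∃ x y : G, x ≠ 1 ∧ y ≠ 1 ∧ x ≠ y ∧ x * x = 1 ∧ y * y = 1 ∧ x * y = y * x)
include hS

/-- `C_D(t)` centralises the partner `r` -/
theorem commute_paired_right {s r d : G} (h : IsPaired t a Q s t r) (hd : d ∈ twoPt G a t)
    (hdt : t * d * t = d) : d * r = r * d ∧ d * s = s * d := by
  obtain ⟨s', r', h', hc, hc'⟩ := exists_paired_commute hS hd hdt
  obtain ⟨rfl, rfl⟩ := paired_right_unique hS h h'
  exact ⟨hc', hc⟩

include h2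

/-- if the partner of `s` lies in `Z` it equals `s` -/
theorem paired_eq_of_mem {s r : G} (h : IsPaired t a Q s t r) (hr : r ∈ Zsub G a) :
    r = s ∧ t * s * t = s * t * s := by
  obtain ⟨hs, -, -, he⟩ := h
  obtain ⟨hsa, hs1, hs2⟩ := mem_invols.1 hs
  have hri : r⁻¹ = r := inv_eq_of_mul_eq_one_right (Zsub_sq hS h2 hr)
  rw [hri] at he
  have hsr : s * r = t * r * (t * r) * (t * r) := by
    calc s * r = t * (t * s * t) * t * r := by rw [conj_t_conj_t hS]
      _ = t * r * (t * r) * (t * r) := by rw [he]; group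
  have hcomm : s * r * (t * r) = t * r * (s * r) := by rw [hsr]; group
  have hsrZ : s * r ∈ Zsub G a := mul_mem ((mem_Zsub_iff hS h2).2 (Or.inr hs)) hr
  have htra : (t * r) • a = t • a := by rw [mul_smul, Q_smul hS (Zsub_le hS h2 hr)]
  have h1 : s * r = 1 := eq_one_of_mem_Q hS (Zsub_le hS h2 hsrZ) (by
    calc (s * r) • t • a = (s * r * (t * r)) • a := by rw [mul_smul _ (t * r), htra]
      _ = (t * r) • (s * r) • a := by rw [hcomm, mul_smul]
      _ = t • a := by rw [Q_smul hS (Zsub_le hS h2 hsrZ), htra])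
  have e : r = s := (inv_eq_of_mul_eq_one_right h1).symm.trans (inv_eq_of_mul_eq_one_right hs2)
  subst e
  exact ⟨rfl, he⟩

/-- `D = K` is impossible when `|Q| = q ^ 3` -/
theorem false_of_twoPt_eq [FaithfulSMul G Ω] (hna : ∃ x y : Q, x * y ≠ y * x)
    (hcard : Nat.card Q = Nat.card (Zsub G a) ^ 3) (hD : twoPt G a t = Ksub G a t) : False := by
  classical
  have := CfsgLib.RankOneInvol.finite_omega hS
  haveI := simple_of_twoPt_eq hS h2 hD
  have hiso := CfsgLib.Suzuki.Recognition.isoSuzuki_of_regular (isZassenhaus_of_twoPt_eq hS h2 hD) a Q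
    hS.le (isPGroup_two_Q hS h2) hna
    (fun y z hy hz => RankOne.existsUnique_smul_eq hS hy hz)
  obtain ⟨F, _, _, m, hm, hF, ⟨e⟩⟩ := hiso
  obtain ⟨hch, ⟨P⟩⟩ := CfsgLib.SuzukiGroup.exists_params hF
  haveI := hch
  have h1 : Nat.card G = Nat.card Q * Nat.card (Ksub G a t) * (Nat.card Q + 1) := by
    rw [RankOne.card_group hS, ← hD]
  rw [Nat.card_congr e.toEquiv, CfsgLib.SuzukiGroup.card_sz P, hF, hcard] at h1
  obtain ⟨f, hf2, hqf, -⟩ := exists_exponent hS h2
  have hK := card_Zsub hS h2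
  rw [hqf] at h1 hK
  set k := Nat.card (Ksub G a t)
  have hkodd : Odd k := ⟨2 ^ (f - 1) - 1, by
    have h3 : 2 ^ f = 2 * 2 ^ (f - 1) := by rw [← pow_succ']; congr 1; omega
    have := Nat.one_le_two_pow (n := f - 1)
    omega⟩
  set e' := 2 * m + 1 with he'
  have hcop : ∀ {j w : ℕ}, Odd w → Nat.Coprime (2 ^ j) w := fun hw =>
    Nat.Coprime.pow_left _ (Nat.coprime_two_left.2 hw)
  have hw1 : Odd (k * ((2 ^ f) ^ 3 + 1)) := hkodd.mul (Even.add_one (by
    rw [← pow_mul]; exact Nat.even_pow.2 ⟨even_two, by omega⟩))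
  have hw2 : Odd ((2 ^ e' - 1) * ((2 ^ e') ^ 2 + 1)) := by
    refine (Nat.Even.sub_odd ?_ (Nat.even_pow.2 ⟨even_two, by omega⟩) odd_one).mul (Even.add_one ?_)
    · exact Nat.one_le_two_pow
    · rw [← pow_mul]; exact Nat.even_pow.2 ⟨even_two, by omega⟩
  have h1' : (2 ^ e') ^ 2 * ((2 ^ e' - 1) * ((2 ^ e') ^ 2 + 1)) = (2 ^ f) ^ 3 * (k * ((2 ^ f) ^ 3 + 1)) := by
    rw [← mul_assoc, h1, mul_assoc]
  have hd1 : (2 ^ e') ^ 2 ∣ (2 ^ f) ^ 3 := by
    refine (Nat.Coprime.dvd_mul_right (n := k * ((2 ^ f) ^ 3 + 1)) ?_).1 ⟨_, h1'.symm⟩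
    rw [← pow_mul]; exact hcop hw1
  have hd2 : (2 ^ f) ^ 3 ∣ (2 ^ e') ^ 2 := by
    refine (Nat.Coprime.dvd_mul_right (n := (2 ^ e' - 1) * ((2 ^ e') ^ 2 + 1)) ?_).1 ⟨_, h1'⟩
    rw [← pow_mul]; exact hcop hw2
  have heq := Nat.dvd_antisymm hd1 hd2
  rw [heq] at h1'
  have h3 := Nat.eq_of_mul_eq_mul_left (by positivity) h1'
  have h4 : 2 ^ e' - 1 = k := Nat.eq_of_mul_eq_mul_right (by positivity) h3
  have h5 : 2 ^ e' = 2 ^ f := by
    have := Nat.one_le_two_pow (n := e')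
    omega
  have h6 : e' = f := Nat.pow_right_injective le_rfl h5
  rw [← pow_mul, ← pow_mul, h6] at heq
  have := Nat.pow_right_injective le_rfl heq
  omega

/-- the case `|C_Z(v)| = 2` -/
theorem paired_of_two [FaithfulSMul G Ω] (hsq : ∀ x ∈ Q, x * x ∈ Zsub G a) {s r v : G}
    (hp : IsPaired t a Q s t r) (hv : v ∈ twoPt G a t) (hv1 : v ≠ 1) (hvt : t * v * t = v)
    (hrZ : r ∉ Zsub G a)
    (hq0 : Nat.card ↥(Zsub G a ⊓ Subgroup.centralizer ({v} : Set G)) = 2)
    (hgt : 4 < Nat.card ↥(Q ⊓ Subgroup.centralizer ({v} : Set G))) : False := by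
  classical
  obtain ⟨hvr, hvs⟩ := commute_paired_right hS hp hv hvt
  obtain ⟨hsa, hs1, hs2⟩ := mem_invols.1 hp.1
  have hsZ : s ∈ Zsub G a := (mem_Zsub_iff hS h2).2 (Or.inr hp.1)
  set U : Subgroup G := Q ⊓ Subgroup.centralizer ({v} : Set G) with hU
  have hsU : s ∈ U := ⟨Zsub_le hS h2 hsZ, mem_cent.2 hvs⟩
  have hrU : r ∈ U := ⟨hp.2.2.1, mem_cent.2 hvr⟩
  -- the centralised part of `Z` is `{1, s}`
  have hZ0 : ∀ z ∈ U, z ∈ Zsub G a → z = 1 ∨ z = s := by
    intro z hz hzZ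
    by_contra hcon
    simp only [not_or] at hcon
    have hle : ({1, s, z} : Set G) ⊆ ((Zsub G a ⊓ Subgroup.centralizer ({v} : Set G) : Subgroup G) : Set G) := by
      rintro w (rfl | rfl | rfl)
      exacts [one_mem _, ⟨hsZ, mem_cent.2 hvs⟩, ⟨hzZ, hz.2⟩]
    have := Set.ncard_le_ncard hle (Set.toFinite _)
    rw [Set.ncard_eq_three.2 ⟨1, s, z, hs1.symm, Ne.symm hcon.1, Ne.symm hcon.2, rfl⟩,
      show ((Zsub G a ⊓ Subgroup.centralizer ({v} : Set G) : Subgroup G) : Set G).ncard = 2 from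
        (Nat.card_coe_set_eq _).symm.trans hq0] at this
    omega
  have hUsq : ∀ u ∈ U, u ≠ 1 → u ≠ s → u * u = s := by
    intro u hu hu1 hus
    refine (hZ0 _ (mul_mem hu hu) (hsq u hu.1)).resolve_left fun e => ?_
    exact (hZ0 u hu ((mem_Zsub_iff hS h2).2 (Or.inr (mem_invols.2 ⟨Q_smul hS hu.1, hu1, e⟩)))).elim hu1 hus
  have hcen : ∀ u ∈ U, s * u = u * s := fun u hu => Zsub_comm hS h2 hsZ hu.1
  have hU8 : Nat.card U = 8 := by
    have hle := card_le_eight U hs2 hcen hUsq hs1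
    haveI : Fact (Nat.Prime 2) := ⟨Nat.prime_two⟩
    obtain ⟨j, hj⟩ := ((isPGroup_two_Q hS h2).to_le (inf_le_left : U ≤ Q)).exists_card_eq
    rw [hj] at hle hgt ⊢
    have h1 : 2 < j := (Nat.pow_lt_pow_iff_right (by norm_num : 1 < 2)).1 (show 2 ^ 2 < 2 ^ j from hgt)
    have h2' : j ≤ 3 := (Nat.pow_le_pow_iff_right (by norm_num : 1 < 2)).1 (show 2 ^ j ≤ 2 ^ 3 from hle)
    obtain rfl : j = 3 := by omega
    rfl
  have hr0 : r ≠ 1 ∧ r ≠ s := ⟨fun e => hrZ (e ▸ one_mem _), fun e => hrZ (e ▸ hsZ)⟩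
  obtain ⟨y, hy, hy0, hry⟩ : ∃ y ∈ U, (y ≠ 1 ∧ y ≠ s) ∧ (r * y ≠ 1 ∧ r * y ≠ s) := by
    by_contra hcon
    have hsub : (U : Set G) ⊆ {1, s, r⁻¹, r⁻¹ * s} := by
      intro u hu
      by_contra hnot
      simp only [Set.mem_insert_iff, Set.mem_singleton_iff, not_or] at hnot
      exact hcon ⟨u, hu, ⟨hnot.1, hnot.2.1⟩, fun e => hnot.2.2.1 (eq_inv_of_mul_eq_one_right e),
        fun e => hnot.2.2.2 (by rw [← e, inv_mul_cancel_left])⟩
    have h := Set.ncard_le_ncard hsub (Set.toFinite _)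
    have h4 : ({1, s, r⁻¹, r⁻¹ * s} : Set G).ncard ≤ 4 := by
      have h1 := Set.ncard_insert_le (1 : G) {s, r⁻¹, r⁻¹ * s}
      have h2 := Set.ncard_insert_le s ({r⁻¹, r⁻¹ * s} : Set G)
      have h3 := Set.ncard_insert_le r⁻¹ ({r⁻¹ * s} : Set G)
      have h5 := Set.ncard_singleton (r⁻¹ * s)
      omega
    rw [← Nat.card_coe_set_eq, show Nat.card ↥(U : Set G) = 8 from hU8] at h
    omega
  -- `C_D(v)` centralises `C_Q(v)`
  have hcentU : ∀ g ∈ twoPt G a t, v * g = g * v → ∀ u ∈ U, g * u = u * g := by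
    intro g hg hvg
    obtain ⟨k, w, hk, hw, hwt, rfl⟩ := decomp_V' hS hg
    obtain ⟨hkD, hkt⟩ := (mem_invSet hS).1 hk
    have hkK : k ∈ Ksub G a t := (mem_Ksub_iff hS h2).2 hk
    have hc : Commute v (t * (k * w) * t) := by
      have hvt' : Commute v t :=
        show v * t = t * v by
          calc v * t = t * v * t * t := by rw [hvt]
            _ = t * v := by rw [mul_assoc, hS.mul_self, mul_one]
      exact ((hvt'.mul_right hvg).mul_right hvt')
    rw [conj_t_mul hS, hkt, hwt] at hc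
    have hkk : v * (k * k) = k * k * v := by
      have := (show Commute v (k * w) from hvg).mul_right hc.inv_right
      rwa [mul_inv_rev, inv_inv, show k * w * (w⁻¹ * k) = k * k by group] at this
    have hK0 : Nat.card ↥(Ksub G a t ⊓ Subgroup.centralizer ({v} : Set G)) = 1 := by
      have := card_centralizer_Zsub hS h2 hv hsZ hs1 hvs
      omega
    have hk2 : k * k = 1 := (Subgroup.eq_bot_iff_forall _).1 (Subgroup.card_eq_one.1 hK0) _
      ⟨mul_mem hkK hkK, mem_cent.2 hkk⟩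
    have hk1 : k = 1 := sq_inj_mem hS.odd_card hkD (one_mem _) (by rw [hk2, one_mul])
    subst hk1
    rw [one_mul] at hvg hg ⊢
    obtain ⟨hwr, hws⟩ := commute_paired_right hS hp hw hwt
    intro u hu
    have hwZ0 : ∀ z ∈ U, z ∈ Zsub G a → w * z = z * w := fun z hz hzZ => by
      rcases hZ0 z hz hzZ with rfl | rfl
      · rw [one_mul, mul_one]
      · exact hws
    have hUinv : ∀ z ∈ U, w * z * w⁻¹ ∈ U := fun z hz => ⟨Q_conj hS (mem_twoPt.1 hw).1 hz.1,
      mem_cent.2 (((show Commute v w from hvg).mul_right (show Commute v z from mem_cent.1 hz.2)).mul_right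
        (show Commute v w from hvg).inv_right).eq⟩
    -- `w` centralises `y`
    have hwy : Commute w y := by
      set c := y⁻¹ * (w * y * w⁻¹) with hc'
      have hcU : c ∈ U := mul_mem (inv_mem hy) (hUinv y hy)
      have hyy : y * y ∈ U ∧ y * y ∈ Zsub G a := ⟨mul_mem hy hy, hsq y hy.1⟩
      have hwy2 : Commute w (y * y) := hwZ0 _ hyy.1 hyy.2
      have hws' : Commute w s := hws
      have hcw : Commute w c := by
        rcases cover_of_unique_invol U hs2 hcen hUsq hs1 hrU hy hr0 hy0 hry (hUinv y hy) with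
          h | h | h | h
        · exfalso
          have hyw : y = w⁻¹ * (w * y * w⁻¹) * w := by group
          rcases h with h | h
          · exact hy0.1 (by rw [hyw, h]; group)
          · exact hy0.2 (by rw [hyw, h, mul_assoc, ← hws'.eq]; group)
        · exfalso
          have hyw : r * y = w⁻¹ * (r * (w * y * w⁻¹)) * w := by
            rw [show w⁻¹ * (r * (w * y * w⁻¹)) * w = w⁻¹ * (r * w) * y by group, ← hwr]
            group
          rcases h with h | h
          · exact hry.1 (by rw [hyw, h]; group)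
          · exact hry.2 (by rw [hyw, h, mul_assoc, ← hws'.eq]; group)
        · obtain ⟨e, he, hwe⟩ : ∃ e, y * (w * y * w⁻¹) = e ∧ Commute w e := by
            rcases h with h | h
            · exact ⟨1, h, Commute.one_right w⟩
            · exact ⟨s, h, hws'⟩
          rw [hc', eq_inv_mul_of_mul_eq he, show y⁻¹ * (y⁻¹ * e) = (y * y)⁻¹ * e by group]
          exact hwy2.inv_right.mul_right hwe
        · obtain ⟨e, he, hwe⟩ : ∃ e, r * y * (w * y * w⁻¹) = e ∧ Commute w e := by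
            rcases h with h | h
            · exact ⟨1, h, Commute.one_right w⟩
            · exact ⟨s, h, hws'⟩
          rw [hc', eq_inv_mul_of_mul_eq he,
            show y⁻¹ * ((r * y)⁻¹ * e) = (y * y)⁻¹ * r⁻¹ * e by group]
          exact (hwy2.inv_right.mul_right (show Commute w r from hwr).inv_right).mul_right hwe
      have hpow : ∀ n : ℕ, w ^ n * y * (w ^ n)⁻¹ = y * c ^ n := by
        intro n
        induction n with
        | zero => simp
        | succ n ih =>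
          calc w ^ (n + 1) * y * (w ^ (n + 1))⁻¹ = w * (w ^ n * y * (w ^ n)⁻¹) * w⁻¹ := by
                rw [pow_succ']; group
            _ = w * y * (c ^ n * w⁻¹) := by rw [ih]; group
            _ = w * y * w⁻¹ * c ^ n := by rw [(hcw.pow_right n).inv_left.eq.symm]; group
            _ = y * c * c ^ n := by rw [hc']; group
            _ = y * c ^ (n + 1) := by rw [pow_succ']; group
      have hc1 : c ^ orderOf w = 1 := by
        have := hpow (orderOf w)
        rw [pow_orderOf_eq_one, one_mul, inv_one, mul_one] at this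
        exact mul_left_cancel (this.symm.trans (mul_one y).symm)
      have hc4 : c ^ 4 = 1 := by
        rw [pow_succ, pow_succ, pow_succ, pow_one, mul_assoc]
        exact Zsub_sq hS h2 (hsq c hcU.1)
      have hodd : Nat.Coprime (orderOf w) 4 :=
        Nat.Coprime.pow_right 2 (Nat.coprime_two_right.2 (odd_twoPt hS hw))
      have hc0 : c = 1 := by
        have := pow_gcd_eq_one.2 ⟨hc1, hc4⟩
        rwa [Nat.Coprime.gcd_eq_one hodd, pow_one] at this
      rw [hc'] at hc0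
      exact mul_inv_eq_iff_eq_mul.1 (inv_mul_eq_one.1 hc0).symm
    -- every element of `U` is a word in `r`, `y`, `s`
    rcases cover_of_unique_invol U hs2 hcen hUsq hs1 hrU hy hr0 hy0 hry hu with h | h | h | h
    · rcases h with rfl | rfl
      · rw [one_mul, mul_one]
      · exact hws
    · rcases h with h | h <;> rw [eq_inv_mul_of_mul_eq h]
      · exact ((show Commute w r from hwr).inv_right.mul_right (Commute.one_right w)).eq
      · exact ((show Commute w r from hwr).inv_right.mul_right hws).eq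
    · rcases h with h | h <;> rw [eq_inv_mul_of_mul_eq h]
      · exact (hwy.inv_right.mul_right (Commute.one_right w)).eq
      · exact (hwy.inv_right.mul_right hws).eq
    · rcases h with h | h <;> rw [eq_inv_mul_of_mul_eq h]
      · exact (((show Commute w r from hwr).mul_right hwy).inv_right.mul_right (Commute.one_right w)).eq
      · exact (((show Commute w r from hwr).mul_right hwy).inv_right.mul_right hws).eq
  obtain ⟨G', _, _, Ω', _, _, a', ι, φ, hφ, hι, hfixι, hequiv, hιa, hS', -, hinj, hcardQ'⟩ :=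
    exists_section hS hv hv1 hvt
  have htC : t ∈ (Subgroup.centralizer ({v} : Set G)) := t_mem_centralizer hS hvt
  have hQU : Nat.card (Q.subgroupOf (Subgroup.centralizer ({v} : Set G))) = 8 := by
    rw [← hU8, hU]
    exact Nat.card_congr
      { toFun := fun w => ⟨(w : (Subgroup.centralizer ({v} : Set G))), Subgroup.mem_subgroupOf.1 w.2, (w : (Subgroup.centralizer ({v} : Set G))).2⟩
        invFun := fun w => ⟨⟨w, w.2.2⟩, Subgroup.mem_subgroupOf.2 w.2.1⟩
        left_inv := fun w => rfl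
        right_inv := fun w => rfl }
  have hιb : ι (φ ⟨t, t_mem_centralizer hS hvt⟩ • a') = t • a := by rw [hequiv, hιa]
  have hD : ∀ g' ∈ twoPt G' a' (φ ⟨t, t_mem_centralizer hS hvt⟩), g' = 1 := by
    intro g' hg'
    obtain ⟨⟨g, hgC⟩, rfl⟩ := hφ g'
    have hga : g • a = a := by
      have := congrArg ι (mem_twoPt.1 hg').1
      rwa [hequiv, hιa] at this
    have hgb : g • t • a = t • a := by
      have := congrArg ι (mem_twoPt.1 hg').2
      rwa [hequiv, hιb] at this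
    have hc := hcentU g (mem_twoPt.2 ⟨hga, hgb⟩) (mem_cent.1 hgC)
    refine eq_of_smul_eq_smul (α := Ω') fun c' => hι ?_
    rw [one_smul, hequiv]
    show g • ι c' = ι c'
    by_cases hca : ι c' = a
    · rw [hca, hga]
    obtain ⟨q, hq, hqc⟩ := Q_trans hS hca
    have hfv : v • ι c' = ι c' := (hfixι _).1 ⟨c', rfl⟩
    have hqC : q ∈ (Subgroup.centralizer ({v} : Set G)) := Q_centralizes hS (Set.singleton_subset_iff.2 hv) hq hqc fun w hw => by
      rw [Set.mem_singleton_iff] at hw; subst hw; exact hfv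
    rw [← hqc, smul_smul, hc q ⟨hq, hqC⟩, mul_smul, hgb]
  have key := paired_nine hS' hD (hcardQ'.trans hQU) (s := φ ⟨s, hsU.2⟩)
    ⟨⟨s, hsU.2⟩, Subgroup.mem_subgroupOf.2 hsU.1, rfl⟩
    (fun e => hs1 (congrArg Subtype.val (hinj _ hsU.1 e)))
    (by rw [← map_mul, show (⟨s, hsU.2⟩ : (Subgroup.centralizer ({v} : Set G))) * ⟨s, hsU.2⟩ = 1 from Subtype.ext hs2, map_one])
  set t' := φ ⟨t, t_mem_centralizer hS hvt⟩ with ht'
  set s' := φ ⟨s, hsU.2⟩ with hs'def
  have hs'Q : s' ∈ (Q.subgroupOf (Subgroup.centralizer ({v} : Set G))).map φ := ⟨⟨s, hsU.2⟩, Subgroup.mem_subgroupOf.2 hsU.1, rfl⟩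
  have hs'inv : s' * s' = 1 := by
    rw [hs'def, ← map_mul, show (⟨s, hsU.2⟩ : (Subgroup.centralizer ({v} : Set G))) * ⟨s, hsU.2⟩ = 1 from Subtype.ext hs2, map_one]
  have hs'mem : s' ∈ Cfsg.involutionsIn (stabilizer G' a' : Set G') :=
    mem_invols.2 ⟨Q_smul hS' hs'Q, fun e => hs1 (congrArg Subtype.val (hinj _ hsU.1 e)), hs'inv⟩
  have hp1 : IsPaired t' a' ((Q.subgroupOf (Subgroup.centralizer ({v} : Set G))).map φ) s' t' (φ ⟨r, hrU.2⟩) := by
    refine ⟨hs'mem, isSwap_t hS', ⟨⟨r, hrU.2⟩, Subgroup.mem_subgroupOf.2 hrU.1, rfl⟩, ?_⟩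
    rw [ht', hs'def, ← map_inv, ← map_mul, ← map_mul, ← map_mul, ← map_mul]
    exact congrArg φ (Subtype.ext hp.2.2.2)
  have hp2 : IsPaired t' a' ((Q.subgroupOf (Subgroup.centralizer ({v} : Set G))).map φ) s' t' s' :=
    ⟨hs'mem, isSwap_t hS', hs'Q, by rw [key, inv_eq_of_mul_eq_one_right hs'inv]⟩
  have e := (paired_right_unique hS' hp1 hp2).2
  have : (⟨r, hrU.2⟩ : (Subgroup.centralizer ({v} : Set G))) * (⟨s, hsU.2⟩ : (Subgroup.centralizer ({v} : Set G)))⁻¹ = 1 := hinj _ (mul_mem hrU.1 (inv_mem hsU.1))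
    (by rw [map_mul, map_inv, e, ← hs'def, mul_inv_cancel])
  exact hr0.2 (congrArg Subtype.val (mul_inv_eq_one.1 this))

/-- the case `|C_Z(v)| ≥ 4`, by induction in the section -/
theorem paired_of_four [FaithfulSMul G Ω] (hsq : ∀ x ∈ Q, x * x ∈ Zsub G a) (ih : IndPaired.{v} (Nat.card G)) {s r v : G}
    (hp : IsPaired t a Q s t r) (hv : v ∈ twoPt G a t) (hv1 : v ≠ 1) (hvt : t * v * t = v)
    (hrZ : r ∉ Zsub G a) {z : G} (hz : z ∈ Zsub G a) (hz1 : z ≠ 1) (hzs : z ≠ s) (hvz : v * z = z * v)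
    (hgt : Nat.card ↥(Zsub G a ⊓ Subgroup.centralizer ({v} : Set G)) ^ 2 <
      Nat.card ↥(Q ⊓ Subgroup.centralizer ({v} : Set G))) : False := by
  classical
  obtain ⟨hvr, hvs⟩ := commute_paired_right hS hp hv hvt
  obtain ⟨hsa, hs1, hs2⟩ := mem_invols.1 hp.1
  have hsZ : s ∈ Zsub G a := (mem_Zsub_iff hS h2).2 (Or.inr hp.1)
  obtain ⟨G', _, _, Ω', _, _, a', ι, φ, hφ, hι, hfixι, hequiv, hιa, hS', hlt, hinj, hcardQ'⟩ :=
    exists_section hS hv hv1 hvt
  obtain ⟨hfour, hZiff⟩ := section_four hS h2 φ hS' hinj hsZ hz hs1 hz1 hzs.symm hvs hvz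
  set t' := φ ⟨t, t_mem_centralizer hS hvt⟩ with ht'
  set Q' := (Q.subgroupOf (Subgroup.centralizer ({v} : Set G))).map φ with hQ'
  have hval : ∀ g h : (Subgroup.centralizer ({v} : Set G)), (g : G) ∈ Q → (h : G) ∈ Q → φ g = φ h → g = h := fun g h hg hh e =>
    mul_inv_eq_one.1 (hinj (g * h⁻¹) (mul_mem hg (inv_mem hh)) (by rw [map_mul, map_inv, e, mul_inv_cancel]))
  have hQU : Nat.card Q' = Nat.card ↥(Q ⊓ (Subgroup.centralizer ({v} : Set G))) := by
    rw [hcardQ']
    exact Nat.card_congr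
      { toFun := fun w => ⟨(w : (Subgroup.centralizer ({v} : Set G))), Subgroup.mem_subgroupOf.1 w.2, (w : (Subgroup.centralizer ({v} : Set G))).2⟩
        invFun := fun w => ⟨⟨w, w.2.2⟩, Subgroup.mem_subgroupOf.2 w.2.1⟩
        left_inv := fun w => rfl
        right_inv := fun w => rfl }
  have hZcard : Nat.card ↥(Zsub G a ⊓ (Subgroup.centralizer ({v} : Set G))) = Nat.card (Zsub G' a') := by
    refine Nat.card_eq_of_bijective (fun w => ⟨φ ⟨w, w.2.2⟩,
      (hZiff ⟨w, w.2.2⟩ (Zsub_le hS h2 w.2.1)).2 w.2.1⟩) ⟨fun w w' e => ?_, fun z' => ?_⟩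
    · exact Subtype.ext (congrArg (fun g : (Subgroup.centralizer ({v} : Set G)) => (g : G))
        (hval _ _ (Zsub_le hS h2 w.2.1) (Zsub_le hS h2 w'.2.1) (congrArg Subtype.val e)))
    · obtain ⟨g, hg, hge⟩ := Zsub_le hS' hfour z'.2
      have hgQ : (g : G) ∈ Q := Subgroup.mem_subgroupOf.1 hg
      refine ⟨⟨g, (hZiff g hgQ).1 (hge ▸ z'.2), g.2⟩, Subtype.ext ?_⟩
      exact hge
  -- `Q'` is not abelian
  have hna' : ∃ x y : Q', x * y ≠ y * x := by
    by_contra hcon
    push Not at hcon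
    let sqHom : Q' →* Q' :=
      { toFun := fun x => x * x
        map_one' := one_mul 1
        map_mul' := fun x y => by
          have h : Commute y x := hcon y x
          exact h.mul_mul_mul_comm x y }
    have hker : Nat.card sqHom.ker ≤ Nat.card (Zsub G' a') := by
      refine Nat.card_le_card_of_injective (fun x => (⟨((x : Q') : G'), ?_⟩ : Zsub G' a'))
        fun x y e => Subtype.ext (Subtype.ext (congrArg (fun w : Zsub G' a' => (w : G')) e))
      refine (mem_Zsub_iff hS' hfour).2 (or_iff_not_imp_left.2 fun h1 => mem_invols.2 ?_)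
      exact ⟨Q_smul hS' (x : Q').2, h1, congrArg Subtype.val (MonoidHom.mem_ker.1 x.2)⟩
    have hrange : Nat.card sqHom.range ≤ Nat.card (Zsub G' a') := by
      refine Nat.card_le_card_of_injective (fun x => (⟨((x : Q') : G'), ?_⟩ : Zsub G' a'))
        fun x y e => Subtype.ext (Subtype.ext (congrArg (fun w : Zsub G' a' => (w : G')) e))
      obtain ⟨w, hw⟩ := x.2
      obtain ⟨g, hg, hge⟩ := w.2
      have hgQ : (g : G) ∈ Q := Subgroup.mem_subgroupOf.1 hg
      rw [show ((x : Q') : G') = φ (g * g) by rw [map_mul, hge, ← hw]; rfl]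
      exact (hZiff (g * g) (mul_mem hgQ hgQ)).2 (hsq g hgQ)
    have h1 := Subgroup.card_mul_index sqHom.ker
    rw [Subgroup.index_ker] at h1
    have h3 : Nat.card Q' ≤ Nat.card (Zsub G' a') ^ 2 := by
      rw [← h1, pow_two]
      exact Nat.mul_le_mul hker hrange
    rw [hQU, ← hZcard] at h3
    omega
  have hcard' : Nat.card Q' = Nat.card (Zsub G' a') ^ 3 := by
    refine (card_Q_cases hS' hfour hna').resolve_left fun e => ?_
    rw [hQU, ← hZcard] at e
    omega
  obtain ⟨s₀, hs₀, hs₀1, he₀⟩ := ih G' Ω' a' t' Q' hS' hfour hna' hcard' hlt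
  have hrQ := hp.2.2.1
  have hsQ : s ∈ Q := Zsub_le hS h2 hsZ
  have hp1 : IsPaired t' a' Q' (φ ⟨s, mem_cent.2 hvs⟩) t' (φ ⟨r, mem_cent.2 hvr⟩) := by
    refine ⟨?_, isSwap_t hS', ⟨⟨r, mem_cent.2 hvr⟩, Subgroup.mem_subgroupOf.2 hrQ, rfl⟩, ?_⟩
    · refine ((mem_Zsub_iff hS' hfour).1 ((hZiff _ hsQ).2 hsZ)).resolve_left fun e => hs1 ?_
      exact congrArg Subtype.val (hinj _ hsQ e)
    · rw [ht', ← map_inv, ← map_mul, ← map_mul, ← map_mul, ← map_mul]
      exact congrArg φ (Subtype.ext hp.2.2.2)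
  have hp2 : IsPaired t' a' Q' s₀ t' s₀ :=
    ⟨((mem_Zsub_iff hS' hfour).1 hs₀).resolve_left hs₀1, isSwap_t hS', Zsub_le hS' hfour hs₀, by
      rw [he₀, inv_eq_of_mul_eq_one_right (Zsub_sq hS' hfour hs₀)]⟩
  have e := (paired_right_unique hS' hp1 hp2).2
  exact hrZ ((hZiff ⟨r, mem_cent.2 hvr⟩ hrQ).1 (e ▸ hs₀))

/-- the induction step -/
theorem paired_step [FaithfulSMul G Ω] (ih : IndPaired.{v} (Nat.card G))
    (hna : ∃ x y : Q, x * y ≠ y * x) (hcard : Nat.card Q = Nat.card (Zsub G a) ^ 3) :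
    ∃ s ∈ Zsub G a, s ≠ 1 ∧ t * s * t = s * t * s := by
  classical
  have hsq : ∀ x ∈ Q, x * x ∈ Zsub G a := fun x hx => sq_mem_Zsub hS h2 hna hx
  obtain ⟨s, r, hp⟩ := exists_paired_right hS (isSwap_t hS)
  obtain ⟨hsa, hs1, hs2⟩ := mem_invols.1 hp.1
  have hsZ : s ∈ Zsub G a := (mem_Zsub_iff hS h2).2 (Or.inr hp.1)
  suffices hrZ : r ∈ Zsub G a from ⟨s, hsZ, hs1, (paired_eq_of_mem hS h2 hp hrZ).2⟩
  by_contra hrZ
  by_cases hV : ∃ w ∈ twoPt G a t, t * w * t = w ∧ w ≠ 1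
  swap
  · push Not at hV
    refine false_of_twoPt_eq hS h2 hna hcard (le_antisymm (fun d hd => ?_) (Ksub_le hS h2))
    obtain ⟨w, k, hw, hwt, hk, rfl⟩ := decomp_V hS hd
    rw [hV w hw hwt, one_mul]
    exact (mem_Ksub_iff hS h2).2 hk
  obtain ⟨w, hw, hwt, hw1⟩ := hV
  obtain ⟨p, hp', hpdvd⟩ := Nat.exists_prime_and_dvd (fun h => hw1 (orderOf_eq_one_iff.1 h))
  set v := w ^ (orderOf w / p) with hvdef
  have hvo : orderOf v = p := by
    rw [hvdef, orderOf_pow' w (Nat.div_pos (Nat.le_of_dvd (orderOf_pos w) hpdvd) hp'.pos).ne',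
      Nat.gcd_eq_right (Nat.div_dvd_of_dvd hpdvd), Nat.div_div_self hpdvd (orderOf_pos w).ne']
  have hv : v ∈ twoPt G a t := pow_mem hw _
  have hvt : t * v * t = v := by
    have h : Commute w t := by
      show w * t = t * w
      calc w * t = t * w * t * t := by rw [hwt]
        _ = t * w := by rw [mul_assoc, hS.mul_self, mul_one]
    rw [hvdef, ← (h.pow_left _).eq, mul_assoc, hS.mul_self, mul_one]
  have hv1 : v ≠ 1 := fun e => by rw [e, orderOf_one] at hvo; exact hp'.one_lt.ne hvo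
  haveI : Fact p.Prime := ⟨hp'⟩
  obtain ⟨f, -, hqf, -⟩ := exists_exponent hS h2
  have hpq : ¬ p ∣ Nat.card (Zsub G a) := by
    rw [hqf]
    intro h
    have h2p := (Nat.prime_dvd_prime_iff_eq hp' Nat.prime_two).1 (hp'.dvd_of_dvd_pow h)
    exact Nat.not_even_iff_odd.2 (odd_twoPt hS hv) (by rw [hvo, h2p]; exact even_two)
  obtain ⟨hvr, hvs⟩ := commute_paired_right hS hp hv hvt
  have hgt := card_centralizer_Q_gt hS h2 hsq hcard hv (hvo ▸ pow_orderOf_eq_one v) hpq hsZ hs1 hvs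
    hp.2.2.1 hrZ hvr
  by_cases hz : ∃ z ∈ Zsub G a, z ≠ 1 ∧ z ≠ s ∧ v * z = z * v
  · obtain ⟨z, hz, hz1, hzs, hvz⟩ := hz
    exact paired_of_four hS h2 hsq ih hp hv hv1 hvt hrZ hz hz1 hzs hvz hgt
  · push Not at hz
    have hq0 : Nat.card ↥(Zsub G a ⊓ Subgroup.centralizer ({v} : Set G)) = 2 := by
      refine Nat.card_eq_two_iff.2 ⟨1, ⟨s, hsZ, mem_cent.2 hvs⟩, fun e => hs1 (congrArg Subtype.val e).symm, ?_⟩
      refine Set.eq_univ_iff_forall.2 fun z => ?_
      by_cases h1 : (z : G) = 1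
      · exact Or.inl (Subtype.ext h1)
      · refine Or.inr (Subtype.ext (show (z : G) = s from ?_))
        by_contra hzs
        exact hz z z.2.1 h1 hzs (mem_cent.1 z.2.2)
    rw [hq0] at hgt
    exact paired_of_two hS h2 hsq hp hv hv1 hvt hrZ hq0 hgt

end

theorem indPaired : ∀ N : ℕ, IndPaired.{v} N := by
  intro N
  induction N using Nat.strong_induction_on with
  | _ N ih =>
    intro G' _ _ Ω' _ _ a' t' Q' hS h2 hna hcard hlt
    exact paired_step hS h2 (ih _ hlt) hna hcard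

/-- **Paired**: in a faithful rank one set-up with a four group and non-abelian `Q` of order `q ^ 3`,
some involution `s` of `G_a` satisfies `t s t = s t s` -/
theorem exists_tst_of_cube {G : Type u} {Ω : Type v} [Group G] [Finite G] [MulAction G Ω]
    [FaithfulSMul G Ω] {a : Ω} {t : G} {Q : Subgroup G} (hS : Cfsg.IsRankOneSetup G Ω a t Q)
    (h2 : ∃ x y : G, x ≠ 1 ∧ y ≠ 1 ∧ x ≠ y ∧ x * x = 1 ∧ y * y = 1 ∧ x * y = y * x)
    (hna : ∃ x y : Q, x * y ≠ y * x) (hcard : Nat.card Q = Nat.card (Zsub G a) ^ 3) :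
    ∃ s ∈ Zsub G a, s ≠ 1 ∧ t * s * t = s * t * s := by
  exact paired_step hS h2 (indPaired _) hna hcard

end CfsgLib.RankOneRecog
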