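import Cfsg.Agent.Lib.RankOneRecog.SquareCase
import Cfsg.Agent.Lib.RankOneRecog.Zassenhaus
import Cfsg.Agent.Lib.Suzuki.Recognition.Zassenhaus

/-!
A faithful rank one set-up with a four group and a non-abelian `Q` of order `|Z| ^ 2`: the subgroup generated
by the involutions is a Suzuki group.
-/

set_option autoImplicit false

noncomputable section

namespace CfsgLib.RankOneRecog

open CfsgLib.RankOneInvol CfsgLib.RankOneTwo
open MulAction (stabilizer mem_stabilizer_iff)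
open scoped Classical

universe u v

variable {G : Type u} {Ω : Type v} [Group G] [Finite G] [MulAction G Ω] {a : Ω} {t : G} {Q : Subgroup G}
  (hS : Cfsg.IsRankOneSetup G Ω a t Q)
  (h2 : ∃ x y : G, x ≠ 1 ∧ y ≠ 1 ∧ x ≠ y ∧ x * x = 1 ∧ y * y = 1 ∧ x * y = y * x)
  [FaithfulSMul G Ω]
include hS h2

/-- With `D = K` a group generated by its involutions is simple. -/
theorem isSimpleGroup_of_twoPt_eq (hgen : Lsub G = ⊤) (hD : twoPt G a t = Ksub G a t) : IsSimpleGroup G := by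
  haveI : Nontrivial G := ⟨⟨t, 1, hS.ne_one⟩⟩
  refine ⟨fun N hN => ?_⟩
  by_cases hbot : N = ⊥
  · exact Or.inl hbot
  right
  obtain ⟨n, hn, hn1⟩ := N.bot_or_exists_ne_one.resolve_left hbot
  obtain ⟨c, hc⟩ : ∃ c : Ω, n • c ≠ c := by
    by_contra h
    push Not at h
    exact hn1 (eq_of_smul_eq_smul (α := Ω) fun c => by rw [h c, one_smul])
  haveI hpre : MulAction.IsPretransitive N Ω := by
    have hmove : ∀ x : Ω, x ≠ a → ∃ m ∈ N, m • a = x := fun x hx => by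
      obtain ⟨g, h1, h2'⟩ := two_trans hS (Ne.symm hc) (Ne.symm hx)
      exact ⟨g * n * g⁻¹, hN.conj_mem n hn g, by rw [← h1, mul_smul, mul_smul, inv_smul_smul, h2']⟩
    have hall : ∀ x : Ω, ∃ m : N, m • a = x := fun x => by
      by_cases hx : x = a
      · exact ⟨1, by rw [one_smul, hx]⟩
      · obtain ⟨m, hm, e⟩ := hmove x hx
        exact ⟨⟨m, hm⟩, e⟩
    refine ⟨fun x y => ?_⟩
    obtain ⟨m, rfl⟩ := hall x
    obtain ⟨m', rfl⟩ := hall y
    exact ⟨m' * m⁻¹, by rw [mul_smul, inv_smul_smul]⟩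
  obtain ⟨d, hd⟩ := exists_stabilizer_ne_bot hS h2 N hN
  obtain ⟨⟨m, hm⟩, hm1⟩ := Subgroup.ne_bot_iff_exists_ne_one.1 hd
  obtain ⟨g₀, hg₀⟩ := CfsgLib.RankOneInvol.exists_smul hS d
  set g := g₀⁻¹ * (m : G) * g₀ with hg
  have hgN : g ∈ N := by simpa [hg] using hN.conj_mem _ m.2 g₀⁻¹
  have hga : g • a = a := by
    have : (m : G) • d = d := hm
    rw [hg, mul_smul, mul_smul, hg₀, this, ← hg₀, inv_smul_smul]
  have hg1 : g ≠ 1 := by
    refine conj_ne_one' (fun e => hm1 ?_) g₀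
    exact Subtype.ext (Subtype.ext e)
  obtain ⟨x, hxN, hxQ, hx1⟩ : ∃ x ∈ N, x ∈ Q ∧ x ≠ 1 := by
    obtain ⟨q, hq, k, hk, he⟩ := decomp hS hga
    rw [hD] at hk
    by_cases hk1 : k = 1
    · exact ⟨g, hgN, by rw [he, hk1, mul_one]; exact hq, hg1⟩
    obtain ⟨z, -, -, hz, -⟩ := exists_two_invols hS h2
    have hzZ : z ∈ Zsub G a := Subgroup.subset_closure hz
    have hka := (mem_twoPt.1 (Ksub_le hS h2 hk)).1
    have hkz := Zsub_conj hS h2 hka hzZ
    have hgz : g * z * g⁻¹ = k * z * k⁻¹ := by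
      calc g * z * g⁻¹ = q * (k * z * k⁻¹) * q⁻¹ := by rw [he]; group
        _ = _ := by rw [← Zsub_comm hS h2 hkz hq, mul_inv_cancel_right]
    refine ⟨g * z * g⁻¹ * z⁻¹, ?_, ?_, ?_⟩
    · rw [mul_assoc (g * z), mul_assoc g]
      exact N.mul_mem hgN (by simpa [mul_assoc] using hN.conj_mem _ (N.inv_mem hgN) z)
    · rw [hgz]
      exact Q.mul_mem (Zsub_le hS h2 hkz) (Q.inv_mem (Zsub_le hS h2 hzZ))
    · rw [hgz, ne_eq, mul_inv_eq_one]
      intro e
      obtain ⟨k₀, -, hu⟩ := Ksub_regular hS h2 hzZ (mem_invols.1 hz).2.1 hzZ (mem_invols.1 hz).2.1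
      exact hk1 (congrArg Subtype.val ((hu ⟨k, hk⟩ e).trans (hu 1 (by simp)).symm))
  obtain ⟨i, hiN, hi1, hi2⟩ : ∃ i ∈ N, i ≠ 1 ∧ i * i = 1 := by
    obtain ⟨e, he⟩ := IsPGroup.iff_orderOf.1 (isPGroup_two_Q hS h2) ⟨x, hxQ⟩
    rw [Subgroup.orderOf_mk] at he
    rcases e with _ | e
    · exact absurd (orderOf_eq_one_iff.1 (by rw [he, pow_zero])) hx1
    have ho : orderOf (x ^ 2 ^ e) = 2 := by
      rw [orderOf_pow' x (pow_ne_zero e (two_ne_zero : (2 : ℕ) ≠ 0)), he,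
        Nat.gcd_eq_right (pow_dvd_pow 2 e.le_succ), pow_succ, Nat.mul_div_cancel_left _ (pow_pos (two_pos : (0 : ℕ) < 2) e)]
    refine ⟨x ^ 2 ^ e, N.pow_mem hxN _, fun h => by rw [h, orderOf_one] at ho; exact absurd ho (by norm_num), ?_⟩
    have h2pow := pow_orderOf_eq_one (x ^ 2 ^ e)
    rwa [ho, pow_two] at h2pow
  rw [eq_top_iff, ← hgen, Lsub, Subgroup.closure_le]
  intro u hu
  by_cases hu1 : u = 1
  · rw [hu1]; exact N.one_mem
  obtain ⟨g', rfl⟩ := invol_conj hS hi1 hi2 hu1 hu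
  exact hN.conj_mem i hiN g'

/-- **Suzuki case**: `|Q| = |Z| ^ 2` with `Q` not abelian. -/
theorem isoSuzuki_of_sq (hna : ∃ x y : Q, x * y ≠ y * x)
    (hcard : Nat.card Q = Nat.card (Zsub G a) ^ 2) : Cfsg.Lie.IsoSuzuki (Lsub G) := by
  have hQ := Q_le_Lsub hS h2
  have ht := t_mem_Lsub hS
  have hS' := setup_of_le hS hQ ht
  have h2' := four_of_le hS h2 hQ ht
  haveI : FaithfulSMul (Lsub G) Ω := ⟨fun h => Subtype.ext (eq_of_smul_eq_smul (α := Ω) h)⟩
  have hgen : Lsub (Lsub G) = ⊤ := by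
    have : ∀ (x : G) (hx : x ∈ Lsub G), (⟨x, hx⟩ : Lsub G) ∈ Lsub (Lsub G) := fun x hx => by
      induction hx using Subgroup.closure_induction with
      | mem y hy => exact mem_Lsub (Subtype.ext hy)
      | one => exact one_mem _
      | mul y z _ _ hy hz => exact mul_mem hy hz
      | inv y _ hy => exact inv_mem hy
    exact eq_top_iff.2 fun x _ => this x x.2
  have hD := twoPt_eq_Ksub_of_sq hS' h2'
    (by rw [Q_card_of_le hQ, Zsub_card_of_le hS h2 hQ ht, hcard]) hgen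
  haveI := isSimpleGroup_of_twoPt_eq hS' h2' hgen hD
  haveI := CfsgLib.RankOneInvol.finite_omega hS
  refine Suzuki.Recognition.isoSuzuki_of_regular (isZassenhaus_of_twoPt_eq hS' h2' hD) a (Q.subgroupOf (Lsub G))
    hS'.le (isPGroup_two_Q hS' h2') ?_ fun y z hy hz => ?_
  · obtain ⟨x, y, hxy⟩ := hna
    exact ⟨⟨⟨x, hQ x.2⟩, x.2⟩, ⟨⟨y, hQ y.2⟩, y.2⟩, fun e => hxy (Subtype.ext
      (congrArg (fun w : Q.subgroupOf (Lsub G) => ((w : Lsub G) : G)) e))⟩
  · exact RankOne.existsUnique_smul_eq hS' hy hz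

end CfsgLib.RankOneRecog
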