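import Cfsg.Agent.Lib.RankOneRecog.Abelian
import Cfsg.Agent.Lib.RankOneRecog.SuzukiCase
import Cfsg.Agent.Lib.RankOneRecog.Unitary.Exists

/-!
The recognition of faithful rank one set-ups with a four group, given the unitary case.
-/

set_option autoImplicit false

noncomputable section

namespace CfsgLib.RankOneRecog

open CfsgLib.RankOneInvol CfsgLib.RankOneTwo
open MulAction (stabilizer)

universe u v

variable {G : Type u} {Ω : Type v} [Group G] [Finite G] [MulAction G Ω] [FaithfulSMul G Ω] {a : Ω} {t : G}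
  {Q : Subgroup G} (hS : Cfsg.IsRankOneSetup G Ω a t Q)
  (h2 : ∃ x y : G, x ≠ 1 ∧ y ≠ 1 ∧ x ≠ y ∧ x * x = 1 ∧ y * y = 1 ∧ x * y = y * x)
include hS h2

/-- if `Q` is commutative then `Lsub G` is `PSL₂` -/
theorem psl_two_of_comm (hab : ∀ x ∈ Q, ∀ y ∈ Q, x * y = y * x) :
    ∃ (F : Type) (_ : Field F) (_ : Fintype F), (∃ n : ℕ, 2 ≤ n ∧ Fintype.card F = 2 ^ n) ∧
      Nonempty (Lsub G ≃* Matrix.ProjectiveSpecialLinearGroup (Fin 2) F) := by
  have hZ : Zsub G a = Q :=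
    Subgroup.eq_of_le_of_card_ge (Zsub_le hS h2) (card_eq_of_comm hS h2 hab).le
  obtain ⟨s, r, hp⟩ := exists_paired_right hS (isSwap_t hS)
  obtain ⟨-, he⟩ := paired_eq_of_mem hS h2 hp (hZ.symm ▸ hp.2.2.1)
  exact psl_two_of_eq hS h2
    ⟨s, (mem_Zsub_iff hS h2).2 (Or.inr hp.1), (mem_invols.1 hp.1).2.1, he⟩ hZ

/-- **Recognition**, given the unitary case for every frame -/
theorem recognition
    (hU : ∀ (L : Type) [Field L] [Fintype L] [CharP L 2], (∃ n, 2 ≤ n ∧ Fintype.card L = 2 ^ n) →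
      Unitary.Frame a t Q L →
      ∃ (F : Type) (_ : Field F) (_ : Fintype F) (n : ℕ), 2 ≤ n ∧ Fintype.card F = (2 ^ n) ^ 2 ∧
        Nonempty (Lsub G ≃* Cfsg.PSU 3 F (2 ^ n))) :
    ∃ L : Subgroup G, L.Normal ∧ Odd L.index ∧
      ((∃ (F : Type) (_ : Field F) (_ : Fintype F), (∃ n : ℕ, 2 ≤ n ∧ Fintype.card F = 2 ^ n) ∧
          Nonempty (L ≃* Matrix.ProjectiveSpecialLinearGroup (Fin 2) F)) ∨
        Cfsg.Lie.IsoSuzuki L ∨
        (∃ (F : Type) (_ : Field F) (_ : Fintype F) (n : ℕ), 2 ≤ n ∧ Fintype.card F = (2 ^ n) ^ 2 ∧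
          Nonempty (L ≃* Cfsg.PSU 3 F (2 ^ n)))) := by
  refine ⟨Lsub G, inferInstance, odd_index_Lsub hS h2, ?_⟩
  by_cases hna : ∃ x y : Q, x * y ≠ y * x
  · rcases card_Q_cases hS h2 hna with hc | hc
    · exact Or.inr (Or.inl (isoSuzuki_of_sq hS h2 hna hc))
    · obtain ⟨L, iF, iT, iC, hn, -, ⟨F⟩⟩ := Unitary.exists_frame hS h2 hna hc
      exact Or.inr (Or.inr (hU L hn F))
  · push Not at hna
    exact Or.inl (psl_two_of_comm hS h2 fun x hx y hy => congrArg Subtype.val (hna ⟨x, hx⟩ ⟨y, hy⟩))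

end CfsgLib.RankOneRecog
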