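import Cfsg.Agent.Lib.RankOneRecog.AbelianCore
import Cfsg.Agent.Lib.RankOneTwo.Fam

/-!
Abelian `Q`: the characters of `Q` moved freely by `D`, and the character inequality showing
`|Q| ≤ q ^ 2`.
-/

set_option autoImplicit false

noncomputable section

namespace CfsgLib.RankOneRecog

open CfsgLib.RankOneInvol CfsgLib.RankOneTwo CfsgLib.Characters
open MulAction (stabilizer mem_stabilizer_iff)
open scoped ComplexConjugate

universe u v

section CommIrr

variable {A : Type u} [Group A] [Finite A] (hc : ∀ x y : A, x * y = y * x)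
include hc

theorem mk_bijective : Function.Bijective (ConjClasses.mk : A → ConjClasses A) := by
  refine ⟨fun x y h => ?_, ConjClasses.mk_surjective⟩
  obtain ⟨c, rfl⟩ := isConj_iff.1 (ConjClasses.mk_eq_mk_iff_isConj.1 h)
  rw [hc c x, mul_inv_cancel_right]

theorem card_irr_comm : Nat.card (Cfsg.IrrCharacter A) = Nat.card A := by
  rw [card_irr_eq_card_conjClasses]
  exact (Nat.card_eq_of_bijective _ (mk_bijective hc)).symm

/-- Brauer's lemma for a commutative group -/
theorem card_irr_fixed_comm (σ : Cfsg.IrrCharacter A → Cfsg.IrrCharacter A) (τ : A → A)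
    (hτ : Function.Bijective τ) (h : ∀ χ k, (σ χ : A → ℂ) (τ k) = (χ : A → ℂ) k) :
    Nat.card {χ : Cfsg.IrrCharacter A // σ χ = χ} = Nat.card {x : A // τ x = x} := by
  rw [BrauerPerm.card_fixed_eq σ τ hτ h]
  refine (Nat.card_eq_of_bijective (fun x : {x : A // τ x = x} => ⟨ConjClasses.mk x.1, fun k hk => by
    rw [(mk_bijective hc).1 hk, x.2]⟩) ⟨fun x y e => ?_, fun c => ?_⟩).symm
  · exact Subtype.ext ((mk_bijective hc).1 (congrArg Subtype.val e))
  · obtain ⟨x, hx⟩ := ConjClasses.exists_rep c.1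
    exact ⟨⟨x, (mk_bijective hc).1 ((c.2 x hx).trans hx.symm)⟩, Subtype.ext hx⟩

end CommIrr

/-- the numerical lemma -/
theorem two_pow_mul_le {f e : ℕ} (hf : 3 ≤ f) (he : 3 ≤ e) : (f - 1) * 2 ^ e ≤ 2 * (2 ^ f) ^ (e - 2) := by
  obtain ⟨i, rfl⟩ := Nat.exists_eq_add_of_le he
  have base : ∀ f, 3 ≤ f → (f - 1) * 4 ≤ 2 ^ f := by
    intro f hf
    induction f, hf using Nat.le_induction with
    | base => norm_num
    | succ n hn ih => rw [pow_succ]; omega
  rw [show 3 + i - 2 = i + 1 by omega, pow_succ, pow_add]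
  have h1 : 2 ^ i ≤ (2 ^ f) ^ i := Nat.pow_le_pow_left (Nat.le_self_pow (by omega) 2) i
  calc (f - 1) * (2 ^ 3 * 2 ^ i) = 2 * ((f - 1) * 4) * 2 ^ i := by ring
    _ ≤ 2 * 2 ^ f * (2 ^ f) ^ i := Nat.mul_le_mul (Nat.mul_le_mul_left 2 (base f hf)) h1
    _ = 2 * ((2 ^ f) ^ i * 2 ^ f) := by ring

variable {G : Type u} {Ω : Type v} [Group G] [Finite G] [MulAction G Ω] {a : Ω} {t : G} {Q : Subgroup G}
  (hS : Cfsg.IsRankOneSetup G Ω a t Q)
  (h2 : ∃ x y : G, x ≠ 1 ∧ y ≠ 1 ∧ x ≠ y ∧ x * x = 1 ∧ y * y = 1 ∧ x * y = y * x)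
  [FaithfulSMul G Ω]
include hS h2

theorem Pp_trivial : Pp Q = ⊥ := by
  rw [eq_bot_iff, Pp, Subgroup.closure_le]
  rintro x ⟨hx, ho⟩
  haveI : Fact (Nat.Prime 2) := ⟨Nat.prime_two⟩
  obtain ⟨k, hk⟩ := IsPGroup.iff_orderOf.1 (isPGroup_two_Q hS h2) ⟨x, hx⟩
  rw [Subgroup.orderOf_mk] at hk
  rw [hk] at ho
  rcases k with _ | k
  · rw [pow_zero, orderOf_eq_one_iff] at hk
    exact hk
  · exact absurd ho (Nat.not_odd_iff_even.2 (Nat.even_pow.2 ⟨even_two, by omega⟩))

theorem Sp_eq_Q : Sp Q = Q := by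
  refine Subgroup.eq_of_le_of_card_ge Sp_le ?_
  have h := card_Pp_mul (isNilpotent_Q hS h2)
  rw [Pp_trivial hS h2, Subgroup.card_bot, one_mul] at h
  exact h.ge

theorem irr_Pp_eq (ξ ξ' : Cfsg.IrrCharacter (Pp Q)) : ξ = ξ' := by
  have hc : ∀ x y : Pp Q, x * y = y * x := fun x y => by
    have hb : ∀ z : Pp Q, z = 1 := fun z => Subtype.ext (Subgroup.mem_bot.1 (Pp_trivial hS h2 ▸ z.2))
    rw [hb x, hb y]
  have h1 : Nat.card (Cfsg.IrrCharacter (Pp Q)) = 1 := by
    rw [card_irr_comm hc, Pp_trivial hS h2, Subgroup.card_bot]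
  exact (Nat.card_eq_one_iff_unique.1 h1).1.allEq ξ ξ'

theorem pact_eq_iff (d : twoPt G a t) (x y : Pair Q) :
    pact hS d x = y ↔ (irrAction (hSn hS)).smul d x.2 = y.2 :=
  ⟨fun h => congrArg Prod.snd h, fun h => Prod.ext (irr_Pp_eq hS h2 _ _) h⟩

variable (hab : ∀ x ∈ Q, ∀ y ∈ Q, x * y = y * x)
include hab

theorem Sp_comm (x y : Sp Q) : x * y = y * x := Subtype.ext (hab x (Sp_le x.2) y (Sp_le y.2))

theorem card_pair : Nat.card (Pair Q) = Nat.card Q := by
  rw [Nat.card_prod, card_irr_comm (Sp_comm hS h2 hab), Sp_eq_Q hS h2]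
  have : Nat.card (Cfsg.IrrCharacter (Pp Q)) = 1 :=
    Nat.card_eq_one_iff_unique.2 ⟨⟨irr_Pp_eq hS h2⟩, ⟨principalIrr _⟩⟩
  rw [this, one_mul]

theorem dg_eq_one (x : Pair Q) : dg x = 1 := by
  classical
  have key : ∀ {A : Type u} [Group A] [Finite A], (∀ x y : A, x * y = y * x) →
      ∀ χ : Cfsg.IrrCharacter A, cdeg χ = 1 := by
    intro A _ _ hc χ
    haveI := Fintype.ofFinite A
    have h := sum_cdeg_sq (A := A)
    rw [← card_irr_comm hc, Nat.card_eq_fintype_card, ← Finset.card_univ, Finset.card_eq_sum_ones] at h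
    have h1 := (Finset.sum_eq_sum_iff_of_le fun χ _ => Nat.one_le_pow 2 _ (cdeg_pos χ)).1 h.symm χ
      (Finset.mem_univ _)
    exact (Nat.pow_eq_one.1 h1.symm).resolve_right two_ne_zero
  rw [dg, key (Sp_comm hS h2 hab), key fun y z => ?_, one_mul]
  rw [show y = 1 from Subtype.ext (Subgroup.mem_bot.1 (Pp_trivial hS h2 ▸ y.2)), mul_one, one_mul]

theorem card_triv_pair :
    Nat.card {x : Pair Q // Triv a x.2} = (Zin a Q).index := by
  rw [← card_triv hS h2]
  exact Nat.card_congr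
    { toFun := fun x => ⟨x.1.2, x.2⟩
      invFun := fun μ => ⟨(principalIrr _, μ.1), μ.2⟩
      left_inv := fun x => Subtype.ext (Prod.ext (irr_Pp_eq hS h2 _ _) rfl)
      right_inv := fun μ => rfl }

/-- the real characters of `Q` -/
theorem card_real :
    Nat.card {μ : Cfsg.IrrCharacter (Sp Q) // BrauerPerm.conjIrr μ = μ} = Nat.card (Zsub G a) := by
  rw [card_irr_fixed_comm (Sp_comm hS h2 hab) BrauerPerm.conjIrr (·⁻¹) inv_involutive.bijective
    fun χ k => by rw [BrauerPerm.conjIrr_apply, irr_apply_inv, Complex.conj_conj]]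
  refine Nat.card_congr
    { toFun := fun x => ⟨x.1.1, mem_Zsub_of_sq hS h2 (Sp_le x.1.2) (by
        have := congrArg Subtype.val (inv_eq_iff_mul_eq_one.1 x.2)
        simpa using this)⟩
      invFun := fun z => ⟨⟨z.1, Zsub_le_Sp hS h2 z.2⟩, inv_eq_iff_mul_eq_one.2
        (Subtype.ext (Zsub_sq hS h2 z.2))⟩
      left_inv := fun x => rfl
      right_inv := fun z => rfl }

/-- the characters fixed by an element of `D` -/
theorem card_fixed (d : twoPt G a t) :
    Nat.card {μ : Cfsg.IrrCharacter (Sp Q) // (irrAction (hSn hS)).smul d μ = μ} =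
      Nat.card {x : Sp Q // dAut (hSn hS) d x = x} :=
  card_irr_fixed_comm (Sp_comm hS h2 hab) _ (dAut (hSn hS) d) (dAut (hSn hS) d).bijective fun χ k => by
    show (χ : Sp Q → ℂ) ((dAut (hSn hS) d).symm (dAut (hSn hS) d k)) = _
    rw [MulEquiv.symm_apply_apply]

/-- an element of `D` centralising a nontrivial element of `Q` is a `K`-conjugate of one of
`D ∩ C(t)` -/
theorem exists_conj_Vcent {d y : G} (hd : d ∈ twoPt G a t) (hy : y ∈ Q) (hy1 : y ≠ 1)
    (hc : d * y = y * d) : ∃ k ∈ Ksub G a t, k⁻¹ * d * k ∈ Vcent G a t := by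
  obtain ⟨i, hi, hi'⟩ := SuzukiTwo.exists_order (isPGroup_two_Q hS h2) (x := (⟨y, hy⟩ : Q))
    fun e => hy1 (congrArg Subtype.val e)
  set w : G := y ^ 2 ^ i with hw
  have hw1 : w ≠ 1 := fun e => hi (Subtype.ext (by simpa using e))
  have hww : w * w = 1 := by
    have := congrArg Subtype.val hi'
    rw [hw, ← pow_two, ← pow_mul, ← pow_succ]
    simpa using this
  have hdw : d * w = w * d := ((show Commute d y from hc).pow_right _).eq
  obtain ⟨s, r, h⟩ := exists_paired_right hS (isSwap_t hS)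
  obtain ⟨k, hk, -⟩ := Ksub_regular hS h2 (Subgroup.subset_closure h.1) (mem_invols.1 h.1).2.1
    (mem_Zsub_of_sq hS h2 (Q.pow_mem hy _) hww) hw1
  have hkD := Ksub_le hS h2 k.2
  refine ⟨k, k.2, ?_⟩
  have hmem : (k : G)⁻¹ * d * k ∈ twoPt G a t := mul_mem (mul_mem (inv_mem hkD) hd) hkD
  refine (mem_Vcent hS).2 ⟨hmem, (centralizer_base hS h hmem).1 ?_⟩
  calc (k : G)⁻¹ * d * k * s = (k : G)⁻¹ * (d * ((k : G) * s * (k : G)⁻¹)) * k := by group
    _ = (k : G)⁻¹ * ((k : G) * s * (k : G)⁻¹ * d) * k := by rw [hk, hdw]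
    _ = s * ((k : G)⁻¹ * d * k) := by group

section Step

variable (ih : AbIndHyp.{v} (Nat.card G)) {e : ℕ} (he : Nat.card Q = Nat.card (Zsub G a) ^ e)
  (he2 : 2 ≤ e)
include ih he he2

/-- a nontrivial element of `D` fixes at most `2 ^ e` elements of `Q` -/
theorem card_fixed_le (d : twoPt G a t) (hd1 : d ≠ 1) :
    Nat.card {x : Sp Q // dAut (hSn hS) d x = x} ≤ 2 ^ e := by
  classical
  obtain ⟨f, hf, hexp, -⟩ := exists_Q_card hS h2 hab
  have hfe : f = e := by
    have hZ := card_Zsub hS h2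
    have : 0 < Nat.card (Ksub G a t) := Nat.card_pos
    exact Nat.pow_right_injective (show 2 ≤ Nat.card (Zsub G a) by omega) (hf.symm.trans he)
  subst hfe
  set C : Subgroup G := Q ⊓ Subgroup.centralizer ({(d : G)} : Set G) with hC
  letI : CommGroup C := qComm fun x hx y hy => hab x hx.1 y hy.1
  have hcd : ∀ x : C, (d : G) * (x : G) = (x : G) * d := fun x =>
    Subgroup.mem_centralizer_iff.1 x.2.2 _ rfl
  have hle : Nat.card {x : Sp Q // dAut (hSn hS) d x = x} ≤ Nat.card C :=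
    Nat.card_le_card_of_injective (fun x => ⟨((x.1 : Sp Q) : G), Sp_le x.1.2,
      mem_centralizer_single hS (mul_inv_eq_iff_eq_mul.1 (congrArg Subtype.val x.2))⟩)
      fun x y e => Subtype.ext (Subtype.ext (congrArg (fun w : C => (w : G)) e))
  refine hle.trans ?_
  have htop : twoKer C f = ⊤ := eq_top_iff.2 fun x _ => Subtype.ext (by
    show ((x ^ 2 ^ f : C) : G) = 1
    rw [SubmonoidClass.coe_pow]; exact hexp x x.2.1)
  have h1 : Nat.card (twoKer C 1) ≤ 2 := by
    rw [← Nat.card_congr (Equiv.optionSubtypeNe (1 : twoKer C 1)), Finite.card_option]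
    suffices Subsingleton {x : twoKer C 1 // x ≠ 1} by
      have := Finite.card_le_one_iff_subsingleton.2 this
      omega
    constructor
    intro x y
    have hsq : ∀ x : twoKer C 1, ((x : C) : G) * ((x : C) : G) = 1 := fun x => by
      have := congrArg (fun w : C => (w : G)) (mem_twoKer.1 x.2)
      simpa [pow_two] using this
    have hne : ∀ x : {x : twoKer C 1 // x ≠ 1}, ((x.1 : C) : G) ≠ 1 := fun x e =>
      x.2 (Subtype.ext (Subtype.ext e))
    obtain ⟨k, hk, hv⟩ := exists_conj_Vcent hS h2 hab d.2 x.1.1.2.1 (hne x) (hcd _)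
    have hka := (mem_twoPt.1 (inv_mem (Ksub_le hS h2 hk))).1
    have hconj : ∀ w : twoKer C 1, k⁻¹ * (d : G) * k * (k⁻¹ * ((w : C) : G) * k) =
        k⁻¹ * ((w : C) : G) * k * (k⁻¹ * (d : G) * k) := fun w => by
      calc k⁻¹ * (d : G) * k * (k⁻¹ * ((w : C) : G) * k) = k⁻¹ * ((d : G) * ((w : C) : G)) * k := by group
        _ = _ := by rw [hcd]; group
    have hZ : ∀ w : twoKer C 1, k⁻¹ * ((w : C) : G) * k ∈ Zsub G a := fun w => by
      have := Zsub_conj hS h2 hka (mem_Zsub_of_sq hS h2 (w : C).2.1 (hsq w))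
      simpa using this
    have hv1 : k⁻¹ * (d : G) * k ≠ 1 := conj_ne_one' (fun e => hd1 (Subtype.ext e)) k
    have := centralizes_one hS h2 hab ih he he2 hv hv1 (hZ x.1) (hZ y.1) (conj_ne_one' (hne x) k)
      (conj_ne_one' (hne y) k) (hconj _) (hconj _)
    exact Subtype.ext (Subtype.ext (Subtype.ext (mul_left_cancel (mul_right_cancel this))))
  calc Nat.card C = Nat.card (twoKer C f) := by rw [htop, Subgroup.card_top]
    _ ≤ Nat.card (twoKer C 1) ^ f := card_twoKer_le f
    _ ≤ 2 ^ f := Nat.pow_le_pow_left h1 f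

/-- few pairs other than the principal one have a nontrivial stabiliser -/
theorem two_mul_nonfree_le :
    2 * Nat.card {x : Pair Q // x.2 ≠ principalIrr _ ∧ ¬ FreeP hS x} ≤
      2 ^ e * (Nat.card (Ksub G a t) * (Nat.card (Vcent G a t) - 1)) := by
  classical
  let NF := {x : Pair Q // x.2 ≠ principalIrr _ ∧ ¬ FreeP hS x}
  let P := {p : twoPt G a t × Pair Q // p.1 ≠ 1 ∧ p.2.2 ≠ principalIrr _ ∧ pact hS p.1 p.2 = p.2}
  have hex : ∀ x : NF, ∃ d : twoPt G a t, pact hS d x.1 = x.1 ∧ d ≠ 1 := fun x => by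
    have := x.2.2
    unfold FreeP at this
    push Not at this
    exact this
  choose δ hδ hδ1 using hex
  have h1 : Nat.card (Bool × NF) ≤ Nat.card P := by
    refine Nat.card_le_card_of_injective (fun p =>
      (⟨(bif p.1 then δ p.2 else (δ p.2)⁻¹, p.2.1), ?_, p.2.2.1, ?_⟩ : P)) ?_
    · cases p.1
      · exact inv_ne_one.2 (hδ1 _)
      · exact hδ1 _
    · cases p.1
      · show pact hS (δ p.2)⁻¹ p.2.1 = p.2.1
        conv_lhs => rw [← hδ p.2]
        exact pact_inv_pact hS _ _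
      · exact hδ _
    rintro ⟨b, x⟩ ⟨b', x'⟩ h
    have e1 : (bif b then δ x else (δ x)⁻¹) = bif b' then δ x' else (δ x')⁻¹ :=
      congrArg (fun p : P => p.1.1) h
    obtain rfl : x = x' := Subtype.ext (congrArg (fun p : P => p.1.2) h)
    have hne : δ x ≠ (δ x)⁻¹ := fun e => hδ1 x (Subtype.ext
      (eq_one_of_mem_of_sq hS.odd_card (δ x).2 (by
        have := congrArg (fun d : twoPt G a t => (δ x : G) * d) e
        simpa using this)))
    cases b <;> cases b' <;> simp only [cond_true, cond_false] at e1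
    · rfl
    · exact absurd e1.symm hne
    · exact absurd e1 hne
    · rfl
  have hP : ∀ p : P, ∃ kv : Ksub G a t × {v : Vcent G a t // v ≠ 1},
      (p.1.1 : G) = (kv.1 : G) * ((kv.2.1 : Vcent G a t) : G) * (kv.1 : G)⁻¹ := by
    rintro ⟨⟨d, x⟩, hd1, hx, hfix⟩
    have hfix' := (pact_eq_iff hS h2 d x x).1 hfix
    haveI : Nontrivial {μ : Cfsg.IrrCharacter (Sp Q) // (irrAction (hSn hS)).smul d μ = μ} :=
      ⟨⟨⟨x.2, hfix'⟩, ⟨principalIrr _, Subtype.ext (funext fun k => rfl)⟩,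
        fun e => hx (congrArg Subtype.val e)⟩⟩
    have h := Finite.one_lt_card (α := {μ : Cfsg.IrrCharacter (Sp Q) //
      (irrAction (hSn hS)).smul d μ = μ})
    rw [card_fixed hS h2 hab] at h
    haveI := Finite.one_lt_card_iff_nontrivial.1 h
    obtain ⟨⟨y, hy⟩, hy1⟩ := exists_ne (⟨1, map_one _⟩ : {x : Sp Q // dAut (hSn hS) d x = x})
    obtain ⟨k, hk, hv⟩ := exists_conj_Vcent hS h2 hab d.2 (Sp_le y.2)
      (fun e => hy1 (Subtype.ext (Subtype.ext e))) (mul_inv_eq_iff_eq_mul.1 (congrArg Subtype.val hy))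
    refine ⟨(⟨k, hk⟩, ⟨⟨k⁻¹ * d * k, hv⟩, fun e => conj_ne_one' (fun h => hd1 (Subtype.ext h)) k
      (congrArg Subtype.val e)⟩), ?_⟩
    show (d : G) = k * (k⁻¹ * d * k) * k⁻¹
    group
  choose φ hφ using hP
  have hfib : ∀ kv, Nat.card {p : P // φ p = kv} ≤ 2 ^ e := by
    intro kv
    let d₀ : twoPt G a t := ⟨(kv.1 : G) * ((kv.2.1 : Vcent G a t) : G) * (kv.1 : G)⁻¹,
      mul_mem (mul_mem (Ksub_le hS h2 kv.1.2) (Vcent_le kv.2.1.2)) (inv_mem (Ksub_le hS h2 kv.1.2))⟩
    have hd₀ : d₀ ≠ 1 := fun h => conj_ne_one (fun h' => kv.2.2 (Subtype.ext h')) (kv.1 : G)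
      (congrArg Subtype.val h)
    have hpd : ∀ p : {p : P // φ p = kv}, p.1.1.1 = d₀ := fun p => Subtype.ext (by
      rw [hφ p.1, p.2])
    refine (Nat.card_le_card_of_injective (fun p : {p : P // φ p = kv} =>
      (⟨p.1.1.2.2, by rw [← hpd p]; exact (pact_eq_iff hS h2 _ _ _).1 p.1.2.2.2⟩ :
        {μ : Cfsg.IrrCharacter (Sp Q) // (irrAction (hSn hS)).smul d₀ μ = μ})) ?_).trans
      ((card_fixed hS h2 hab d₀).trans_le (card_fixed_le hS h2 hab ih he he2 d₀ hd₀))
    intro p q h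
    exact Subtype.ext (Subtype.ext (Prod.ext ((hpd p).trans (hpd q).symm)
      (Prod.ext (irr_Pp_eq hS h2 _ _) (congrArg Subtype.val h))))
  have h3 := LinearTwist.card_le_mul_of_fibres φ _ hfib
  have h4 : Nat.card {v : Vcent G a t // v ≠ 1} + 1 = Nat.card (Vcent G a t) := by
    rw [← Finite.card_option]
    exact Nat.card_congr (Equiv.optionSubtypeNe (1 : Vcent G a t))
  rw [Nat.card_prod, Nat.card_eq_fintype_card (α := Bool), Fintype.card_bool] at h1
  rw [Nat.card_prod (Ksub G a t)] at h3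
  rw [show Nat.card (Vcent G a t) - 1 = Nat.card {v : Vcent G a t // v ≠ 1} by omega]
  exact h1.trans h3

end Step

section Free

variable (hV : Vcent G a t ≠ ⊥)
include hV

omit hab in
theorem FreeP_ne_principal {x : Pair Q} (hx : FreeP hS x) : x.2 ≠ principalIrr _ := by
  intro e
  obtain ⟨v, hv, hv1⟩ := (Subgroup.bot_or_exists_ne_one _).resolve_left hV
  refine hv1 (congrArg Subtype.val (hx ⟨v, Vcent_le hv⟩ ((pact_eq_iff hS h2 _ _ _).2 ?_)))
  rw [e]
  exact Subtype.ext (funext fun k => rfl)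

/-- a free pair is not conjugate to its complex conjugate: there are only `q` real characters -/
theorem free_conj_ne {x : Pair Q} (hx : FreeP hS x) (d : twoPt G a t) : conjPair x ≠ pact hS d x := by
  intro h
  have hdd : pact hS (d * d) x = x := by
    rw [pact_mul, ← h, pact_conjPair, ← h, conjPair_conjPair]
  have hd : d = 1 := Subtype.ext (eq_one_of_mem_of_sq hS.odd_card d.2
    (congrArg Subtype.val (hx _ hdd)))
  rw [hd, pact_one] at h
  have hreal : BrauerPerm.conjIrr x.2 = x.2 := congrArg Prod.snd h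
  have hmem : ∀ d : twoPt G a t, BrauerPerm.conjIrr (pact hS d x).2 = (pact hS d x).2 := fun d => by
    have := congrArg Prod.snd (pact_conjPair hS d x)
    rw [h] at this
    exact this.symm
  have hpr : BrauerPerm.conjIrr (principalIrr (Sp Q)) = principalIrr _ :=
    Subtype.ext (funext fun k => by simp [principalIrr])
  have h1 := Nat.card_le_card_of_injective
    (fun o : Option (twoPt G a t) => (o.elim ⟨principalIrr _, hpr⟩ fun d => ⟨(pact hS d x).2, hmem d⟩ :
      {μ : Cfsg.IrrCharacter (Sp Q) // BrauerPerm.conjIrr μ = μ})) ?_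
  · rw [Finite.card_option, card_real hS h2 hab, card_Zsub hS h2] at h1
    have := card_Ksub_lt hS h2 hV
    omega
  · rintro (_ | d) (_ | d') e
    · rfl
    · exact absurd (congrArg Subtype.val e).symm (FreeP_ne_principal hS h2 hV (hx.map hS d'))
    · exact absurd (congrArg Subtype.val e) (FreeP_ne_principal hS h2 hV (hx.map hS d))
    · exact congrArg some (hx.pact_eq hS (Prod.ext (irr_Pp_eq hS h2 _ _) (congrArg Subtype.val e)))

end Free

section Families

omit h2 hab [FaithfulSMul G Ω] in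
/-- free pairs of kind `k` (`true`: `Z` in the kernel) -/
def FamA (k : Bool) (x : Pair Q) : Prop := FreeP hS x ∧ (Triv a x.2 ↔ k = true)

omit h2 hab [FaithfulSMul G Ω] in
/-- the `D`-orbits -/
def famASetoid (k : Bool) : Setoid {x : Pair Q // FamA hS k x} where
  r x y := ∃ d, pact hS d x.1 = y.1
  iseqv :=
    ⟨fun x => ⟨1, pact_one hS x.1⟩,
      fun {x y} ⟨d, hd⟩ => ⟨d⁻¹, by rw [← hd, pact_inv_pact]⟩,
      fun {x y z} ⟨d, hd⟩ ⟨e, he⟩ => ⟨e * d, by rw [pact_mul, hd, he]⟩⟩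

omit h2 hab [FaithfulSMul G Ω] in
/-- the index type -/
abbrev FamAI (k : Bool) : Type u := Quotient (famASetoid hS k)

omit h2 hab [FaithfulSMul G Ω] in
theorem famA_out {k : Bool} (i : FamAI hS k) : FamA hS k (Quotient.out i).1 := (Quotient.out i).2

theorem two_le_famA (hV : Vcent G a t ≠ ⊥) {k : Bool} (i : FamAI hS k) : 2 ≤ Nat.card (FamAI hS k) := by
  set x := (Quotient.out i).1
  have hx : FamA hS k x := famA_out hS i
  let y : {x : Pair Q // FamA hS k x} :=
    ⟨conjPair x, hx.1.conj hS, (triv_conjPair_iff x).trans hx.2⟩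
  refine Finite.one_lt_card_iff_nontrivial.2 ⟨⟨i, Quotient.mk _ y, fun e => ?_⟩⟩
  obtain ⟨d, hd⟩ : ∃ d, pact hS d (Quotient.out i).1 = y.1 :=
    Quotient.exact ((Quotient.out_eq i).trans e)
  exact free_conj_ne hS h2 hab hV hx.1 d hd.symm

variable [Fintype G] [Fintype (stabilizer G a)]

omit hab [FaithfulSMul G Ω] in
/-- the characters of a family -/
def famATheta (k : Bool) (i : FamAI hS k) : stabilizer G a → ℂ := theta hS h2 (Quotient.out i).1

theorem theta_one_ab (x : Pair Q) : theta hS h2 x 1 = (Nat.card (twoPt G a t) : ℂ) := by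
  rw [theta_one, dg_eq_one hS h2 hab, mul_one]

open scoped Classical in
theorem isOrthLocal_famA (k : Bool) : IsOrthLocal a (famATheta hS h2 k) := by
  refine ⟨fun i => isCharacter_theta hS h2 _, fun i j => ?_, fun i j => ?_⟩
  · split_ifs with h
    · subst h
      exact classInner_theta_free hS h2 (famA_out hS i).1
    · refine classInner_theta_eq_zero hS h2 fun d hd => h ?_
      rw [← Quotient.out_eq i, ← Quotient.out_eq j]
      exact (Quotient.sound (s := famASetoid hS k) ⟨d, hd⟩).symm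
  · exact isLocal_theta_sub hS (isCharacter_theta hS h2 _) (isCharacter_theta hS h2 _)
      ((theta_one_ab hS h2 hab _).trans (theta_one_ab hS h2 hab _).symm)
      (theta_supp hS h2 _) (theta_supp hS h2 _)

omit hab [FaithfulSMul G Ω] in
theorem classInner_famA (i : FamAI hS true) (j : FamAI hS false) :
    Cfsg.classInner (famATheta hS h2 true i) (famATheta hS h2 false j) = 0 := by
  refine classInner_theta_eq_zero hS h2 fun d hd => ?_
  have h1 := (famA_out hS i).2.2 rfl
  rw [← hd] at h1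
  exact Bool.false_ne_true ((famA_out hS j).2.1 ((triv_pact_iff hS h2 d _).1 h1))

/-- the size of `L` on the exceptional characters of the pairs nontrivial on `Z` -/
theorem lam_famA (hV : Vcent G a t ≠ ⊥) (i₀ : FamAI hS true) {ε : ℤ}
    {ν : FamAI hS false → Cfsg.IrrCharacter G} (hν : IsExc a (famATheta hS h2 false) ε ν)
    (j : FamAI hS false) :
    |lam a t Q (ν j)| * (2 * ((Nat.card (Zsub G a) : ℝ) - 1)) =
      (Nat.card (Zsub G a) : ℝ) * Nat.card (twoPt G a t) := by
  classical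
  haveI := Fintype.ofFinite (FamAI hS true)
  haveI := Fintype.ofFinite (FamAI hS false)
  haveI : Nonempty (FamAI hS true) := ⟨i₀⟩
  obtain ⟨εA, νA, hνA⟩ := exists_exc (isOrthLocal_famA hS h2 hab true)
  obtain ⟨z, hz⟩ := Zs_nonempty hS
  set zH : stabilizer G a := ⟨z, (mem_Zs.1 hz).1⟩ with hzH
  set D : ℝ := (Nat.card (twoPt G a t) : ℝ) with hD
  set q : ℝ := (Nat.card (Zsub G a) : ℝ) with hqdef
  have hq := one_lt_q hS h2
  have hq1 : q - 1 ≠ 0 := by linarith
  have hqC : ((q : ℂ) - 1) ≠ 0 := by exact_mod_cast hq1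
  have hA : ∀ i, famATheta hS h2 true i zH = ((D : ℝ) : ℂ) := fun i => by
    refine mul_left_cancel₀ hqC ?_
    have h := theta_apply_Z hS h2 (Quotient.out i).1 (z := zH) hz
    rw [dg_eq_one hS h2 hab, if_pos ((famA_out hS i).2.2 rfl)] at h
    rw [hqdef, Complex.ofReal_natCast, hD, Complex.ofReal_natCast]
    unfold famATheta
    rw [h]; push_cast; ring
  have hB : ∀ i, famATheta hS h2 false i zH = ((-D / (q - 1) : ℝ) : ℂ) := fun i => by
    refine mul_left_cancel₀ hqC ?_
    have h := theta_apply_Z hS h2 (Quotient.out i).1 (z := zH) hz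
    rw [dg_eq_one hS h2 hab, if_neg fun e => Bool.false_ne_true ((famA_out hS i).2.1 e)] at h
    have e1 : (q : ℂ) - 1 = (Nat.card (Zsub G a) : ℂ) - 1 := by rw [hqdef, Complex.ofReal_natCast]
    unfold famATheta
    rw [e1, h, Complex.ofReal_div, Complex.ofReal_neg, Complex.ofReal_sub, Complex.ofReal_one, e1,
      mul_div_cancel₀ _ (e1 ▸ hqC), hD, Complex.ofReal_natCast]
    push_cast; ring
  have hloc : IsLocal a (((1 : ℕ) : ℂ) • famATheta hS h2 true i₀ - famATheta hS h2 false j) := by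
    rw [Nat.cast_one, one_smul]
    exact isLocal_theta_sub hS (isCharacter_theta hS h2 _) (isCharacter_theta hS h2 _)
      ((theta_one_ab hS h2 hab _).trans (theta_one_ab hS h2 hab _).symm)
      (theta_supp hS h2 _) (theta_supp hS h2 _)
  set val : ℝ := D + D / (q - 1) with hval
  have hvpos : 0 < val := by
    have : 0 < D := Nat.cast_pos.2 Nat.card_pos
    have : 0 < D / (q - 1) := div_pos this (by linarith)
    linarith
  have hv : (((1 : ℕ) : ℂ) • famATheta hS h2 true i₀ - famATheta hS h2 false j) zH = (val : ℂ) := by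
    rw [Pi.sub_apply, Pi.smul_apply, hA, hB, Nat.cast_one, one_smul, hval]
    push_cast; ring
  have key := (lam_of_relation hS h2 (isOrthLocal_famA hS h2 hab true) (isOrthLocal_famA hS h2 hab false)
    (classInner_famA hS h2) hνA hν Nat.one_pos
    (by rw [← Nat.card_eq_fintype_card]; simpa using two_le_famA hS h2 hab hV i₀)
    (by rw [← Nat.card_eq_fintype_card]; exact two_le_famA hS h2 hab hV j)
    hloc hz (fun i j => (hA i).trans (hA j).symm) (fun i j => (hB i).trans (hB j).symm) hv hvpos.ne').2 j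
  rw [abs_of_pos hvpos] at key
  calc |lam a t Q (ν j)| * (2 * (q - 1)) = |lam a t Q (ν j)| * 2 * (q - 1) := by ring
    _ = val * (q - 1) := by rw [key]
    _ = q * D := by rw [hval, add_mul, div_mul_cancel₀ _ hq1]; ring

/-- the free pairs nontrivial on `Z` are few: the square sum of `L` -/
theorem card_free_le (hV : Vcent G a t ≠ ⊥) (i₀ : FamAI hS true) :
    (Nat.card {x : Pair Q // FamA hS false x} : ℝ) * (Nat.card (Zsub G a) : ℝ) ^ 2 *
        ((Nat.card Q : ℝ) + 1) ≤
      (Nat.card Q : ℝ) * (4 * ((Nat.card Q : ℝ) + 1) * ((Nat.card (Zsub G a) : ℝ) - 1) +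
        ((Nat.card (Zsub G a) : ℝ) - 2) ^ 2) := by
  classical
  haveI := Fintype.ofFinite (twoPt G a t)
  haveI := Fintype.ofFinite {x : Pair Q // FamA hS false x}
  set q : ℝ := (Nat.card (Zsub G a) : ℝ) with hqdef
  set D : ℝ := (Nat.card (twoPt G a t) : ℝ) with hDdef
  set M : ℝ := (Nat.card Q : ℝ) with hMdef
  set W : ℕ := Nat.card {x : Pair Q // FamA hS false x} with hW
  have hq := one_lt_q hS h2
  have hD0 : 0 < D := Nat.cast_pos.2 Nat.card_pos
  have hM0 : 0 < M := Nat.cast_pos.2 Nat.card_pos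
  by_cases hne : IsEmpty (FamAI hS false)
  · haveI : IsEmpty {x : Pair Q // FamA hS false x} := ⟨fun x => hne.false (Quotient.mk _ x)⟩
    rw [hW, Nat.card_of_isEmpty, Nat.cast_zero, zero_mul, zero_mul]
    have : 0 ≤ q - 1 := by linarith
    positivity
  rw [not_isEmpty_iff] at hne
  obtain ⟨ε, ν, hν⟩ := exists_exc (isOrthLocal_famA hS h2 hab false)
  let Φ : {x : Pair Q // FamA hS false x} → Cfsg.IrrCharacter G := fun x => ν (Quotient.mk _ x)
  have hfib : ∀ χ : Cfsg.IrrCharacter G,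
      (Finset.univ.filter fun x => Φ x = χ).card ≤ Fintype.card (twoPt G a t) := by
    intro χ
    rcases (Finset.univ.filter fun x => Φ x = χ).eq_empty_or_nonempty with he | ⟨x, hx⟩
    · simp [he]
    refine le_trans ?_ (le_of_eq (Finset.card_univ (α := twoPt G a t)))
    have hd : ∀ y ∈ Finset.univ.filter (fun x => Φ x = χ), ∃ d, pact hS d x.1 = y.1 := fun y hy =>
      Quotient.exact (hν.inj ((Finset.mem_filter.1 hx).2.trans (Finset.mem_filter.1 hy).2.symm))
    choose g hg using hd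
    refine Finset.card_le_card_of_injOn (fun y => if h : y ∈ _ then g y h else 1)
      (fun y _ => Finset.mem_univ _) fun y hy z hz e => ?_
    simp only [Finset.mem_coe] at hy hz
    simp only [dif_pos hy, dif_pos hz] at e
    exact Subtype.ext (by rw [← hg y hy, ← hg z hz, e])
  have hsum : ∑ x, lam a t Q (Φ x) ^ 2 ≤ D * ∑ χ : Cfsg.IrrCharacter G, lam a t Q χ ^ 2 := by
    rw [← Finset.sum_fiberwise Finset.univ Φ, Finset.mul_sum]
    refine Finset.sum_le_sum fun χ _ => ?_
    rw [Finset.sum_congr rfl fun x hx => by rw [(Finset.mem_filter.1 hx).2], Finset.sum_const,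
      nsmul_eq_mul, hDdef, Nat.card_eq_fintype_card]
    exact mul_le_mul_of_nonneg_right (Nat.cast_le.2 (hfib χ)) (sq_nonneg _)
  have hl : (∑ x, lam a t Q (Φ x) ^ 2) * (2 * (q - 1)) ^ 2 = (W : ℝ) * q ^ 2 * D ^ 2 := by
    rw [Finset.sum_mul, Finset.sum_congr rfl fun x _ => show
      lam a t Q (Φ x) ^ 2 * (2 * (q - 1)) ^ 2 = q ^ 2 * D ^ 2 by
        rw [← sq_abs, ← mul_pow, lam_famA hS h2 hab hV i₀ hν, mul_pow],
      Finset.sum_const, Finset.card_univ, nsmul_eq_mul, hW, Nat.card_eq_fintype_card]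
    ring
  have hZs : ((Zs G a).card : ℝ) = q - 1 := by
    have h : (Zs G a).card + 1 = Nat.card (Zsub G a) := by
      rw [← Nat.card_congr (Equiv.optionSubtypeNe (1 : Zsub G a)), Finite.card_option,
        Nat.card_eq_fintype_card, ← Finset.card_univ]
      congr 1
      refine Finset.card_bij (fun z hz => ⟨⟨z, Subgroup.subset_closure (mem_Zs_iff.1 hz)⟩,
        fun e => (mem_Zs.1 hz).2.1 (congrArg Subtype.val e)⟩) (fun z _ => Finset.mem_univ _)
        (fun z _ w _ e => congrArg (fun w : {z : Zsub G a // z ≠ 1} => ((w.1 : Zsub G a) : G)) e)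
        fun w _ => ⟨w.1, mem_Zs_iff.2 (((mem_Zsub_iff hS h2).1 w.1.2).resolve_left
          fun e => w.2 (Subtype.ext e)), rfl⟩
    have h' : ((Zs G a).card : ℝ) + 1 = q := by rw [hqdef, ← h]; push_cast; ring
    linarith
  have hG : (Nat.card G : ℝ) = M * D * (M + 1) := by
    rw [CfsgLib.RankOne.card_group hS]
    push_cast
    rfl
  have hC : (Nat.card (Subgroup.centralizer ({t} : Set G)) : ℝ) * ((M + 1) * (q - 1)) =
      M * D * (M + 1) := by
    rw [← hG, ← ClassCount.card_cls_mul_centralizer t, card_cls_t hS]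
    push_cast
    rw [hZs]
    ring
  have hb : bconst G a Q = (q - 2) / (2 * (M + 1) * (q - 1)) := by
    rw [bconst, hZs]; ring
  have hM1 : M + 1 ≠ 0 := by positivity
  have hq1 : q - 1 ≠ 0 := by linarith
  have hCv : (Nat.card (Subgroup.centralizer ({t} : Set G)) : ℝ) = M * D / (q - 1) := by
    rw [eq_div_iff hq1]
    refine mul_right_cancel₀ hM1 ?_
    linear_combination hC
  have h1 := mul_le_mul_of_nonneg_right hsum (sq_nonneg (2 * (q - 1)))
  rw [hl, sum_lam_sq hS, hCv, hb, hG] at h1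
  have h3 : (M * D / (q - 1) + ((q - 2) / (2 * (M + 1) * (q - 1))) ^ 2 * (M * D * (M + 1))) *
      (2 * (q - 1)) ^ 2 * (M + 1) = M * D * (4 * (M + 1) * (q - 1) + (q - 2) ^ 2) := by
    field_simp
    ring
  have h4 := mul_le_mul_of_nonneg_right h1 (show 0 ≤ M + 1 by positivity)
  refine le_of_mul_le_mul_right ?_ (mul_pos hD0 hD0)
  calc (W : ℝ) * q ^ 2 * (M + 1) * (D * D) = (W : ℝ) * q ^ 2 * D ^ 2 * (M + 1) := by ring
    _ ≤ _ := h4
    _ = D * ((M * D / (q - 1) + ((q - 2) / (2 * (M + 1) * (q - 1))) ^ 2 * (M * D * (M + 1))) *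
          (2 * (q - 1)) ^ 2 * (M + 1)) := by ring
    _ = _ := by rw [h3]; ring

end Families

variable (ih : AbIndHyp.{v} (Nat.card G))
include ih

/-- **`|Q| ≤ q ^ 2`**, unless `D = K` -/
theorem false_of_three_le {e : ℕ} (he : Nat.card Q = Nat.card (Zsub G a) ^ e) (he3 : 3 ≤ e)
    (hV : Vcent G a t ≠ ⊥) : False := by
  classical
  haveI := Fintype.ofFinite G
  haveI := Fintype.ofFinite (stabilizer G a)
  obtain ⟨f, hf2, hqf, -, hVf⟩ := exists_Vcent_bound hS h2 hab
  have hVodd : Odd (Nat.card (Vcent G a t)) :=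
    hS.odd_card.of_dvd_nat (Subgroup.card_dvd_of_le Vcent_le)
  have hV2 : 2 ≤ Nat.card (Vcent G a t) := by
    obtain ⟨v, hv, hv1⟩ := (Subgroup.bot_or_exists_ne_one _).resolve_left hV
    haveI : Nontrivial (Vcent G a t) := ⟨⟨⟨v, hv⟩, 1, fun e => hv1 (congrArg Subtype.val e)⟩⟩
    exact Finite.one_lt_card
  have hf3 : 3 ≤ f := by
    obtain ⟨r, hr⟩ := hVodd
    omega
  set q := Nat.card (Zsub G a) with hq
  have hq8 : 8 ≤ q := by
    rw [hqf]
    calc 8 = 2 ^ 3 := rfl
      _ ≤ _ := Nat.pow_le_pow_right (by norm_num) hf3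
  set B := q ^ (e - 2) with hB
  have hB8 : 8 ≤ B := hq8.trans (Nat.le_self_pow (by omega) q)
  have hsucc : q ^ (e - 1) = B * q := by
    rw [hB, ← pow_succ]; congr 1; omega
  have hMB : Nat.card Q = B * q * q := by
    rw [he, hB, ← pow_succ, ← pow_succ]; congr 1; omega
  have hK : Nat.card (Ksub G a t) = q - 1 := by rw [hq, card_Zsub hS h2]; omega
  -- the stabilised pairs
  set NF := Nat.card {x : Pair Q // x.2 ≠ principalIrr _ ∧ ¬ FreeP hS x} with hNF
  have hNFB : NF ≤ B * (q - 1) := by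
    have h1 := two_mul_nonfree_le hS h2 hab ih he (by omega)
    rw [hK] at h1
    have h3 : 2 ^ e * ((q - 1) * (Nat.card (Vcent G a t) - 1)) ≤ 2 * (B * (q - 1)) :=
      calc 2 ^ e * ((q - 1) * (Nat.card (Vcent G a t) - 1))
          ≤ 2 ^ e * ((q - 1) * (f - 1)) := Nat.mul_le_mul_left _ (Nat.mul_le_mul_left _ (by omega))
        _ = (q - 1) * ((f - 1) * 2 ^ e) := by ring
        _ ≤ (q - 1) * (2 * B) := Nat.mul_le_mul_left _ (by
            rw [hB, hqf]; exact two_pow_mul_le hf3 he3)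
        _ = 2 * (B * (q - 1)) := by ring
    omega
  have hidx : (Zin a Q).index = B * q := by
    have h := card_S hS h2
    have h' : Nat.card (Sp Q) = Nat.card Q :=
      congrArg (fun H : Subgroup G => Nat.card H) (Sp_eq_Q hS h2)
    rw [h', hMB, ← hq, mul_comm _ q] at h
    exact (Nat.eq_of_mul_eq_mul_left (by omega) h).symm
  -- a free pair with `Z` in the kernel
  have hcover0 : Nat.card {x : Pair Q // Triv a x.2} ≤
      Nat.card {x : Pair Q // FamA hS true x} + NF + 1 := by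
    rw [hNF, add_assoc, ← Finite.card_option, ← Nat.card_sum]
    refine Nat.card_le_card_of_injective (fun x =>
      if h : FreeP hS x.1 then Sum.inl ⟨x.1, h, iff_of_true x.2 rfl⟩
      else if h' : x.1.2 = principalIrr _ then Sum.inr none else Sum.inr (some ⟨x.1, h', h⟩)) ?_
    refine Function.Injective.of_comp (f := Sum.elim (fun y : {x : Pair Q // FamA hS true x} => y.1)
      fun o => o.elim ((principalIrr _, principalIrr _) : Pair Q) fun y => y.1) ?_
    refine fun x y h => Subtype.ext ?_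
    have key : ∀ x : {x : Pair Q // Triv a x.2}, (Sum.elim (fun y : {x : Pair Q // FamA hS true x} => y.1)
        (fun o => o.elim ((principalIrr _, principalIrr _) : Pair Q) fun y => y.1))
        (if h : FreeP hS x.1 then Sum.inl ⟨x.1, h, iff_of_true x.2 rfl⟩
          else if h' : x.1.2 = principalIrr _ then Sum.inr none
          else Sum.inr (some (⟨x.1, h', h⟩ : {x : Pair Q // x.2 ≠ principalIrr _ ∧ ¬ FreeP hS x}))) =
        x.1 := fun x => by
      split_ifs with h1 h3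
      · rfl
      · exact Prod.ext (irr_Pp_eq hS h2 _ _) h3.symm
      · rfl
    exact (key x).symm.trans (h.trans (key y))
  rw [card_triv_pair hS h2 hab, hidx] at hcover0
  have hBq : B * (q - 1) + B = B * q := by
    rw [← Nat.mul_succ]; congr 1; omega
  have hne : 0 < Nat.card {x : Pair Q // FamA hS true x} := by omega
  obtain ⟨x₀⟩ := (Nat.card_pos_iff.1 hne).1
  -- the pairs nontrivial on `Z`
  set W := Nat.card {x : Pair Q // FamA hS false x} with hW
  have hcover1 : Nat.card (Pair Q) ≤ W + NF + Nat.card {x : Pair Q // Triv a x.2} := by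
    rw [hW, hNF, ← Nat.card_sum, ← Nat.card_sum]
    refine Nat.card_le_card_of_injective (fun x =>
      if h : Triv a x.2 then Sum.inr ⟨x, h⟩
      else if h' : FreeP hS x then Sum.inl (Sum.inl ⟨x, h', iff_of_false h Bool.false_ne_true⟩)
      else Sum.inl (Sum.inr ⟨x, fun e => h (e ▸ triv_principal hS), h'⟩)) ?_
    refine Function.Injective.of_comp (f := Sum.elim (Sum.elim Subtype.val Subtype.val) Subtype.val) ?_
    have key : ∀ x : Pair Q, (Sum.elim (Sum.elim Subtype.val Subtype.val) Subtype.val :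
        ({x : Pair Q // FamA hS false x} ⊕ {x : Pair Q // x.2 ≠ principalIrr _ ∧ ¬ FreeP hS x}) ⊕
          {x : Pair Q // Triv a x.2} → Pair Q)
        (if h : Triv a x.2 then Sum.inr ⟨x, h⟩
          else if h' : FreeP hS x then Sum.inl (Sum.inl ⟨x, h', iff_of_false h Bool.false_ne_true⟩)
          else Sum.inl (Sum.inr ⟨x, fun e => h (e ▸ triv_principal hS), h'⟩)) = x := fun x => by
      split_ifs <;> rfl
    exact fun x y h => (key x).symm.trans (h.trans (key y))
  rw [card_pair hS h2 hab, card_triv_pair hS h2 hab, hidx, hMB] at hcover1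
  have hmain := card_free_le hS h2 hab hV (Quotient.mk _ x₀)
  rw [← hq, ← hW, hMB] at hmain
  push_cast at hmain
  have hW' : ((q : ℝ) - 1) ^ 2 * B ≤ W := by
    have h1 : ((B * q * q : ℕ) : ℝ) ≤ ((W + NF + B * q : ℕ) : ℝ) := Nat.cast_le.2 hcover1
    have h2' : (NF : ℝ) ≤ ((B * (q - 1) : ℕ) : ℝ) := Nat.cast_le.2 hNFB
    push_cast [Nat.cast_sub (show 1 ≤ q by omega)] at h1 h2'
    nlinarith
  have hqR : (8 : ℝ) ≤ q := by exact_mod_cast hq8
  have hBR : (8 : ℝ) ≤ B := by exact_mod_cast hB8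
  have hM : (q : ℝ) - 1 < 3 * ((B : ℝ) * q * q + 1) := by nlinarith
  have hM0 : (0 : ℝ) < (B : ℝ) * q * q := by positivity
  have h1 : ((q : ℝ) - 1) ^ 2 * ((B : ℝ) * q * q + 1) ≤
      4 * ((B : ℝ) * q * q + 1) * ((q : ℝ) - 1) + ((q : ℝ) - 1) ^ 2 := by
    refine le_of_mul_le_mul_left ?_ hM0
    have h3 : ((q : ℝ) - 2) ^ 2 ≤ ((q : ℝ) - 1) ^ 2 := by nlinarith
    calc (B : ℝ) * q * q * (((q : ℝ) - 1) ^ 2 * ((B : ℝ) * q * q + 1))
        = ((q : ℝ) - 1) ^ 2 * B * (q : ℝ) ^ 2 * ((B : ℝ) * q * q + 1) := by ring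
      _ ≤ (W : ℝ) * (q : ℝ) ^ 2 * ((B : ℝ) * q * q + 1) :=
        mul_le_mul_of_nonneg_right (mul_le_mul_of_nonneg_right hW' (sq_nonneg _)) (by positivity)
      _ ≤ _ := hmain
      _ ≤ _ := mul_le_mul_of_nonneg_left (by linarith) hM0.le
  have hX : 0 < ((q : ℝ) - 1) * ((B : ℝ) * q * q + 1) - 4 * ((B : ℝ) * q * q + 1) - ((q : ℝ) - 1) := by
    nlinarith
  nlinarith [mul_pos (show (0 : ℝ) < (q : ℝ) - 1 by linarith) hX]

/-- the step of the induction, given the case `|Q| = q ^ 2` -/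
theorem card_eq_step
    (hsq : Nat.card Q = Nat.card (Zsub G a) ^ 2 →
      twoPt (Lsub G) a (⟨t, t_mem_Lsub hS⟩ : Lsub G) = Ksub (Lsub G) a ⟨t, t_mem_Lsub hS⟩) :
    Nat.card Q = Nat.card (Zsub G a) := by
  obtain ⟨e, he, -, -⟩ := exists_Q_card hS h2 hab
  by_cases hV : Vcent G a t = ⊥
  · exact card_eq_of_twoPt_eq hS h2 hab (twoPt_eq_Ksub_of_Vcent hS h2 hV)
  rcases Nat.lt_or_ge e 2 with h | h
  · exact card_eq_of_le_one hS h2 hab he (by omega)
  rcases Nat.lt_or_ge e 3 with h' | h'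
  · obtain rfl : e = 2 := by omega
    have hQ := Q_le_Lsub hS h2
    have ht := t_mem_Lsub hS
    haveI : FaithfulSMul (Lsub G) Ω := ⟨fun {x y} e => Subtype.ext (eq_of_smul_eq_smul (α := Ω) e)⟩
    have := card_eq_of_twoPt_eq (setup_of_le hS hQ ht) (four_of_le hS h2 hQ ht)
      (fun x hx y hy => Subtype.ext (hab x (Subgroup.mem_subgroupOf.1 hx) y (Subgroup.mem_subgroupOf.1 hy)))
      (hsq he)
    rwa [Q_card_of_le hQ, Zsub_card_of_le hS h2 hQ ht] at this
  · exact (false_of_three_le hS h2 hab ih he h' hV).elim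

omit ih in
/-- `W = 1` inside `Lsub G` -/
theorem eq_one_of_comm_centralizes_Lsub {d : Lsub G} (hd : d ∈ twoPt (Lsub G) a (⟨t, t_mem_Lsub hS⟩ : Lsub G))
    (hc : ∀ z ∈ Zsub (Lsub G) a, d * z = z * d) : d = 1 := by
  have hQ := Q_le_Lsub hS h2
  have ht := t_mem_Lsub hS
  refine Subtype.ext (eq_one_of_comm_centralizes_Zsub hS h2 hab ((mem_twoPt_of_le (t' := ⟨t, ht⟩) rfl).1 hd) ?_)
  intro z hz
  exact congrArg Subtype.val
    (hc ⟨z, Zsub_le_Lsub hS h2 hz⟩ ((mem_Zsub_of_le hS h2 hQ ht).2 hz))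

omit [MulAction G Ω] hS h2 [FaithfulSMul G Ω] hab ih [Finite G] in
/-- `Lsub G` is generated by its involutions -/
theorem Lsub_Lsub : Lsub (Lsub G) = ⊤ := by
  refine le_antisymm le_top ?_
  refine (Subgroup.closure_closure_coe_preimage (k := {x : G | x * x = 1})).ge.trans
    ((Subgroup.closure_le _).2 fun x hx => ?_)
  exact mem_Lsub (Subtype.ext hx)

end CfsgLib.RankOneRecog
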