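import Cfsg.Agent.Lib.RankOneRecog.QStruct
import Cfsg.Agent.Lib.RankOneRecog.Section
import Cfsg.Agent.Lib.RankOneRecog.Zassenhaus
import Cfsg.Agent.S0885

/-!
Abelian `Q` in a rank one set-up: the orders, the elements of `D` fixed by `t`, the case `D = K`,
and the involutions centralised by an element of `D`.
-/

set_option autoImplicit false

noncomputable section

namespace CfsgLib.RankOneRecog

open CfsgLib.RankOneInvol CfsgLib.RankOneTwo
open MulAction (stabilizer mem_stabilizer_iff)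

universe u v

section CommTwo

variable {A : Type u} [CommGroup A]

/-- the elements of order dividing `2 ^ i` -/
def twoKer (A : Type u) [CommGroup A] (i : ℕ) : Subgroup A := (powMonoidHom (2 ^ i) : A →* A).ker

theorem mem_twoKer {i : ℕ} {x : A} : x ∈ twoKer A i ↔ x ^ 2 ^ i = 1 := Iff.rfl

theorem sq_mem_twoKer {i : ℕ} {x : A} (hx : x ∈ twoKer A (i + 1)) : x ^ 2 ∈ twoKer A i := by
  rw [mem_twoKer] at *
  rwa [← pow_mul, ← pow_succ']

/-- squaring, one layer down -/
def sqStep (A : Type u) [CommGroup A] (i : ℕ) : twoKer A (i + 1) →* twoKer A i :=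
  ((powMonoidHom 2 : A →* A).comp (twoKer A (i + 1)).subtype).codRestrict (twoKer A i)
    fun x => sq_mem_twoKer x.2

theorem card_twoKer_succ [Finite A] (i : ℕ) :
    Nat.card (twoKer A (i + 1)) = Nat.card (sqStep A i).range * Nat.card (twoKer A 1) := by
  rw [← Subgroup.card_mul_index (sqStep A i).ker, Subgroup.index_ker, mul_comm]
  congr 1
  refine Nat.card_congr
    { toFun := fun x => ⟨((x : twoKer A (i + 1)) : A), mem_twoKer.2 (by
        rw [pow_one]; exact congrArg Subtype.val (MonoidHom.mem_ker.1 x.2))⟩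
      invFun := fun x => ⟨⟨(x : A), mem_twoKer.2 (by
        have hx : (x : A) ^ 2 = 1 := by simpa using mem_twoKer.1 x.2
        rw [pow_succ', pow_mul, hx, one_pow])⟩, MonoidHom.mem_ker.2 (Subtype.ext (show (x : A) ^ 2 = 1 by
        simpa using mem_twoKer.1 x.2))⟩
      left_inv := fun x => rfl
      right_inv := fun x => rfl }

theorem card_twoKer_le [Finite A] (i : ℕ) : Nat.card (twoKer A i) ≤ Nat.card (twoKer A 1) ^ i := by
  induction i with
  | zero =>
    rw [show twoKer A 0 = ⊥ from Subgroup.ext fun x => by simp [mem_twoKer], Subgroup.card_bot, pow_zero]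
  | succ i ih =>
    rw [card_twoKer_succ, pow_succ]
    exact Nat.mul_le_mul_right _ ((Subgroup.card_le_card_group _).trans ih)

theorem card_twoKer_eq [Finite A] {M : ℕ}
    (hroot : ∀ i ≤ M, ∀ x : A, x ^ 2 ^ i = 1 → ∃ y, y ^ 2 ^ (M - i) = x) :
    ∀ i ≤ M, Nat.card (twoKer A i) = Nat.card (twoKer A 1) ^ i := by
  intro i
  induction i with
  | zero =>
    intro _
    rw [show twoKer A 0 = ⊥ from Subgroup.ext fun x => by simp [mem_twoKer], Subgroup.card_bot, pow_zero]
  | succ i ih =>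
    intro hi
    have hs : Function.Surjective (sqStep A i) := by
      rintro ⟨x, hx⟩
      obtain ⟨y, hy⟩ := hroot i (by omega) x hx
      have hd : M - (i + 1) + 1 = M - i := by omega
      refine ⟨⟨y ^ 2 ^ (M - (i + 1)), ?_⟩, Subtype.ext ?_⟩
      · have hx' : x ^ 2 ^ i = 1 := hx
        rw [← hy, ← pow_mul, ← pow_add] at hx'
        rw [mem_twoKer, ← pow_mul, ← pow_add, show M - (i + 1) + (i + 1) = M - i + i by omega]
        exact hx'
      · show (y ^ 2 ^ (M - (i + 1))) ^ 2 = x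
        rw [← pow_mul, ← pow_succ, hd, hy]
    rw [card_twoKer_succ, MonoidHom.range_eq_top_of_surjective _ hs, Subgroup.card_top, ih (by omega),
      pow_succ]

end CommTwo

variable {G : Type u} {Ω : Type v} [Group G] [MulAction G Ω] {a : Ω} {t : G} {Q : Subgroup G}

/-- the elements of the two-point stabiliser centralising `t` -/
def Vcent (G : Type u) [Group G] {Ω : Type v} [MulAction G Ω] (a : Ω) (t : G) : Subgroup G :=
  twoPt G a t ⊓ Subgroup.centralizer ({t} : Set G)

theorem Vcent_le : Vcent G a t ≤ twoPt G a t := inf_le_left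

variable (hS : Cfsg.IsRankOneSetup G Ω a t Q)
include hS

theorem mem_Vcent {v : G} : v ∈ Vcent G a t ↔ v ∈ twoPt G a t ∧ t * v * t = v := by
  refine and_congr_right fun _ => ?_
  show v ∈ Subgroup.centralizer ({t} : Set G) ↔ _
  rw [Subgroup.mem_centralizer_iff]
  constructor
  · intro h
    rw [h t rfl, mul_assoc, hS.mul_self, mul_one]
  · intro h g hg
    rw [Set.mem_singleton_iff] at hg
    subst hg
    calc g * v = g * (g * v * g) := by rw [h]
      _ = v * g := by simp only [mul_assoc, tt_cancel hS]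

variable [Finite G] (h2 : ∃ x y : G, x ≠ 1 ∧ y ≠ 1 ∧ x ≠ y ∧ x * x = 1 ∧ y * y = 1 ∧ x * y = y * x)
include h2

theorem Vcent_inf_Ksub {v : G} (hv : v ∈ Vcent G a t) (hk : v ∈ Ksub G a t) : v = 1 := by
  refine eq_one_of_mem_of_sq hS.odd_card (Vcent_le hv) ?_
  calc v * v = v * (t * v * t) := by rw [((mem_Vcent hS).1 hv).2]
    _ = v * v⁻¹ := by rw [((mem_invSet hS).1 ((mem_Ksub_iff hS h2).1 hk)).2]
    _ = 1 := mul_inv_cancel v

theorem twoPt_eq_Ksub_of_Vcent (h : Vcent G a t = ⊥) : twoPt G a t = Ksub G a t := by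
  refine le_antisymm (fun d hd => ?_) (Ksub_le hS h2)
  obtain ⟨v, k, hv, hvt, hk, rfl⟩ := decomp_V hS hd
  have : v = 1 := by
    rw [← Subgroup.mem_bot, ← h]; exact (mem_Vcent hS).2 ⟨hv, hvt⟩
  rw [this, one_mul]
  exact (mem_Ksub_iff hS h2).2 hk

variable [FaithfulSMul G Ω]

/-- `D` strictly contains `K` when some nontrivial element of `D` centralises `t` -/
theorem card_Ksub_lt (h : Vcent G a t ≠ ⊥) : Nat.card (Ksub G a t) < Nat.card (twoPt G a t) := by
  obtain ⟨v, hv, hv1⟩ := (Subgroup.bot_or_exists_ne_one _).resolve_left h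
  refine lt_of_le_of_ne (Subgroup.card_le_of_le (Ksub_le hS h2)) fun e => hv1 ?_
  refine Vcent_inf_Ksub hS h2 hv ?_
  rw [Subgroup.eq_of_le_of_card_ge (Ksub_le hS h2) e.ge]
  exact Vcent_le hv

variable (hab : ∀ x ∈ Q, ∀ y ∈ Q, x * y = y * x)
include hab

omit hS h2 [Finite G] [FaithfulSMul G Ω] in
/-- the commutative group `Q` -/
@[reducible] def qComm : CommGroup Q :=
  { (inferInstance : Group Q) with mul_comm := fun x y => Subtype.ext (hab x x.2 y y.2) }

/-- `Q` is homocyclic: `|Q| = q ^ e`, of exponent `2 ^ e`, and every involution is a square if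
`e ≥ 2` -/
theorem exists_Q_card : ∃ e : ℕ, Nat.card Q = Nat.card (Zsub G a) ^ e ∧ (∀ x ∈ Q, x ^ 2 ^ e = 1) ∧
    (2 ≤ e → ∀ w ∈ Zsub G a, ∃ x ∈ Q, x * x = w) := by
  letI := kComm hS h2
  letI := kAct hS h2
  have h := qSetting hS h2
  obtain ⟨M, hM, hroot⟩ := h.exists_exponent (A := ⊤) fun _ _ _ => Subgroup.mem_top _
  have hr := h.exists_root (A := ⊤) (fun x _ y _ => Subtype.ext (hab x x.2 y y.2)) hroot
  have hM' : ∀ x ∈ Q, x ^ 2 ^ M = 1 := fun x hx => congrArg Subtype.val (hM ⟨x, hx⟩ (Subgroup.mem_top _))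
  refine ⟨M, ?_, hM', fun he w hw => ?_⟩
  · letI := qComm hab
    have h1 := card_twoKer_eq (A := Q) (M := M) (fun i hi x hx => by
      obtain ⟨y, -, hy⟩ := hr i hi x (Subgroup.mem_top _) hx
      exact ⟨y, hy⟩) M le_rfl
    rw [show twoKer Q M = ⊤ from eq_top_iff.2 fun x _ => hM x (Subgroup.mem_top _),
      Subgroup.card_top] at h1
    rw [h1, ← card_invols_Q hS h2]
    congr 1
    refine Nat.card_congr (Equiv.subtypeEquivRight fun x => ?_)
    rw [mem_twoKer, h.mem_invols, pow_one, pow_two]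
  · obtain ⟨x, -, hx⟩ := hroot 1 (by omega) ⟨w, Zsub_le hS h2 hw⟩ ((mem_invols_Q hS h2).2 hw)
    refine ⟨x, x.2, ?_⟩
    have := congrArg Subtype.val hx
    simpa [pow_two] using this

/-- `|Q| = q` as soon as `e ≤ 1` -/
theorem card_eq_of_le_one {e : ℕ} (he : Nat.card Q = Nat.card (Zsub G a) ^ e) (h : e ≤ 1) :
    Nat.card Q = Nat.card (Zsub G a) := by
  interval_cases e
  · rw [pow_zero] at he
    have := Subgroup.card_le_of_le (Zsub_le hS h2)
    have : 0 < Nat.card (Zsub G a) := Nat.card_pos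
    omega
  · rwa [pow_one] at he

omit h2 in
/-- an element of `D` centralising `Q` is trivial -/
theorem eq_one_of_centralizes_Q {d : G} (hd : d ∈ twoPt G a t) (hc : ∀ x ∈ Q, d * x = x * d) : d = 1 := by
  refine eq_of_smul_eq_smul (α := Ω) fun c => ?_
  rw [one_smul]
  by_cases h : c = a
  · rw [h]; exact (mem_twoPt.1 hd).1
  obtain ⟨q, hq, rfl⟩ := Q_trans hS h
  rw [smul_smul, hc q hq, mul_smul, (mem_twoPt.1 hd).2]

/-- **`W = 1`**: an element of `D` centralising the involutions of `G_a` is trivial -/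
theorem eq_one_of_comm_centralizes_Zsub {d : G} (hd : d ∈ twoPt G a t)
    (hc : ∀ z ∈ Zsub G a, d * z = z * d) : d = 1 := by
  refine eq_one_of_centralizes_Q hS hab hd fun x hx => ?_
  obtain ⟨e, -, hexp, -⟩ := exists_Q_card hS h2 hab
  have key : ∀ i, ∀ x ∈ Q, x ^ 2 ^ i = 1 → d * x = x * d := by
    intro i
    induction i with
    | zero => intro x _ hx; rw [pow_zero, pow_one] at hx; rw [hx, mul_one, one_mul]
    | succ i ih =>
      intro x hx hxi
      have hxx : d * (x * x) = x * x * d := ih _ (Q.mul_mem hx hx) (by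
        rw [← pow_two, ← pow_mul, ← pow_succ', hxi])
      set y : G := d * x * d⁻¹ with hy
      have hyQ : y ∈ Q := Q_conj hS (mem_twoPt.1 hd).1 hx
      set w : G := x⁻¹ * y with hw
      have hwQ : w ∈ Q := Q.mul_mem (Q.inv_mem hx) hyQ
      have hyy : y * y = x * x := by
        calc y * y = d * (x * x) * d⁻¹ := by rw [hy]; group
          _ = x * x := by rw [hxx]; group
      have hww : w * w = 1 := by
        calc w * w = x⁻¹ * (y * x⁻¹) * y := by rw [hw]; group
          _ = x⁻¹ * (x⁻¹ * y) * y := by rw [hab y hyQ x⁻¹ (Q.inv_mem hx)]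
          _ = x⁻¹ * x⁻¹ * (y * y) := by group
          _ = 1 := by rw [hyy]; group
      have hdw : d * w = w * d := hc w (mem_Zsub_of_sq hS h2 hwQ hww)
      have hn : ∀ n : ℕ, d ^ n * x = x * w ^ n * d ^ n := by
        intro n
        induction n with
        | zero => simp
        | succ n ihn =>
          have hdx : d * x = x * w * d := by rw [hw, hy]; group
          calc d ^ (n + 1) * x = d * (d ^ n * x) := by rw [pow_succ', mul_assoc]
            _ = d * x * w ^ n * d ^ n := by rw [ihn]; group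
            _ = x * w * (d * w ^ n) * d ^ n := by rw [hdx]; group
            _ = x * w * (w ^ n * d) * d ^ n := by rw [((show Commute d w from hdw).pow_right n).eq]
            _ = x * w ^ (n + 1) * d ^ (n + 1) := by rw [pow_succ' w, pow_succ' d]; group
      obtain ⟨m, hm⟩ := odd_twoPt hS hd
      have h1 := hn (orderOf d)
      rw [pow_orderOf_eq_one, one_mul, mul_one, hm, pow_succ, pow_mul, pow_two w, hww, one_pow,
        one_mul] at h1
      have hw1 : w = 1 := mul_eq_left.1 h1.symm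
      have hyx : y = x := (inv_mul_eq_one.1 hw1).symm
      rw [hy] at hyx
      exact mul_inv_eq_iff_eq_mul.1 hyx
  exact key e x hx (hexp x hx)

/-- an element of `D` centralising `t` and `K` is trivial -/
theorem eq_one_of_mem_Vcent {v : G} (hv : v ∈ Vcent G a t) (hc : ∀ k ∈ Ksub G a t, v * k = k * v) :
    v = 1 := by
  obtain ⟨hvD, hvt⟩ := (mem_Vcent hS).1 hv
  obtain ⟨s, r, h⟩ := exists_paired_right hS (isSwap_t hS)
  have hvs := (centralizer_base hS h hvD).2 hvt
  refine eq_one_of_comm_centralizes_Zsub hS h2 hab hvD fun z hz => ?_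
  by_cases hz1 : z = 1
  · rw [hz1, mul_one, one_mul]
  obtain ⟨k, hk, -⟩ := Ksub_regular hS h2 (Subgroup.subset_closure h.1) (mem_invols.1 h.1).2.1 hz hz1
  rw [← hk]
  have h' := hc k k.2
  exact (((show Commute v (k : G) from h').mul_right (show Commute v s from hvs)).mul_right
    (show Commute v (k : G) from h').inv_right).eq

/-- `D ∩ C(t)` is cyclic of order at most `f`, where `q = 2 ^ f` -/
theorem exists_Vcent_bound : ∃ f : ℕ, 2 ≤ f ∧ Nat.card (Zsub G a) = 2 ^ f ∧ IsCyclic (Vcent G a t) ∧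
    Nat.card (Vcent G a t) ≤ f := by
  obtain ⟨f, hf, hq, hE⟩ := exists_exponent hS h2
  exact ⟨f, hf, hq, hE _ Vcent_le fun e he hk => eq_one_of_mem_Vcent hS h2 hab he hk⟩

/-- **the case `D = K`** -/
theorem card_eq_of_twoPt_eq (hD : twoPt G a t = Ksub G a t) : Nat.card Q = Nat.card (Zsub G a) := by
  haveI := RankOne.finite_omega hS
  haveI := Fintype.ofFinite Ω
  obtain ⟨e, he, -, -⟩ := exists_Q_card hS h2 hab
  have hΩ : Fintype.card Ω = Nat.card Q + 1 := by
    rw [← Nat.card_eq_fintype_card]; exact RankOne.card_omega hS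
  have hfix : ∀ u ∈ Q, u ≠ 1 → ∀ c : Ω, u • c = c → c = a := fun u hu hu1 c hc =>
    (RankOne.smul_eq_self_iff hS hu hu1).1 hc
  rcases Cfsg.Agent.S0885.result (isZassenhaus_of_twoPt_eq hS h2 hD) (ta_ne hS).symm (Nat.card Q)
    (Nat.card (twoPt G a t)) hΩ rfl hS.odd_card Q hS.le hΩ.symm hfix with h | ⟨-, ⟨u, v, huv⟩, -⟩
  · refine card_eq_of_le_one hS h2 hab he ?_
    rw [hD] at h
    have hZ := card_Zsub hS h2
    by_contra hlt
    have h4 : Nat.card (Zsub G a) ^ 2 ≤ Nat.card Q := by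
      rw [he]; exact Nat.pow_le_pow_right Nat.card_pos (by omega)
    have hK : 1 < Nat.card (Ksub G a t) := by
      obtain ⟨k, hk, hk1⟩ := exists_invSet_ne_one hS h2
      haveI : Nontrivial (Ksub G a t) :=
        ⟨⟨⟨k, (mem_Ksub_iff hS h2).2 hk⟩, 1, fun e => hk1 (congrArg Subtype.val e)⟩⟩
      exact Finite.one_lt_card
    rw [hZ] at h4
    have : (Nat.card (Ksub G a t) + 1) ^ 2 ≥ 2 * Nat.card (Ksub G a t) + 2 := by nlinarith
    omega
  · exact absurd (Subtype.ext (hab u u.2 v v.2)) huv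

omit hS h2 [FaithfulSMul G Ω] hab in
/-- every smaller faithful set-up with a four group and commutative `Q` has `|Q| = q` -/
def AbIndHyp (N : ℕ) : Prop :=
  ∀ (G' : Type v) [Group G'] [Finite G'] (Ω' : Type v) [MulAction G' Ω'] [FaithfulSMul G' Ω']
    (a' : Ω') (t' : G') (Q' : Subgroup G'),
    Cfsg.IsRankOneSetup G' Ω' a' t' Q' →
    (∃ x y : G', x ≠ 1 ∧ y ≠ 1 ∧ x ≠ y ∧ x * x = 1 ∧ y * y = 1 ∧ x * y = y * x) →
    (∀ x ∈ Q', ∀ y ∈ Q', x * y = y * x) →
    Nat.card G' < N → Nat.card Q' = Nat.card (Zsub G' a')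

variable (ih : AbIndHyp.{v} (Nat.card G))
include ih

/-- **one involution**: if `|Q| > q`, a nontrivial element of `D ∩ C(t)` centralises at most one
involution of `G_a` -/
theorem centralizes_one {e : ℕ} (he : Nat.card Q = Nat.card (Zsub G a) ^ e) (he2 : 2 ≤ e) {v : G}
    (hv : v ∈ Vcent G a t) (hv1 : v ≠ 1) {s s' : G} (hs : s ∈ Zsub G a) (hs' : s' ∈ Zsub G a)
    (hs1 : s ≠ 1) (hs1' : s' ≠ 1) (hvs : v * s = s * v) (hvs' : v * s' = s' * v) : s = s' := by
  by_contra hne
  obtain ⟨p, hp, hpd⟩ := Nat.exists_prime_and_dvd (fun h => hv1 (orderOf_eq_one_iff.1 h))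
  haveI := Fact.mk hp
  set x : G := v ^ (orderOf v / p) with hx
  have hxo : orderOf x = p := orderOf_pow_orderOf_div (orderOf_pos v).ne' hpd
  have hx1 : x ≠ 1 := fun h => by rw [h, orderOf_one] at hxo; exact hp.one_lt.ne hxo
  obtain ⟨hxD, hxt⟩ := (mem_Vcent hS).1 ((Vcent G a t).pow_mem hv (orderOf v / p))
  rw [← hx] at hxD hxt
  have hxs : x * s = s * x := ((show Commute v s from hvs).pow_left _).eq
  have hxs' : x * s' = s' * x := ((show Commute v s' from hvs').pow_left _).eq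
  obtain ⟨G', _, _, Ω', _, _, a', ι, φ, -, -, -, -, -, hS', hlt, hinj, -⟩ :=
    exists_section hS hxD hx1 hxt
  obtain ⟨h2', hmem⟩ := section_four hS h2 φ hS' hinj hs hs' hs1 hs1' hne hxs hxs'
  set Q' := (Q.subgroupOf (Subgroup.centralizer ({x} : Set G))).map φ with hQ'
  have hab' : ∀ y ∈ Q', ∀ z ∈ Q', y * z = z * y := by
    rintro _ ⟨y, hy, rfl⟩ _ ⟨z, hz, rfl⟩
    rw [← map_mul, ← map_mul]
    exact congrArg φ (Subtype.ext (hab _ (Subgroup.mem_subgroupOf.1 hy) _ (Subgroup.mem_subgroupOf.1 hz)))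
  have hQZ : Zsub G' a' = Q' := Subgroup.eq_of_le_of_card_ge (Zsub_le hS' h2')
    (ih G' Ω' a' _ Q' hS' h2' hab' hlt).le
  -- a square root of `s` fixed by `x`
  obtain ⟨-, -, -, hroot⟩ : ∃ f, Nat.card Q = Nat.card (Zsub G a) ^ f ∧ (∀ x ∈ Q, x ^ 2 ^ f = 1) ∧
      (∀ w ∈ Zsub G a, ∃ x ∈ Q, x * x = w) := by
    obtain ⟨f, hf, hexp, hr⟩ := exists_Q_card hS h2 hab
    refine ⟨f, hf, hexp, hr ?_⟩
    have h1 : 1 < Nat.card (Zsub G a) := by
      have := card_Zsub hS h2
      have : 0 < Nat.card (Ksub G a t) := Nat.card_pos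
      omega
    rwa [(Nat.pow_right_injective h1 (hf.symm.trans he) : f = e)]
  obtain ⟨y₀, hy₀, hy₀s⟩ := hroot s hs
  let X := {y : G // y ∈ Q ∧ y * y = s}
  haveI : Finite X := Subtype.finite
  haveI := Fintype.ofFinite X
  have hsc : x * s * x⁻¹ = s := by rw [hxs, mul_inv_cancel_right]
  have hsc' : x⁻¹ * s * x = s := by rw [mul_assoc, ← hxs, inv_mul_cancel_left]
  let σ : Equiv.Perm X :=
    { toFun := fun y => ⟨x * y * x⁻¹, Q_conj hS (mem_twoPt.1 hxD).1 y.2.1, by
        calc x * (y : G) * x⁻¹ * (x * y * x⁻¹) = x * ((y : G) * y) * x⁻¹ := by group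
          _ = s := by rw [y.2.2, hsc]⟩
      invFun := fun y => ⟨x⁻¹ * y * x, by
          simpa using Q_conj hS (mem_twoPt.1 (inv_mem hxD)).1 y.2.1, by
        calc x⁻¹ * (y : G) * x * (x⁻¹ * y * x) = x⁻¹ * ((y : G) * y) * x := by group
          _ = s := by rw [y.2.2, hsc']⟩
      left_inv := fun y => Subtype.ext (by simp [mul_assoc])
      right_inv := fun y => Subtype.ext (by simp [mul_assoc]) }
  have hpow : ∀ (n : ℕ) (y : X), (((σ ^ n) y : X) : G) = x ^ n * y * (x ^ n)⁻¹ := by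
    intro n
    induction n with
    | zero => intro y; simp
    | succ n ihn =>
      intro y
      rw [pow_succ' σ, Equiv.Perm.mul_apply, pow_succ' x, mul_inv_rev]
      show x * (((σ ^ n) y : X) : G) * x⁻¹ = _
      rw [ihn]
      group
  have hcard : Fintype.card X = Nat.card (Zsub G a) := by
    rw [← Nat.card_eq_fintype_card]
    refine Nat.card_congr
      { toFun := fun y => ⟨y₀⁻¹ * y, mem_Zsub_of_sq hS h2 (Q.mul_mem (Q.inv_mem hy₀) y.2.1) ?_⟩
        invFun := fun z => ⟨y₀ * z, Q.mul_mem hy₀ (Zsub_le hS h2 z.2), ?_⟩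
        left_inv := fun y => Subtype.ext (by simp)
        right_inv := fun z => Subtype.ext (by simp) }
    · have hc := hab _ y.2.1 _ (Q.inv_mem hy₀)
      calc y₀⁻¹ * (y : G) * (y₀⁻¹ * y) = y₀⁻¹ * ((y : G) * y₀⁻¹) * y := by group
        _ = y₀⁻¹ * y₀⁻¹ * ((y : G) * y) := by rw [hc]; group
        _ = 1 := by rw [y.2.2, ← hy₀s]; group
    · calc y₀ * (z : G) * (y₀ * z) = y₀ * ((z : G) * y₀) * z := by group
        _ = y₀ * y₀ * ((z : G) * z) := by rw [Zsub_comm hS h2 z.2 hy₀]; group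
        _ = s := by rw [Zsub_sq hS h2 z.2, mul_one, hy₀s]
  have hnd : ¬ p ∣ Fintype.card X := by
    obtain ⟨f, -, hq, -⟩ := exists_exponent hS h2
    rw [hcard, hq]
    intro hd
    have h22 := (Nat.prime_dvd_prime_iff_eq hp Nat.prime_two).1 (hp.dvd_of_dvd_pow hd)
    have hodd := odd_twoPt hS hxD
    rw [hxo, h22] at hodd
    exact Nat.not_odd_iff_even.2 even_two hodd
  obtain ⟨y, hy⟩ := Equiv.Perm.exists_fixed_point_of_prime hnd (σ := σ) (n := 1) (by
    rw [pow_one]
    exact Equiv.ext fun y => Subtype.ext (by rw [hpow, ← hxo, pow_orderOf_eq_one]; simp))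
  have hyx : x * (y : G) = y * x := mul_inv_eq_iff_eq_mul.1 (congrArg Subtype.val hy)
  have hmemC : (y : G) ∈ Subgroup.centralizer ({x} : Set G) := mem_centralizer_single hS hyx
  have hyZ : (y : G) ∈ Zsub G a := (hmem ⟨y, hmemC⟩ y.2.1).1 (by
    rw [hQZ]; exact ⟨_, Subgroup.mem_subgroupOf.2 y.2.1, rfl⟩)
  exact hs1 (by rw [← y.2.2, Zsub_sq hS h2 hyZ])

end CfsgLib.RankOneRecog
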