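import Cfsg.Agent.Lib.BNPair.Bruhat
import Cfsg.Agent.Lib.BenderQ.Bender
import Cfsg.Agent.Lib.RankOneRecog.Class
import Cfsg.Agent.S0065
import Cfsg.Prelude.Def_Exceptional

/-!
Strongly split (B,N)-pairs of rank one with odd index and odd torus: the hypotheses of the criterion
for strong embedding, and the classification given that criterion.
-/

set_option autoImplicit false

namespace CfsgLib.RankOneRecog

open CfsgLib.BNPair

universe u

variable {G : Type u} [Group G] (P : Cfsg.BNPair G)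

/-- in rank one every element outside `B` lies in `B s B` -/
theorem exists_double_coset (hrank : P.rank = 1) :
    ∃ s : G, s ∈ P.N ∧ s ∉ P.B ∧ s * s ∈ P.B ∧
      ∀ g : G, g ∉ P.B → ∃ b ∈ P.B, ∃ b' ∈ P.B, g = b * s * b' := by
  obtain ⟨hsub, ⟨s⟩⟩ := Nat.card_eq_one_iff_unique.1 hrank
  refine ⟨s, P.subset s.2, not_mem_B P s, P.sq_mem s.1 s.2, fun g hg => ?_⟩
  obtain ⟨w, hw⟩ := exists_cell P g
  obtain ⟨L, rfl⟩ := exists_word P w
  have key : ∀ L : List P.S, prodW P L = 1 ∨ prodW P L = simp' P s := by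
    intro L
    induction L with
    | nil => exact Or.inl rfl
    | cons x L ih =>
      rw [prodW_cons, Subsingleton.elim x s]
      rcases ih with h | h <;> rw [h]
      · exact Or.inr (mul_one _)
      · exact Or.inl (simp_mul_self P s)
  rcases key L with h | h <;> rw [h] at hw
  · exact absurd ((mem_cell_one P).1 hw) hg
  · rw [show simp' P s = wcl P ⟨s.1, P.subset s.2⟩ from rfl, cell_wcl, DoubleCoset.mem_doubleCoset] at hw
    obtain ⟨b, hb, b', hb', e⟩ := hw
    exact ⟨b, hb, b', hb', e⟩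

variable [Finite G] [IsSimpleGroup G] {U : Subgroup G}

/-- an involution fixing exactly the coset of `B`, with the conditions of the criterion -/
theorem exists_criterion_data (hrank : P.rank = 1) (hUB : U ≤ P.B)
    (hUn : (U.subgroupOf P.B).Normal) (hUnil : Group.IsNilpotent U) (hsplit : U ⊔ (P.B ⊓ P.N) = P.B)
    (hdisj : U ⊓ P.N = ⊥) (hind : Odd P.B.index) (hH : Odd (Nat.card ↥(P.B ⊓ P.N))) :
    ∃ z : G, P.B ≠ ⊤ ∧ orderOf z = 2 ∧ z ∈ P.B ∧ (∃ S : Sylow 2 G, z ∈ S ∧ ∀ s ∈ S, Commute s z) ∧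
      (∀ g : G, g * z * g⁻¹ ∈ P.B → g ∈ P.B) ∧
      ∀ g : G, Commute z (g * z * g⁻¹) → g * z * g⁻¹ ≠ z →
        Subgroup.centralizer ({z * (g * z * g⁻¹)} : Set G) ≤ P.B := by
  classical
  haveI : Fact (Nat.Prime 2) := ⟨Nat.prime_two⟩
  obtain ⟨s, hsN, hsB, hs2, hcell⟩ := exists_double_coset P hrank
  have htop : P.B ≠ ⊤ := fun e => hsB (e ▸ Subgroup.mem_top s)
  have hnorm : ∀ b ∈ P.B, ∀ u ∈ U, b * u * b⁻¹ ∈ U := fun b hb u hu =>
    hUn.conj_mem ⟨u, hUB hu⟩ hu ⟨b, hb⟩
  have hdec : ∀ b ∈ P.B, ∃ u ∈ U, ∃ h ∈ P.B ⊓ P.N, b = u * h := by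
    intro b hb
    rw [← hsplit] at hb
    have hle : P.B ⊓ P.N ≤ Subgroup.normalizer (U : Set G) := fun h hh =>
      Subgroup.mem_normalizer_iff.2 fun u => ⟨hnorm h hh.1 u, fun hu => by
        have := hnorm h⁻¹ (inv_mem hh.1) _ hu
        simpa [mul_assoc] using this⟩
    rw [sup_comm, ← SetLike.mem_coe, Subgroup.coe_mul_of_left_le_normalizer_right _ _ hle] at hb
    obtain ⟨h, hh, u, hu, rfl⟩ := hb
    exact ⟨h * u * h⁻¹, hnorm h hh.1 u hu, h, hh, by group⟩
  -- `B` is transitive on the other cosets through `U`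
  have hgen : ∀ g : G, g ∉ P.B → ∃ u ∈ U, (u * s)⁻¹ * g ∈ P.B := by
    intro g hg
    obtain ⟨b, hb, b', hb', rfl⟩ := hcell g hg
    obtain ⟨u, hu, h, hh, rfl⟩ := hdec b hb
    refine ⟨u, hu, ?_⟩
    have e : (u * s)⁻¹ * (u * h * s * b') = (s⁻¹ * h * s⁻¹⁻¹) * b' := by group
    rw [e]
    exact mul_mem (P.conj_mem s⁻¹ (inv_mem hsN) h hh) hb'
  -- an element centralised by `U` and fixing another coset is trivial
  have hsemi : ∀ x : G, x ∈ P.B → (∀ u ∈ U, u * x = x * u) → ∀ g : G, g ∉ P.B → g⁻¹ * x * g ∈ P.B → x = 1 := by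
    intro x hx hc g hg hxg
    have hcore : x ∈ P.B.normalCore := by
      intro c
      by_cases hcB : c⁻¹ ∈ P.B
      · exact mul_mem (mul_mem (by simpa using inv_mem hcB) hx) (inv_mem (by simpa using inv_mem hcB))
      obtain ⟨u, hu, hu'⟩ := hgen g hg
      obtain ⟨v, hv, hv'⟩ := hgen c⁻¹ hcB
      have hs' : s⁻¹ * x * s ∈ P.B := by
        have h1 := mul_mem (mul_mem hu' hxg) (inv_mem hu')
        rw [show (u * s)⁻¹ * g * (g⁻¹ * x * g) * ((u * s)⁻¹ * g)⁻¹ = s⁻¹ * (u⁻¹ * (x * u)) * s by group,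
          ← hc u hu, inv_mul_cancel_left] at h1
        exact h1
      have h2 := mul_mem (mul_mem (inv_mem hv') hs') hv'
      rw [show ((v * s)⁻¹ * c⁻¹)⁻¹ * (s⁻¹ * x * s) * ((v * s)⁻¹ * c⁻¹) = c * (v * x * v⁻¹) * c⁻¹ by group,
        hc v hv, mul_inv_cancel_right] at h2
      exact h2
    have hbot : P.B.normalCore = ⊥ := (IsSimpleGroup.eq_bot_or_eq_top_of_normal _ inferInstance).resolve_right
      fun e => htop (top_le_iff.1 (e ▸ Subgroup.normalCore_le P.B))
    rwa [hbot, Subgroup.mem_bot] at hcore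
  -- the order of `U` is even and its index odd
  have hUodd : Odd U.index := by
    have h1 : Nat.card P.B ∣ Nat.card U * Nat.card ↥(P.B ⊓ P.N) := by
      rw [← Nat.card_prod]
      let f : U × ↥(P.B ⊓ P.N) → P.B := fun x => ⟨x.1 * x.2, mul_mem (hUB x.1.2) x.2.2.1⟩
      have hf : Function.Bijective f := by
        refine ⟨fun x y e => ?_, fun b => ?_⟩
        · have e' : (x.1 : G) * x.2 = y.1 * y.2 := congrArg Subtype.val e
          have h3 : (y.1 : G)⁻¹ * x.1 = y.2 * (x.2 : G)⁻¹ :=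
            mul_right_cancel (b := (x.2 : G)) (by rw [mul_assoc, e', inv_mul_cancel_left, inv_mul_cancel_right])
          have h2 : (y.1 : G)⁻¹ * x.1 ∈ U ⊓ P.N := Subgroup.mem_inf.2 ⟨mul_mem (inv_mem y.1.2) x.1.2, by
            rw [h3]; exact mul_mem (Subgroup.mem_inf.1 y.2.2).2 (inv_mem (Subgroup.mem_inf.1 x.2.2).2)⟩
          rw [hdisj, Subgroup.mem_bot] at h2
          have h4 : (x.1 : G) = y.1 := (inv_mul_eq_one.1 h2).symm
          refine Prod.ext (Subtype.ext h4) (Subtype.ext ?_)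
          rw [h4] at e'
          exact mul_left_cancel e'
        · obtain ⟨u, hu, h, hh, e⟩ := hdec b b.2
          exact ⟨(⟨u, hu⟩, ⟨h, hh⟩), Subtype.ext e.symm⟩
      rw [Nat.card_eq_of_bijective f hf]
    have h2 : U.index ∣ P.B.index * Nat.card ↥(P.B ⊓ P.N) := by
      refine (Nat.mul_dvd_mul_iff_left (Nat.card_pos (α := U))).1 ?_
      rw [Subgroup.card_mul_index, ← Subgroup.card_mul_index P.B, mul_left_comm]
      rw [mul_comm (Nat.card P.B)]
      exact Nat.mul_dvd_mul_left _ h1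
    exact (hind.mul hH).of_dvd_nat h2
  have hGeven : 2 ∣ Nat.card G := by
    by_contra hodd
    have ho : Odd (orderOf s) := Odd.of_dvd_nat (Nat.not_even_iff_odd.1 fun e => hodd e.two_dvd)
      (orderOf_dvd_natCard s)
    obtain ⟨k, hk⟩ := ho
    refine hsB ?_
    have h1 : s = (s * s) ^ (k + 1) := by
      rw [← pow_two, ← pow_mul, show 2 * (k + 1) = orderOf s + 1 by omega, pow_succ, pow_orderOf_eq_one,
        one_mul]
    rw [h1]
    exact pow_mem hs2 _
  have hUeven : 2 ∣ Nat.card U := by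
    rw [← Subgroup.card_mul_index U] at hGeven
    exact ((Nat.prime_two.dvd_mul).1 hGeven).resolve_right hUodd.not_two_dvd_nat
  -- an involution in the centre of `U`
  haveI := hUnil
  obtain ⟨T⟩ := (inferInstance : Nonempty (Sylow 2 U))
  have hTn : (T : Subgroup U).Normal := inferInstance
  have hTne : (T : Subgroup U) ≠ ⊥ := T.ne_bot_of_dvd_card hUeven
  have hI := Cfsg.Agent.S0065.result (T : Subgroup U) hTne
  haveI : Nontrivial ↥((T : Subgroup U) ⊓ Subgroup.center U) := (Subgroup.nontrivial_iff_ne_bot _).2 hI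
  have hp := T.isPGroup'.to_le (inf_le_left (b := Subgroup.center U))
  obtain ⟨⟨z', hzT, hzc⟩, hz2⟩ : ∃ z : ↥((T : Subgroup U) ⊓ Subgroup.center U), orderOf z = 2 := by
    obtain ⟨n, hn⟩ := IsPGroup.iff_card.1 hp
    refine exists_prime_orderOf_dvd_card' 2 ?_
    rw [hn]
    refine dvd_pow_self 2 fun e => ?_
    rw [e, pow_zero] at hn
    exact (Finite.one_lt_card (α := ↥((T : Subgroup U) ⊓ Subgroup.center U))).ne' hn
  rw [← Subgroup.orderOf_coe, ← Subgroup.orderOf_coe] at hz2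
  set z : G := (z' : G) with hzdef
  have hzB : z ∈ P.B := hUB z'.2
  have hzcU : ∀ u ∈ U, u * z = z * u := fun u hu =>
    congrArg Subtype.val (Subgroup.mem_center_iff.1 hzc ⟨u, hu⟩)
  have hz1 : z ≠ 1 := fun e => by
    have h : orderOf z = 2 := hz2
    rw [e, orderOf_one] at h
    norm_num at h
  have hfix : ∀ g : G, g⁻¹ * z * g ∈ P.B → g ∈ P.B := fun g hg => by
    by_contra hgB
    exact hz1 (hsemi z hzB hzcU g hgB hg)
  refine ⟨z, htop, hz2, hzB, ?_, fun g hg => ?_, ?_⟩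
  · -- a Sylow subgroup centralised by `z`
    let T' : Subgroup G := (T : Subgroup U).map U.subtype
    have hTi : ¬ 2 ∣ T'.index := by
      intro h
      rw [Subgroup.index_map_subtype] at h
      rcases (Nat.prime_two.dvd_mul).1 h with h | h
      · exact T.not_dvd_index h
      · exact hUodd.not_two_dvd_nat h
    refine ⟨(T.isPGroup'.map U.subtype).toSylow hTi, ⟨z', hzT, rfl⟩, ?_⟩
    rintro _ ⟨x, -, rfl⟩
    exact hzcU x x.2
  · have := hfix g⁻¹ (by simpa using hg)
    simpa using inv_mem this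
  · intro g hcomm hne c hc
    set y := g * z * g⁻¹ with hy
    have hyB : y ∈ P.B := by
      have h1 := hfix y (by rw [mul_assoc, hcomm.eq, inv_mul_cancel_left]; exact hzB)
      exact h1
    have hgB : g ∈ P.B := by
      have := hfix g⁻¹ (by simpa [hy] using hyB)
      simpa using inv_mem this
    have hycU : ∀ u ∈ U, u * y = y * u := fun u hu => by
      have h1 := hzcU _ (hnorm g⁻¹ (inv_mem hgB) u hu)
      calc u * y = g * (g⁻¹ * u * g⁻¹⁻¹ * z) * g⁻¹ := by rw [hy]; group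
        _ = y * u := by rw [h1, hy]; group
    have hzy : z * y ≠ 1 := fun e => hne (by
      have h2 : z * z = 1 := by
        rw [← pow_two, ← show orderOf z = 2 from hz2, pow_orderOf_eq_one]
      exact mul_left_cancel (e.trans h2.symm))
    by_contra hcB
    refine hzy (hsemi (z * y) (mul_mem hzB hyB) (fun u hu => by
      calc u * (z * y) = u * z * y := (mul_assoc u z y).symm
        _ = z * (u * y) := by rw [hzcU u hu, mul_assoc]
        _ = z * y * u := by rw [hycU u hu, hy]; group) c hcB ?_)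
    have h3 : z * y * c = c * (z * y) := Subgroup.mem_centralizer_iff.1 hc _ rfl
    rw [mul_assoc, h3, inv_mul_cancel_left]
    exact mul_mem hzB hyB

/-- the classification, given the criterion for strong embedding -/
theorem bn_odd_classification
    (hcrit : ∀ (M : Subgroup G), M ≠ ⊤ → ∀ z : G, orderOf z = 2 → z ∈ M →
      (∃ S : Sylow 2 G, z ∈ S ∧ ∀ s ∈ S, Commute s z) → (∀ g : G, g * z * g⁻¹ ∈ M → g ∈ M) →
      (∀ g : G, Commute z (g * z * g⁻¹) → g * z * g⁻¹ ≠ z →
        Subgroup.centralizer ({z * (g * z * g⁻¹)} : Set G) ≤ M) →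
      ∃ H : Subgroup G, Cfsg.IsStronglyEmbedded H)
    (hrank : P.rank = 1) (hUB : U ≤ P.B)
    (hUn : (U.subgroupOf P.B).Normal) (hUnil : Group.IsNilpotent U) (hsplit : U ⊔ (P.B ⊓ P.N) = P.B)
    (hdisj : U ⊓ P.N = ⊥) (hind : Odd P.B.index) (hH : Odd (Nat.card ↥(P.B ⊓ P.N))) :
    (∃ (F : Type) (_ : Field F) (_ : Fintype F), (∃ n : ℕ, Fintype.card F = 2 ^ n) ∧
        Nonempty (G ≃* Matrix.ProjectiveSpecialLinearGroup (Fin 2) F)) ∨
      Cfsg.IsSuzuki G ∨
      (∃ (F : Type) (_ : Field F) (_ : Fintype F) (n : ℕ), 2 ≤ n ∧ Fintype.card F = (2 ^ n) ^ 2 ∧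
        Nonempty (G ≃* Cfsg.PSU 3 F (2 ^ n))) := by
  obtain ⟨z, htop, hz, hzB, h1, h2, h3⟩ :=
    exists_criterion_data P hrank hUB hUn hUnil hsplit hdisj hind hH
  obtain ⟨H, hSE⟩ := hcrit P.B htop z hz hzB h1 h2 h3
  have hna : ∃ a b : G, a * b ≠ b * a := by
    by_contra hcon
    push Not at hcon
    have hn : P.B.Normal := ⟨fun x hx g => by rw [hcon g x, mul_inv_cancel_right]; exact hx⟩
    rcases IsSimpleGroup.eq_bot_or_eq_top_of_normal _ hn with e | e
    · rw [e, Subgroup.mem_bot] at hzB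
      rw [hzB, orderOf_one] at hz
      norm_num at hz
    · exact htop e
  rcases BenderQ.simple_isBenderType BenderQ.benderKernel.{u} rankOneClass.{u} hna hSE with
    ⟨F, i1, i2, ⟨n, -, hn⟩, e⟩ | h | h
  · exact Or.inl ⟨F, i1, i2, ⟨n, hn⟩, e⟩
  · exact Or.inr (Or.inl (BenderQ.isSuzuki_of_isoSuzuki h))
  · exact Or.inr (Or.inr h)

end CfsgLib.RankOneRecog
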