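import Cfsg.Prelude.Def_LieRecognition
import Cfsg.Prelude.Def_Sz
import Cfsg.Prelude.Def_Exceptional
import Cfsg.Agent.Lib.BenderTrans.Main
import Cfsg.Agent.Lib.BenderQ.Bridge
import Cfsg.Agent.Lib.SuzukiGroup.Group

/-!
Consumers of the classification of rank one set-ups in simple groups: a strongly embedded subgroup with
a normal subgroup regular on the other cosets gives a rank one set-up on the cosets.
-/

set_option autoImplicit false

noncomputable section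

namespace CfsgLib.RankOneRecog

open MulAction (stabilizer mem_stabilizer_iff)
open CfsgLib.BenderTrans CfsgLib.Involutions

universe u

variable {G : Type u} [Group G] [Finite G]

/-- a simple group with a strongly embedded subgroup is non-abelian -/
theorem noncomm_of_stronglyEmbedded [IsSimpleGroup G] {H : Subgroup G} (hH : Cfsg.IsStronglyEmbedded H) :
    ∃ a b : G, a * b ≠ b * a := by
  by_contra hc
  push Not at hc
  have hn : H.Normal := ⟨fun n hn g => by rw [hc g n, mul_inv_cancel_right]; exact hn⟩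
  have hbot := (IsSimpleGroup.eq_bot_or_eq_top_of_normal H hn).resolve_right hH.1
  have he := hH.2.1
  rw [hbot, Subgroup.card_bot] at he
  exact absurd he (by decide)

/-- the coset action is faithful -/
theorem faithful_of_stronglyEmbedded [IsSimpleGroup G] {H : Subgroup G} (hH : Cfsg.IsStronglyEmbedded H) :
    FaithfulSMul G (G ⧸ H) := by
  refine ⟨fun {g₁ g₂} e => inv_mul_eq_one.1 (Subgroup.mem_bot.1 ?_)⟩
  rw [← BenderQ.normalCore_eq_bot hH]
  intro x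
  have h1 := QuotientGroup.eq.1 (show ((g₁ * x⁻¹ : G) : G ⧸ H) = ((g₂ * x⁻¹ : G) : G ⧸ H) from
    e ((x⁻¹ : G) : G ⧸ H))
  simpa [mul_assoc] using h1

/-- a strongly embedded subgroup with a regular normal subgroup gives a rank one set-up -/
theorem exists_setup_of_stronglyEmbedded [IsSimpleGroup G] {H : Subgroup G} (hH : Cfsg.IsStronglyEmbedded H)
    (Q : Subgroup G) (hQH : Q ≤ H) (hQn : (Q.subgroupOf H).Normal)
    (htrans : ∀ g₁ g₂ : G, g₁ ∉ H → g₂ ∉ H → ∃ u ∈ Q, g₂⁻¹ * (u * g₁) ∈ H)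
    (hreg : ∀ g : G, g ∉ H → ∀ u ∈ Q, g⁻¹ * (u * g) ∈ H → u = 1) :
    ∃ t : G, Cfsg.IsRankOneSetup G (G ⧸ H) ((1 : G) : G ⧸ H) t Q ∧
      ∃ x y : G, x ≠ 1 ∧ y ≠ 1 ∧ x ≠ y ∧ x * x = 1 ∧ y * y = 1 ∧ x * y = y * x := by
  classical
  obtain ⟨t, ht, htH⟩ := StrongEmbedding.exists_involution_notMem hH
  have ht2 : t * t = 1 := by rw [← pow_two, ← ht, pow_orderOf_eq_one]
  have hst : ∀ g : G, g ∈ stabilizer G ((1 : G) : G ⧸ H) ↔ g ∈ H := fun g =>
    mem_stabilizer_iff.trans StrongEmbedding.mem_iff_smul_base.symm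
  have htb : ∀ g : G, g • t • ((1 : G) : G ⧸ H) = t • ((1 : G) : G ⧸ H) ↔ t⁻¹ * (g * t) ∈ H := fun g => by
    show ((g * (t * 1) : G) : G ⧸ H) = ((t * 1 : G) : G ⧸ H) ↔ _
    rw [mul_one]
    exact eq_comm.trans QuotientGroup.eq
  have hne : ∀ g : G, (g : G ⧸ H) ≠ ((1 : G) : G ⧸ H) → g ∉ H := fun g h hg => h (by
    rw [QuotientGroup.eq, mul_one]; exact inv_mem hg)
  have hconj : ∀ g ∈ stabilizer G ((1 : G) : G ⧸ H), ∀ x ∈ Q, g * x * g⁻¹ ∈ Q := fun g hg x hx =>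
    hQn.conj_mem ⟨x, hQH hx⟩ hx ⟨g, (hst g).1 hg⟩
  have hbot : ∀ x ∈ Q, x • t • ((1 : G) : G ⧸ H) = t • ((1 : G) : G ⧸ H) → x = 1 := fun x hx e =>
    hreg t htH x hx ((htb x).1 e)
  -- transitivity of `Q` on the other cosets
  have hQt : ∀ c : G ⧸ H, c ≠ ((1 : G) : G ⧸ H) → ∃ u ∈ Q, u • t • ((1 : G) : G ⧸ H) = c := by
    intro c hc
    obtain ⟨g, rfl⟩ := QuotientGroup.mk_surjective c
    obtain ⟨u, hu, he⟩ := htrans t g htH (hne g hc)
    refine ⟨u, hu, ?_⟩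
    show ((u * (t * 1) : G) : G ⧸ H) = (g : G ⧸ H)
    rw [mul_one]
    exact (QuotientGroup.eq.2 he).symm
  -- decomposition of `H`
  have hdec : ∀ g ∈ H, ∃ x ∈ Q, ∃ d ∈ stabilizer G ((1 : G) : G ⧸ H) ⊓
      stabilizer G (t • ((1 : G) : G ⧸ H)), g = x * d := by
    intro g hg
    have hga := (hst g).2 hg
    have hgb : g • t • ((1 : G) : G ⧸ H) ≠ ((1 : G) : G ⧸ H) := fun e => htH (by
      have h1 : t • ((1 : G) : G ⧸ H) = ((1 : G) : G ⧸ H) := MulAction.injective g (e.trans hga.symm)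
      exact StrongEmbedding.mem_iff_smul_base.2 h1)
    obtain ⟨u, hu, he⟩ := hQt _ hgb
    refine ⟨u, hu, u⁻¹ * g,
      ⟨(stabilizer G _).mul_mem ((stabilizer G _).inv_mem ((hst u).2 (hQH hu))) hga, ?_⟩, by group⟩
    show (u⁻¹ * g) • t • ((1 : G) : G ⧸ H) = t • ((1 : G) : G ⧸ H)
    rw [mul_smul, ← he, inv_smul_smul]
  have hodd : Odd (Nat.card ↥(stabilizer G ((1 : G) : G ⧸ H) ⊓ stabilizer G (t • ((1 : G) : G ⧸ H)))) := by
    refine (hH.2.2 t htH).of_dvd_nat (Subgroup.card_dvd_of_le fun x hx => ⟨(hst x).1 hx.1, ?_⟩)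
    refine ⟨t⁻¹ * x * t, ?_, by show t * (t⁻¹ * x * t) * t⁻¹ = x; group⟩
    have := (htb x).1 hx.2
    simpa [mul_assoc] using this
  have hS : Cfsg.IsRankOneSetup G (G ⧸ H) ((1 : G) : G ⧸ H) t Q := by
    refine ⟨?_, ht2, fun e => htH (e ▸ H.one_mem), fun h => htH ((hst t).1 h),
      fun x hx => (hst x).2 (hQH hx), hconj, ?_, ?_, ?_, hodd⟩
    · rw [MulAction.is_two_pretransitive_iff]
      have key : ∀ {b c : G ⧸ H}, b ≠ c → ∃ m : G, m • ((1 : G) : G ⧸ H) = b ∧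
          m • t • ((1 : G) : G ⧸ H) = c := by
        intro b c hbc
        obtain ⟨g, hg⟩ := MulAction.exists_smul_eq G ((1 : G) : G ⧸ H) b
        have hc' : g⁻¹ • c ≠ ((1 : G) : G ⧸ H) := fun e => hbc (by rw [← hg, ← e, smul_inv_smul])
        obtain ⟨u, hu, he⟩ := hQt _ hc'
        refine ⟨g * u, ?_, ?_⟩
        · rw [mul_smul, mem_stabilizer_iff.1 ((hst u).2 (hQH hu)), hg]
        · rw [mul_smul, he, smul_inv_smul]
      intro b c b' c' hb hb'
      obtain ⟨m, h1, h2⟩ := key hb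
      obtain ⟨m', h1', h2'⟩ := key hb'
      exact ⟨m' * m⁻¹, by rw [← h1, mul_smul, inv_smul_smul, h1'],
        by rw [← h2, mul_smul, inv_smul_smul, h2']⟩
    · rw [eq_bot_iff]
      exact fun x hx => Subgroup.mem_bot.2 (hbot x hx.1 hx.2)
    · refine le_antisymm (sup_le (fun x hx => (hst x).2 (hQH hx)) inf_le_left) fun g hg => ?_
      obtain ⟨x, hx, d, hd, rfl⟩ := hdec g ((hst g).1 hg)
      exact Subgroup.mul_mem_sup hx hd
    · -- an involution of `H` lies in `Q`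
      obtain ⟨z, hz, hz2⟩ := exists_involution_of_even_card H hH.2.1
      obtain ⟨x, hx, d, hd, rfl⟩ := hdec z hz
      have hd1 : d = 1 := by
        have h1 : d * d ∈ Q := by
          have h2 : x * d * (x * d) = 1 := by rw [← pow_two, ← hz2, pow_orderOf_eq_one]
          have h3 : d * d = (d * x⁻¹ * d⁻¹) * (x⁻¹ * (x * d * (x * d)) * 1) := by
            have : d * x * d = x⁻¹ := eq_inv_of_mul_eq_one_right (by rw [← h2]; group)
            calc d * d = d * x⁻¹ * d⁻¹ * (d * x * d) := by group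
              _ = d * x⁻¹ * d⁻¹ * x⁻¹ := by rw [this]
              _ = _ := by rw [h2]; group
          rw [h3, h2, mul_one, mul_one]
          exact mul_mem (hconj d hd.1 _ (inv_mem hx)) (inv_mem hx)
        have h4 : d * d = 1 := hbot _ h1 (mem_stabilizer_iff.1 (mul_mem hd hd).2)
        have h5 : Odd (orderOf d) := hodd.of_dvd_nat (Subgroup.orderOf_dvd_natCard _ hd)
        rcases (Nat.dvd_prime Nat.prime_two).1
          (orderOf_dvd_of_pow_eq_one (show d ^ 2 = 1 by rw [pow_two, h4])) with h | h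
        · exact orderOf_eq_one_iff.1 h
        · rw [h] at h5; exact absurd h5 (by decide)
      rw [hd1, mul_one] at hz2
      exact even_iff_two_dvd.2 (hz2 ▸ Subgroup.orderOf_dvd_natCard _ hx)
  refine ⟨t, hS, ?_⟩
  obtain ⟨x, y, hx, hy, hne', hc⟩ := BenderQ.hasFour_of_simple (noncomm_of_stronglyEmbedded hH) hH
  exact ⟨x, y, fun e => by simp [e] at hx, fun e => by simp [e] at hy, hne',
    by rw [← pow_two, ← hx, pow_orderOf_eq_one], by rw [← pow_two, ← hy, pow_orderOf_eq_one], hc.eq⟩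

/-- the conclusion of the classification of rank one set-ups -/
def RecogConclusion (G : Type u) [Group G] : Prop :=
  ∃ L : Subgroup G, L.Normal ∧ Odd L.index ∧
      ((∃ (F : Type) (_ : Field F) (_ : Fintype F), (∃ n : ℕ, 2 ≤ n ∧ Fintype.card F = 2 ^ n) ∧
          Nonempty (L ≃* Matrix.ProjectiveSpecialLinearGroup (Fin 2) F)) ∨
        Cfsg.Lie.IsoSuzuki L ∨
        (∃ (F : Type) (_ : Field F) (_ : Fintype F) (n : ℕ), 2 ≤ n ∧ Fintype.card F = (2 ^ n) ^ 2 ∧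
          Nonempty (L ≃* Cfsg.PSU 3 F (2 ^ n))))

/-- in a simple group of even order the subgroup `L` is everything -/
theorem simple_cases [IsSimpleGroup G] (heven : Even (Nat.card G)) (h : RecogConclusion G) :
    (∃ (F : Type) (_ : Field F) (_ : Fintype F), (∃ n : ℕ, 2 ≤ n ∧ Fintype.card F = 2 ^ n) ∧
        Nonempty (G ≃* Matrix.ProjectiveSpecialLinearGroup (Fin 2) F)) ∨
      Cfsg.IsSuzuki G ∨
      (∃ (F : Type) (_ : Field F) (_ : Fintype F) (n : ℕ), 2 ≤ n ∧ Fintype.card F = (2 ^ n) ^ 2 ∧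
        Nonempty (G ≃* Cfsg.PSU 3 F (2 ^ n))) := by
  obtain ⟨L, hn, hodd, hcases⟩ := h
  obtain rfl : L = ⊤ := (IsSimpleGroup.eq_bot_or_eq_top_of_normal L hn).resolve_left fun e => by
    rw [e, Subgroup.index_bot] at hodd
    exact Nat.not_odd_iff_even.2 heven hodd
  rcases hcases with ⟨F, i1, i2, hF, ⟨e⟩⟩ | ⟨F, i1, i2, m, hm, hF, ⟨e⟩⟩ | ⟨F, i1, i2, n, hn2, hF, ⟨e⟩⟩
  · exact Or.inl ⟨F, i1, i2, hF, ⟨Subgroup.topEquiv.symm.trans e⟩⟩
  · refine Or.inr (Or.inl ⟨inferInstance, m, hm, ?_⟩)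
    obtain ⟨hch, ⟨P⟩⟩ := CfsgLib.SuzukiGroup.exists_params hF
    haveI := hch
    rw [Nat.card_congr (Subgroup.topEquiv.symm.trans e).toEquiv, CfsgLib.SuzukiGroup.card_sz P, hF]
    ring
  · exact Or.inr (Or.inr ⟨F, i1, i2, n, hn2, hF, ⟨Subgroup.topEquiv.symm.trans e⟩⟩)

/-- the same in the form used for doubly transitive strongly embedded subgroups -/
theorem se_cases [IsSimpleGroup G] {H : Subgroup G} (hH : Cfsg.IsStronglyEmbedded H) (h : RecogConclusion G) :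
    (∃ (F : Type) (_ : Field F) (_ : Fintype F), CharP F 2 ∧ 4 ≤ Fintype.card F ∧
        Nonempty (G ≃* Matrix.ProjectiveSpecialLinearGroup (Fin 2) F)) ∨
      Cfsg.IsSuzuki G ∨
      (∃ (F : Type) (_ : Field F) (_ : Fintype F) (q : ℕ), Fintype.card F = q ^ 2 ∧ Even q ∧ 4 ≤ q ∧
        Nonempty (G ≃* Cfsg.PSU 3 F q)) := by
  have heven : Even (Nat.card G) := by
    obtain ⟨z, -, hz⟩ := exists_involution_of_even_card H hH.2.1
    exact even_iff_two_dvd.2 (hz ▸ orderOf_dvd_natCard z)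
  have h4 : ∀ {n : ℕ}, 2 ≤ n → 4 ≤ 2 ^ n := fun hn => le_trans (by norm_num) (Nat.pow_le_pow_right two_pos hn)
  rcases simple_cases heven h with ⟨F, i1, i2, ⟨n, hn, hF⟩, e⟩ | h | ⟨F, i1, i2, n, hn, hF, e⟩
  · haveI : CharP F 2 := by
      obtain ⟨p, hp⟩ := CharP.exists F
      haveI := hp
      obtain ⟨k, hprime, hk⟩ := FiniteField.card F p
      have h1 : p = 2 := (Nat.prime_dvd_prime_iff_eq hprime Nat.prime_two).1
        (hprime.dvd_of_dvd_pow (hF ▸ hk ▸ dvd_pow_self p k.ne_zero))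
      exact h1 ▸ hp
    exact Or.inl ⟨F, i1, i2, inferInstance, by rw [hF]; exact h4 hn, e⟩
  · exact Or.inr (Or.inl h)
  · exact Or.inr (Or.inr ⟨F, i1, i2, 2 ^ n, hF, Nat.even_pow.2 ⟨even_two, by omega⟩, h4 hn, e⟩)

/-- simple groups with a strongly embedded subgroup, given the classification of rank one set-ups -/
theorem se_classification [IsSimpleGroup G] {H : Subgroup G} (hH : Cfsg.IsStronglyEmbedded H)
    (Q : Subgroup G) (hQH : Q ≤ H) (hQn : (Q.subgroupOf H).Normal)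
    (htrans : ∀ g₁ g₂ : G, g₁ ∉ H → g₂ ∉ H → ∃ u ∈ Q, g₂⁻¹ * (u * g₁) ∈ H)
    (hreg : ∀ g : G, g ∉ H → ∀ u ∈ Q, g⁻¹ * (u * g) ∈ H → u = 1)
    (hrec : ∀ (a : G ⧸ H) (t : G) (R : Subgroup G), FaithfulSMul G (G ⧸ H) →
      Cfsg.IsRankOneSetup G (G ⧸ H) a t R →
      (∃ x y : G, x ≠ 1 ∧ y ≠ 1 ∧ x ≠ y ∧ x * x = 1 ∧ y * y = 1 ∧ x * y = y * x) → RecogConclusion G) :
    (∃ (F : Type) (_ : Field F) (_ : Fintype F), CharP F 2 ∧ 4 ≤ Fintype.card F ∧
        Nonempty (G ≃* Matrix.ProjectiveSpecialLinearGroup (Fin 2) F)) ∨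
      Cfsg.IsSuzuki G ∨
      (∃ (F : Type) (_ : Field F) (_ : Fintype F) (q : ℕ), Fintype.card F = q ^ 2 ∧ Even q ∧ 4 ≤ q ∧
        Nonempty (G ≃* Cfsg.PSU 3 F q)) := by
  obtain ⟨t, hS, h2⟩ := exists_setup_of_stronglyEmbedded hH Q hQH hQn htrans hreg
  exact se_cases hH (hrec _ t Q (faithful_of_stronglyEmbedded hH) hS h2)

end CfsgLib.RankOneRecog
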