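import Cfsg.Agent.Lib.RankOneRecog.Setup
import Cfsg.Agent.Lib.RankOneRecog.Zassenhaus
import Cfsg.Agent.Lib.RankOneTwo.Main

/-!
Tools for the pairing in a rank one set-up with `Q` non-abelian: the classes of `Q \ Z` under `K` and
translation by `Z`, and the elements fixed by an element of prime order of `C_D(t)`.
-/

set_option autoImplicit false

noncomputable section

namespace CfsgLib.RankOneRecog

open CfsgLib.RankOneInvol CfsgLib.RankOneTwo
open MulAction (stabilizer mem_stabilizer_iff)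

universe u v

variable {G : Type u} {Ω : Type v} [Group G] [Finite G] [MulAction G Ω] {a : Ω} {t : G} {Q : Subgroup G}
  (hS : Cfsg.IsRankOneSetup G Ω a t Q)
  (h2 : ∃ x y : G, x ≠ 1 ∧ y ≠ 1 ∧ x ≠ y ∧ x * x = 1 ∧ y * y = 1 ∧ x * y = y * x)

/-- conjugation by an element of `p`-power-one on a set of size prime to `p` has a fixed point -/
theorem exists_commute_mem {p : ℕ} [Fact p.Prime] {g : G} (hg : g ^ p = 1) (S : Set G)
    (hinv : ∀ y, g * y * g⁻¹ ∈ S ↔ y ∈ S) (hdiv : ¬ p ∣ S.ncard) : ∃ y ∈ S, g * y = y * g := by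
  classical
  have := Fintype.ofFinite G
  let σ : Equiv.Perm S :=
    { toFun := fun y => ⟨g * y * g⁻¹, (hinv y).2 y.2⟩
      invFun := fun y => ⟨g⁻¹ * y * g, (hinv _).1 (by simp [mul_assoc])⟩
      left_inv := fun y => Subtype.ext (by simp [mul_assoc])
      right_inv := fun y => Subtype.ext (by simp [mul_assoc]) }
  have hpow : ∀ (n : ℕ) (y : S), (((σ ^ n) y : S) : G) = g ^ n * y * (g ^ n)⁻¹ := by
    intro n
    induction n with
    | zero => intro y; simp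
    | succ n ih =>
      intro y
      rw [pow_succ', Equiv.Perm.mul_apply]
      show g * ((σ ^ n) y : G) * g⁻¹ = _
      rw [ih, pow_succ' g]
      group
  have hσ : σ ^ p ^ 1 = 1 := Equiv.ext fun y => Subtype.ext (by
    rw [pow_one, hpow, hg]; simp)
  obtain ⟨y, hy⟩ := Equiv.Perm.exists_fixed_point_of_prime (by
    rwa [← Nat.card_eq_fintype_card, Nat.card_coe_set_eq]) hσ
  exact ⟨y, y.2, mul_inv_eq_iff_eq_mul.1 (congrArg Subtype.val hy)⟩

include hS h2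

omit h2 in
/-- `K` fixes no coset of `Z` in `Q \ Z` -/
theorem eq_one_of_fix_coset
    (h2 : ∃ x y : G, x ≠ 1 ∧ y ≠ 1 ∧ x ≠ y ∧ x * x = 1 ∧ y * y = 1 ∧ x * y = y * x)
    (hsq : ∀ x ∈ Q, x * x ∈ Zsub G a) {k x z : G} (hk : k ∈ Ksub G a t) (hx : x ∈ Q)
    (hxZ : x ∉ Zsub G a) (hz : z ∈ Zsub G a) (h : k * x * k⁻¹ = x * z) : k = 1 := by
  have h1 : x * x ≠ 1 := fun e => hxZ ((mem_Zsub_iff hS h2).2 (or_iff_not_imp_left.2 fun h1 =>
    mem_invols.2 ⟨Q_smul hS hx, h1, e⟩))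
  have e : k * (x * x) * k⁻¹ = x * x := by
    calc k * (x * x) * k⁻¹ = k * x * k⁻¹ * (k * x * k⁻¹) := by group
      _ = x * (z * x) * z := by rw [h]; simp [mul_assoc]
      _ = x * x * (z * z) := by rw [Zsub_comm hS h2 hz hx]; simp [mul_assoc]
      _ = x * x := by rw [Zsub_sq hS h2 hz, mul_one]
  obtain ⟨k₀, -, hu⟩ := Ksub_regular hS h2 (hsq x hx) h1 (hsq x hx) h1
  exact congrArg Subtype.val ((hu ⟨k, hk⟩ e).trans (hu 1 (by simp)).symm)

/-- if `k * s * k⁻¹` is centralised by `v` then so is `k` -/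
theorem commute_of_conj_commute {v k s : G} (hv : v ∈ twoPt G a t) (hk : k ∈ Ksub G a t)
    (hs : s ∈ Zsub G a) (hs1 : s ≠ 1) (hvs : v * s = s * v)
    (h : v * (k * s * k⁻¹) = k * s * k⁻¹ * v) : v * k = k * v := by
  have hka := (mem_twoPt.1 (Ksub_le hS h2 hk)).1
  obtain ⟨k₀, -, hu⟩ := Ksub_regular hS h2 hs hs1 (Zsub_conj hS h2 hka hs) (conj_ne_one hs1 k)
  have hc : Commute v s := hvs
  have hvk : (v * k * v⁻¹) * s * (v * k * v⁻¹)⁻¹ = k * s * k⁻¹ := by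
    calc (v * k * v⁻¹) * s * (v * k * v⁻¹)⁻¹ = v * k * (v⁻¹ * s * v) * k⁻¹ * v⁻¹ := by group
      _ = v * k * s * k⁻¹ * v⁻¹ := by rw [show v⁻¹ * s * v = s by rw [mul_assoc, ← hc.eq]; group]
      _ = v * (k * s * k⁻¹) * v⁻¹ := by group
      _ = k * s * k⁻¹ := by rw [h, mul_inv_cancel_right]
  exact mul_inv_eq_iff_eq_mul.1 (congrArg Subtype.val
    ((hu ⟨_, Ksub_conj hS h2 hv hk⟩ hvk).trans (hu ⟨k, hk⟩ rfl).symm))

omit hS h2 [Finite G] in
/-- membership in the centraliser of one element -/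
theorem mem_cent {v g : G} : g ∈ Subgroup.centralizer ({v} : Set G) ↔ v * g = g * v :=
  ⟨fun h => Subgroup.mem_centralizer_iff.1 h v rfl, fun h => Subgroup.mem_centralizer_iff.2 fun w hw => by
    rw [Set.mem_singleton_iff] at hw; subst hw; exact h⟩

/-- `|C_K(v)| + 1 = |C_Z(v)|` for `v` centralising an involution of `G_a` -/
theorem card_centralizer_Zsub {v s : G} (hv : v ∈ twoPt G a t) (hs : s ∈ Zsub G a) (hs1 : s ≠ 1)
    (hvs : v * s = s * v) :
    Nat.card ↥(Zsub G a ⊓ Subgroup.centralizer ({v} : Set G)) =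
      Nat.card ↥(Ksub G a t ⊓ Subgroup.centralizer ({v} : Set G)) + 1 := by
  classical
  rw [← Finite.card_option]
  have hka : ∀ k : ↥(Ksub G a t ⊓ Subgroup.centralizer ({v} : Set G)), (k : G) • a = a := fun k =>
    (mem_twoPt.1 (Ksub_le hS h2 k.2.1)).1
  let f : Option ↥(Ksub G a t ⊓ Subgroup.centralizer ({v} : Set G)) →
      ↥(Zsub G a ⊓ Subgroup.centralizer ({v} : Set G)) := fun o => o.elim 1 fun k =>
    ⟨(k : G) * s * (k : G)⁻¹, Zsub_conj hS h2 (hka k) hs,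
      mem_cent.2 (((show Commute v k from mem_cent.1 k.2.2).mul_right hvs).mul_right
        (show Commute v k from mem_cent.1 k.2.2).inv_right).eq⟩
  refine (Nat.card_eq_of_bijective f ⟨?_, fun z => ?_⟩).symm
  · rintro (_ | k) (_ | k') h
    · rfl
    · exact absurd (congrArg Subtype.val h).symm (conj_ne_one hs1 (k' : G))
    · exact absurd (congrArg Subtype.val h) (conj_ne_one hs1 (k : G))
    · obtain ⟨k₀, -, hu⟩ := Ksub_regular hS h2 hs hs1 (Zsub_conj hS h2 (hka k) hs) (conj_ne_one hs1 (k : G))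
      have e : (k : G) = k' := congrArg (fun z : Ksub G a t => (z : G))
        ((hu ⟨k, k.2.1⟩ rfl).trans (hu ⟨k', k'.2.1⟩ (congrArg Subtype.val h).symm).symm)
      exact congrArg some (Subtype.ext e)
  · by_cases h : (z : G) = 1
    · exact ⟨none, Subtype.ext h.symm⟩
    · obtain ⟨k, hk, -⟩ := Ksub_regular hS h2 hs hs1 z.2.1 h
      refine ⟨some ⟨k, k.2, mem_cent.2 (commute_of_conj_commute hS h2 hv k.2 hs hs1 hvs ?_)⟩, Subtype.ext hk⟩
      rw [hk]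
      exact mem_cent.1 z.2.2

/-- equivalence under conjugation by `K` and translation by `Z` -/
def KZRel (a : Ω) (t : G) (x y : G) : Prop :=
  ∃ k ∈ Ksub G a t, ∃ z ∈ Zsub G a, y = k * x * k⁻¹ * z

omit h2 hS [Finite G] in
theorem KZRel.refl (x : G) : KZRel a t x x := ⟨1, one_mem _, 1, one_mem _, by simp⟩

theorem KZRel.symm {x y : G} (h : KZRel a t x y) : KZRel a t y x := by
  obtain ⟨k, hk, z, hz, rfl⟩ := h
  refine ⟨k⁻¹, inv_mem hk, k⁻¹ * z⁻¹ * k⁻¹⁻¹,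
    Zsub_conj hS h2 (mem_twoPt.1 (Ksub_le hS h2 (inv_mem hk))).1 (inv_mem hz), by group⟩

theorem KZRel.trans {x y w : G} (h : KZRel a t x y) (h' : KZRel a t y w) : KZRel a t x w := by
  obtain ⟨k, hk, z, hz, rfl⟩ := h
  obtain ⟨l, hl, z', hz', rfl⟩ := h'
  exact ⟨l * k, mul_mem hl hk, l * z * l⁻¹ * z',
    mul_mem (Zsub_conj hS h2 (mem_twoPt.1 (Ksub_le hS h2 hl)).1 hz) hz', by group⟩

theorem KZRel.conj {x y d : G} (hd : d ∈ twoPt G a t) (h : KZRel a t x y) :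
    KZRel a t (d * x * d⁻¹) (d * y * d⁻¹) := by
  obtain ⟨k, hk, z, hz, rfl⟩ := h
  exact ⟨d * k * d⁻¹, Ksub_conj hS h2 hd hk, d * z * d⁻¹, Zsub_conj hS h2 (mem_twoPt.1 hd).1 hz, by group⟩

theorem KZRel.mem {x y : G} (h : KZRel a t x y) (hx : x ∈ Q) (hxZ : x ∉ Zsub G a) :
    y ∈ Q ∧ y ∉ Zsub G a := by
  obtain ⟨k, hk, z, hz, rfl⟩ := h
  have hka := (mem_twoPt.1 (Ksub_le hS h2 hk)).1
  refine ⟨mul_mem (Q_conj hS hka hx) (Zsub_le hS h2 hz), fun e => hxZ ?_⟩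
  have h1 : k * x * k⁻¹ ∈ Zsub G a := by simpa using mul_mem e (inv_mem hz)
  have := Zsub_conj hS h2 (g := k⁻¹) (by rw [inv_smul_eq_iff, hka]) h1
  simpa [mul_assoc] using this

/-- the classes of `Q \ Z` number `q + 1` when `|Q| = q ^ 3` -/
theorem card_classes (hsq : ∀ x ∈ Q, x * x ∈ Zsub G a)
    (hcard : Nat.card Q = Nat.card (Zsub G a) ^ 3) (s : Setoid {x : G // x ∈ Q ∧ x ∉ Zsub G a})
    (hs : ∀ x y, s.r x y ↔ KZRel a t (x : G) (y : G)) :
    Nat.card (Quotient s) = Nat.card (Zsub G a) + 1 := by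
  classical
  have hbij : Function.Bijective (fun w : Quotient s × (Ksub G a t × Zsub G a) =>
      (⟨(w.2.1 : G) * (w.1.out : G) * (w.2.1 : G)⁻¹ * (w.2.2 : G),
        KZRel.mem hS h2 ⟨w.2.1, w.2.1.2, w.2.2, w.2.2.2, rfl⟩ w.1.out.2.1 w.1.out.2.2⟩ :
        {x : G // x ∈ Q ∧ x ∉ Zsub G a})) := by
    refine ⟨?_, fun x => ?_⟩
    · rintro ⟨c, k, z⟩ ⟨c', k', z'⟩ e
      have e' : (k : G) * (c.out : G) * (k : G)⁻¹ * z = k' * (c'.out : G) * (k' : G)⁻¹ * z' :=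
        congrArg Subtype.val e
      have hc : c = c' := by
        refine Quotient.out_equiv_out.1 ((hs _ _).2 (KZRel.trans hS h2
          ⟨k, k.2, z, z.2, rfl⟩ ?_))
        exact e' ▸ KZRel.symm hS h2 ⟨k', k'.2, z', z'.2, rfl⟩
      subst hc
      set x : G := (c.out : G) with hx
      have h1 : ((k' : G)⁻¹ * k) * x * ((k' : G)⁻¹ * k)⁻¹ =
          x * ((k' : G)⁻¹ * ((z' : G) * (z : G)⁻¹) * k'⁻¹⁻¹) := by
        calc ((k' : G)⁻¹ * k) * x * ((k' : G)⁻¹ * k)⁻¹ =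
              (k' : G)⁻¹ * ((k : G) * x * (k : G)⁻¹ * z) * (z : G)⁻¹ * k' := by group
          _ = _ := by rw [e']; group
      have hk : (k' : G)⁻¹ * k = 1 := eq_one_of_fix_coset hS h2 hsq (mul_mem (inv_mem k'.2) k.2)
        c.out.2.1 c.out.2.2
        (Zsub_conj hS h2 (mem_twoPt.1 (Ksub_le hS h2 (inv_mem k'.2))).1 (mul_mem z'.2 (inv_mem z.2))) h1
      obtain rfl : k' = k := Subtype.ext (inv_mul_eq_one.1 hk)
      obtain rfl : z = z' := Subtype.ext (mul_left_cancel e')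
      rfl
    · have h : KZRel a t ((Quotient.mk s x).out : G) (x : G) :=
        (hs _ _).1 (Quotient.mk_out x)
      obtain ⟨k, hk, z, hz, e⟩ := h
      exact ⟨(Quotient.mk s x, ⟨k, hk⟩, ⟨z, hz⟩), Subtype.ext e.symm⟩
  have h1 := Nat.card_eq_of_bijective _ hbij
  rw [Nat.card_prod, Nat.card_prod] at h1
  have h2' : Nat.card {x : G // x ∈ Q ∧ x ∉ Zsub G a} + Nat.card (Zsub G a) = Nat.card Q := by
    have e1 : Nat.card {x : G // x ∈ Q ∧ x ∉ Zsub G a} = ((Q : Set G) \ (Zsub G a : Set G)).ncard := by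
      rw [← Nat.card_coe_set_eq]; rfl
    have e2 := Set.ncard_sdiff_add_ncard_of_subset
      (show (Zsub G a : Set G) ⊆ Q from Zsub_le hS h2) (Set.toFinite _)
    rw [e1, show Nat.card (Zsub G a) = (Zsub G a : Set G).ncard from Nat.card_coe_set_eq _,
      show Nat.card Q = (Q : Set G).ncard from Nat.card_coe_set_eq _]
    exact e2
  have hK := card_Zsub hS h2
  have hKpos : 0 < Nat.card (Ksub G a t) := Nat.card_pos
  rw [hcard, ← h1, hK] at h2'
  set m := Nat.card (Ksub G a t)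
  rw [hK]
  refine Nat.eq_of_mul_eq_mul_right (Nat.mul_pos hKpos (Nat.succ_pos m)) ?_
  have : (m + 1) ^ 3 = (m + 1 + 1) * (m * (m + 1)) + (m + 1) := by ring
  simp only [Nat.succ_eq_add_one]
  omega

/-- every class fixed by `v` contains an element centralised by `v` -/
theorem exists_commute_in_class {p : ℕ} [Fact p.Prime] (hsq : ∀ x ∈ Q, x * x ∈ Zsub G a)
    {v s : G} (hv : v ∈ twoPt G a t) (hvp : v ^ p = 1) (hpq : ¬ p ∣ Nat.card (Zsub G a))
    (hs : s ∈ Zsub G a) (hs1 : s ≠ 1) (hvs : v * s = s * v)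
    {x : G} (hx : x ∈ Q) (hxZ : x ∉ Zsub G a) (hfix : KZRel a t x (v * x * v⁻¹)) :
    ∃ y, y ∈ Q ∧ y ∉ Zsub G a ∧ v * y = y * v ∧ KZRel a t x y := by
  obtain ⟨k, hk, z, hz, e⟩ := hfix
  have hxx1 : x * x ≠ 1 := fun e => hxZ ((mem_Zsub_iff hS h2).2 (or_iff_not_imp_left.2 fun h1 =>
    mem_invols.2 ⟨Q_smul hS hx, h1, e⟩))
  have hka := (mem_twoPt.1 (Ksub_le hS h2 hk)).1
  have hxQ : k * x * k⁻¹ ∈ Q := Q_conj hS hka hx
  -- `k⁻¹ v` centralises the square of `x`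
  have hsqv : v * (x * x) * v⁻¹ = k * (x * x) * k⁻¹ := by
    calc v * (x * x) * v⁻¹ = v * x * v⁻¹ * (v * x * v⁻¹) := by group
      _ = k * x * k⁻¹ * z * (k * x * k⁻¹ * z) := by rw [e]
      _ = k * x * k⁻¹ * (k * x * k⁻¹) * (z * z) :=
          (show Commute z (k * x * k⁻¹) from Zsub_comm hS h2 hz hxQ).mul_mul_mul_comm _ _
      _ = k * (x * x) * k⁻¹ := by rw [Zsub_sq hS h2 hz]; group
  obtain ⟨⟨l, hl⟩, hl', -⟩ := Ksub_regular hS h2 hs hs1 (hsq x hx) hxx1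
  simp only at hl'
  -- `x * x` is a conjugate of `s` by an element of `K` equal to `k * (v l v⁻¹)`
  have h1 : (v * l * v⁻¹) * s * (v * l * v⁻¹)⁻¹ = (k * l) * s * (k * l)⁻¹ := by
    calc (v * l * v⁻¹) * s * (v * l * v⁻¹)⁻¹ = v * l * (v⁻¹ * s * v) * l⁻¹ * v⁻¹ := by group
      _ = v * (l * s * l⁻¹) * v⁻¹ := by
          rw [show v⁻¹ * s * v = s by rw [mul_assoc, ← hvs]; group]; group
      _ = k * (l * s * l⁻¹) * k⁻¹ := by rw [hl', hsqv]
      _ = _ := by group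
  have hkl : k * l ∈ Ksub G a t := mul_mem hk hl
  obtain ⟨k₀, -, hu⟩ := Ksub_regular hS h2 hs hs1
    (Zsub_conj hS h2 (mem_twoPt.1 (Ksub_le hS h2 hkl)).1 hs) (conj_ne_one hs1 (k * l))
  have h3 : v * l * v⁻¹ = k * l := congrArg Subtype.val
    ((hu ⟨_, Ksub_conj hS h2 hv hl⟩ h1).trans (hu ⟨_, hkl⟩ rfl).symm)
  set x' : G := l⁻¹ * x * l with hx'
  have hl0 := (mem_twoPt.1 (Ksub_le hS h2 (inv_mem hl))).1
  have hrel : KZRel a t x x' := ⟨l⁻¹, inv_mem hl, 1, one_mem _, by rw [hx']; group⟩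
  set z₁ : G := l⁻¹ * (k⁻¹ * z * k⁻¹⁻¹) * l⁻¹⁻¹ with hz₁def
  have hz₁ : z₁ ∈ Zsub G a :=
    Zsub_conj hS h2 hl0 (Zsub_conj hS h2 (mem_twoPt.1 (Ksub_le hS h2 (inv_mem hk))).1 hz)
  have h4 : v * x' * v⁻¹ = x' * z₁ := by
    calc v * x' * v⁻¹ = (v * l * v⁻¹)⁻¹ * (v * x * v⁻¹) * (v * l * v⁻¹) := by rw [hx']; group
      _ = (k * l)⁻¹ * (k * x * k⁻¹ * z) * (k * l) := by rw [h3, e]
      _ = x' * z₁ := by rw [hx', hz₁def]; group
  let T : Set G := (fun w => x' * w) '' (Zsub G a : Set G)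
  have hT : T.ncard = Nat.card (Zsub G a) := by
    rw [Set.ncard_image_of_injective _ (mul_right_injective x'),
      show Nat.card (Zsub G a) = (Zsub G a : Set G).ncard from Nat.card_coe_set_eq _]
  have hva := (mem_twoPt.1 hv).1
  obtain ⟨y, ⟨w, hw, rfl⟩, hy⟩ := exists_commute_mem (g := v) hvp T (fun y => by
    constructor
    · rintro ⟨w, hw, ew⟩
      refine ⟨v⁻¹ * (z₁⁻¹ * w) * v⁻¹⁻¹,
        Zsub_conj hS h2 (by rw [inv_smul_eq_iff, hva]) (mul_mem (inv_mem hz₁) hw), ?_⟩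
      have ew' : x' * w = v * y * v⁻¹ := ew
      show x' * (v⁻¹ * (z₁⁻¹ * w) * v⁻¹⁻¹) = y
      calc x' * (v⁻¹ * (z₁⁻¹ * w) * v⁻¹⁻¹) = v⁻¹ * (v * x' * v⁻¹) * (z₁⁻¹ * w) * v := by group
        _ = v⁻¹ * (x' * w) * v := by rw [h4]; group
        _ = y := by rw [ew']; group
    · rintro ⟨w, hw, rfl⟩
      refine ⟨z₁ * (v * w * v⁻¹), mul_mem hz₁ (Zsub_conj hS h2 hva hw), ?_⟩
      show x' * (z₁ * (v * w * v⁻¹)) = v * (x' * w) * v⁻¹
      calc x' * (z₁ * (v * w * v⁻¹)) = (x' * z₁) * (v * w * v⁻¹) := by group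
        _ = v * (x' * w) * v⁻¹ := by rw [← h4]; group) (by rwa [hT])
  have hrel' : KZRel a t x (x' * w) :=
    KZRel.trans hS h2 hrel ⟨1, one_mem _, w, hw, by group⟩
  obtain ⟨hyQ, hyZ⟩ := KZRel.mem hS h2 hrel' hx hxZ
  exact ⟨_, hyQ, hyZ, hy, hrel'⟩

/-- `|C_Q(v)| ≥ q₀ ^ 2` with equality impossible, for `q₀ = |C_Z(v)|`, when `C_Q(v) ≰ Z` -/
theorem card_centralizer_Q_gt {p : ℕ} [Fact p.Prime] (hsq : ∀ x ∈ Q, x * x ∈ Zsub G a)
    (hcard : Nat.card Q = Nat.card (Zsub G a) ^ 3)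
    {v s : G} (hv : v ∈ twoPt G a t) (hvp : v ^ p = 1) (hpq : ¬ p ∣ Nat.card (Zsub G a))
    (hs : s ∈ Zsub G a) (hs1 : s ≠ 1) (hvs : v * s = s * v)
    {r : G} (hr : r ∈ Q) (hrZ : r ∉ Zsub G a) (hvr : v * r = r * v) :
    Nat.card ↥(Zsub G a ⊓ Subgroup.centralizer ({v} : Set G)) ^ 2 <
      Nat.card ↥(Q ⊓ Subgroup.centralizer ({v} : Set G)) := by
  classical
  set U : Subgroup G := Q ⊓ Subgroup.centralizer ({v} : Set G) with hU
  set Z0 : Subgroup G := Zsub G a ⊓ Subgroup.centralizer ({v} : Set G) with hZ0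
  set K0 : Subgroup G := Ksub G a t ⊓ Subgroup.centralizer ({v} : Set G) with hK0
  have hZU : Z0 ≤ U := inf_le_inf (Zsub_le hS h2) le_rfl
  let f : K0 × Z0 → ↥((U : Set G) \ (Z0 : Set G)) := fun w =>
    ⟨(w.1 : G) * r * (w.1 : G)⁻¹ * w.2, by
      have hm := KZRel.mem hS h2 (x := r) (y := (w.1 : G) * r * (w.1 : G)⁻¹ * w.2)
        ⟨w.1, w.1.2.1, w.2, w.2.2.1, rfl⟩ hr hrZ
      refine ⟨⟨hm.1, show _ ∈ Subgroup.centralizer ({v} : Set G) from ?_⟩, fun e => hm.2 e.1⟩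
      have hk : (w.1 : G) ∈ Subgroup.centralizer ({v} : Set G) := w.1.2.2
      exact mul_mem (mul_mem (mul_mem hk (mem_cent.2 hvr)) (inv_mem hk)) w.2.2.2⟩
  have hf : Function.Injective f := by
    rintro ⟨k, z⟩ ⟨k', z'⟩ e
    have e' : (k : G) * r * (k : G)⁻¹ * z = k' * r * (k' : G)⁻¹ * z' := congrArg Subtype.val e
    have h1 : ((k' : G)⁻¹ * k) * r * ((k' : G)⁻¹ * k)⁻¹ =
        r * ((k' : G)⁻¹ * ((z' : G) * (z : G)⁻¹) * k'⁻¹⁻¹) := by
      calc ((k' : G)⁻¹ * k) * r * ((k' : G)⁻¹ * k)⁻¹ =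
            (k' : G)⁻¹ * ((k : G) * r * (k : G)⁻¹ * z) * (z : G)⁻¹ * k' := by group
        _ = _ := by rw [e']; group
    have hk : (k' : G)⁻¹ * k = 1 := eq_one_of_fix_coset hS h2 hsq (mul_mem (inv_mem k'.2.1) k.2.1)
      hr hrZ
      (Zsub_conj hS h2 (mem_twoPt.1 (Ksub_le hS h2 (inv_mem k'.2.1))).1
        (mul_mem z'.2.1 (inv_mem z.2.1))) h1
    obtain rfl : k' = k := Subtype.ext (inv_mul_eq_one.1 hk)
    obtain rfl : z = z' := Subtype.ext (mul_left_cancel e')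
    rfl
  have hle := Nat.card_le_card_of_injective f hf
  have hq0 := card_centralizer_Zsub hS h2 hv hs hs1 hvs
  rw [← hZ0, ← hK0] at hq0
  rw [Nat.card_prod, Nat.card_coe_set_eq] at hle
  have hdiff : ((U : Set G) \ (Z0 : Set G)).ncard + Nat.card Z0 = Nat.card U := by
    rw [show Nat.card Z0 = (Z0 : Set G).ncard from Nat.card_coe_set_eq _,
      show Nat.card U = (U : Set G).ncard from Nat.card_coe_set_eq _]
    exact Set.ncard_sdiff_add_ncard_of_subset (show (Z0 : Set G) ⊆ U from hZU) (Set.toFinite _)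
  have hpow : Nat.card Z0 ^ 2 = Nat.card K0 * Nat.card Z0 + Nat.card Z0 := by rw [hq0]; ring
  refine lt_of_le_of_ne (by omega) fun heq => ?_
  -- otherwise all of `U \ Z` lies in the class of `r`, the only class fixed by `v`
  have hsurj : Function.Bijective f := (Nat.bijective_iff_injective_and_card f).2 ⟨hf, by
    rw [Nat.card_prod, Nat.card_coe_set_eq]; omega⟩
  let st : Setoid {x : G // x ∈ Q ∧ x ∉ Zsub G a} :=
    ⟨fun x y => KZRel a t (x : G) (y : G),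
      fun x => KZRel.refl _, fun h => KZRel.symm hS h2 h, fun h h' => KZRel.trans hS h2 h h'⟩
  have hva := (mem_twoPt.1 hv).1
  have hmemX : ∀ (g : G), g ∈ twoPt G a t → ∀ x : {x : G // x ∈ Q ∧ x ∉ Zsub G a},
      g * (x : G) * g⁻¹ ∈ Q ∧ g * (x : G) * g⁻¹ ∉ Zsub G a := fun g hg x =>
    ⟨Q_conj hS (mem_twoPt.1 hg).1 x.2.1, fun e => x.2.2 (by
      have := Zsub_conj hS h2 (g := g⁻¹) (by rw [inv_smul_eq_iff, (mem_twoPt.1 hg).1]) e
      simpa [mul_assoc] using this)⟩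
  let act : twoPt G a t → Quotient st → Quotient st := fun g =>
    Quotient.map (fun x => ⟨(g : G) * x * (g : G)⁻¹, hmemX g g.2 x⟩) fun x y h => KZRel.conj hS h2 g.2 h
  have hact : ∀ g h c, act (g * h) c = act g (act h c) := fun g h c => Quotient.inductionOn c fun x =>
    congrArg (Quotient.mk st) (Subtype.ext (by
      show (g : G) * h * x * ((g : G) * h)⁻¹ = g * ((h : G) * x * (h : G)⁻¹) * (g : G)⁻¹
      group))
  have hact1 : ∀ c, act 1 c = c := fun c => Quotient.inductionOn c fun x =>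
    congrArg (Quotient.mk st) (Subtype.ext (by simp))
  let φ : twoPt G a t →* Equiv.Perm (Quotient st) :=
    { toFun := fun g => ⟨act g, act g⁻¹, fun c => by rw [← hact, inv_mul_cancel, hact1],
        fun c => by rw [← hact, mul_inv_cancel, hact1]⟩
      map_one' := Equiv.ext hact1
      map_mul' := fun g h => Equiv.ext (hact g h) }
  let σ := φ ⟨v, hv⟩
  let c₀ : Quotient st := Quotient.mk st ⟨r, hr, hrZ⟩
  have hσ0 : σ c₀ = c₀ := congrArg (Quotient.mk st) (Subtype.ext (by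
    show v * r * v⁻¹ = r
    rw [hvr, mul_inv_cancel_right]))
  let σ' : Equiv.Perm {c // c ≠ c₀} := σ.subtypePerm fun c =>
    not_congr ⟨fun e => σ.injective (e.trans hσ0.symm), fun e => e ▸ hσ0⟩
  have hσp : σ ^ p = 1 := by
    show φ ⟨v, hv⟩ ^ p = 1
    rw [← map_pow, show (⟨v, hv⟩ : twoPt G a t) ^ p = 1 from Subtype.ext hvp, map_one]
  haveI : Fintype {c // c ≠ c₀} := Fintype.ofFinite _
  have hcard' : Nat.card {c // c ≠ c₀} = Nat.card (Zsub G a) := by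
    have h1 := card_classes hS h2 hsq hcard st fun _ _ => Iff.rfl
    have h3 : Nat.card {c // c ≠ c₀} + 1 = Nat.card (Quotient st) := by
      rw [← Finite.card_option]
      exact Nat.card_congr (Equiv.optionSubtypeNe c₀)
    omega
  obtain ⟨⟨c, hc⟩, hfixc⟩ := Equiv.Perm.exists_fixed_point_of_prime (p := p) (n := 1) (σ := σ')
    (by rwa [← Nat.card_eq_fintype_card, hcard']) (by
      rw [pow_one, Equiv.Perm.subtypePerm_pow]
      exact Equiv.ext fun d => Subtype.ext (show (σ ^ p) (d : Quotient st) = (d : Quotient st) by rw [hσp]; rfl))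
  revert hc hfixc
  refine Quotient.inductionOn c fun x => ?_
  intro hc hfixc
  have hrel : KZRel a t (v * (x : G) * v⁻¹) (x : G) := Quotient.exact (congrArg Subtype.val hfixc)
  obtain ⟨y, hyQ, hyZ, hvy, hxy⟩ := exists_commute_in_class hS h2 hsq hv hvp hpq hs hs1 hvs x.2.1 x.2.2
    (KZRel.symm hS h2 hrel)
  obtain ⟨⟨k, z⟩, hkz⟩ := hsurj.2 ⟨y, ⟨hyQ, mem_cent.2 hvy⟩, fun e => hyZ e.1⟩
  have hry : KZRel a t r y := ⟨k, k.2.1, z, z.2.1, (congrArg Subtype.val hkz).symm⟩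
  exact hc (Quotient.sound (KZRel.trans hS h2 hxy (KZRel.symm hS h2 hry)))

/-- with `D = K` the group is simple -/
theorem simple_of_twoPt_eq [FaithfulSMul G Ω] (hD : twoPt G a t = Ksub G a t) : IsSimpleGroup G := by
  have htop : Lsub G = ⊤ := by
    refine eq_top_iff.2 fun g _ => ?_
    obtain ⟨m, hm, hma⟩ := exists_smul_mem hS (Q_le_Lsub hS h2) (t_mem_Lsub hS) (g • a)
    obtain ⟨q, hq, d, hd, e⟩ := decomp hS (g := m⁻¹ * g) (by rw [mul_smul, ← hma, inv_smul_smul])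
    rw [show g = m * (q * d) by rw [← e]; group]
    exact mul_mem hm (mul_mem (Q_le_Lsub hS h2 hq) (Ksub_le_Lsub hS h2 (hD ▸ hd)))
  have : Nontrivial G := ⟨⟨t, 1, hS.ne_one⟩⟩
  refine ⟨fun N hN => or_iff_not_imp_left.2 fun hbot => eq_top_iff.2 ?_⟩
  obtain ⟨n, hn, hn1⟩ := N.bot_or_exists_ne_one.resolve_left hbot
  -- `N` moves some point, hence is transitive and meets the stabiliser
  have htrans : MulAction.IsPretransitive N Ω := by
    obtain ⟨c, hc⟩ : ∃ c : Ω, n • c ≠ c := by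
      by_contra hcon
      push Not at hcon
      exact hn1 (eq_of_smul_eq_smul fun c : Ω => by rw [hcon c, one_smul])
    refine ⟨fun x y => ?_⟩
    by_cases hxy : x = y
    · exact ⟨1, by rw [one_smul, hxy]⟩
    obtain ⟨g, hg1, hg2⟩ := two_trans hS hc.symm hxy
    exact ⟨⟨g * n * g⁻¹, hN.conj_mem n hn g⟩, show (g * n * g⁻¹) • x = y by
      rw [mul_smul, mul_smul, ← hg1, inv_smul_smul, hg2]⟩
  obtain ⟨c, hc⟩ := exists_stabilizer_ne_bot hS h2 N hN
  obtain ⟨⟨m, hm⟩, hmc, hm1⟩ := (stabilizer N c).bot_or_exists_ne_one.resolve_left hc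
  obtain ⟨g, rfl⟩ := exists_smul hS c
  -- so `N` contains an involution of `G_a`
  obtain ⟨u, huN, hu1, hu2⟩ : ∃ u ∈ N, u ≠ 1 ∧ u * u = 1 := by
    have hne : m ≠ 1 := fun e => hm1 (Subtype.ext e)
    have hm' : g⁻¹ * m * g ∈ N := by simpa using hN.conj_mem m hm g⁻¹
    obtain ⟨q, hq, d, hd, e⟩ := decomp hS (g := g⁻¹ * m * g) (by
      rw [mul_smul, mul_smul, show m • g • a = g • a from hmc, inv_smul_smul])
    by_cases hd1 : d = 1
    · subst hd1
      rw [mul_one] at e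
      have hq1 : q ≠ 1 := fun e1 => hne (by
        calc m = g * (g⁻¹ * m * g) * g⁻¹ := by group
          _ = 1 := by rw [e, e1]; group)
      obtain ⟨i, hi, hi'⟩ := SuzukiTwo.exists_order (isPGroup_two_Q hS h2) (x := (⟨q, hq⟩ : Q))
        (fun e1 => hq1 (congrArg Subtype.val e1))
      refine ⟨q ^ 2 ^ i, pow_mem (e ▸ hm') _, fun e1 => hi (Subtype.ext e1), ?_⟩
      have := congrArg Subtype.val hi'
      rw [pow_succ, pow_mul, pow_two] at this
      exact this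
    · obtain ⟨z, z', -, hz, -⟩ := exists_two_invols hS h2
      obtain ⟨hza, hz1, hz2⟩ := mem_invols.1 hz
      have hzZ : z ∈ Zsub G a := (mem_Zsub_iff hS h2).2 (Or.inr hz)
      have hdz : d * z * d⁻¹ ∈ Zsub G a := Zsub_conj hS h2 (mem_twoPt.1 hd).1 hzZ
      refine ⟨d * z * d⁻¹ * z⁻¹, ?_, fun e1 => hd1 ?_,
        Zsub_sq hS h2 (mul_mem hdz (inv_mem hzZ))⟩
      · have h1 : (g⁻¹ * m * g) * (z * (g⁻¹ * m * g)⁻¹ * z⁻¹) ∈ N :=
          mul_mem hm' (hN.conj_mem _ (inv_mem hm') z)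
        have h3 : q * (d * z * d⁻¹) * q⁻¹ = d * z * d⁻¹ :=
          mul_inv_eq_iff_eq_mul.2 (Zsub_comm hS h2 hdz hq).symm
        rwa [e, show q * d * (z * (q * d)⁻¹ * z⁻¹) = q * (d * z * d⁻¹) * q⁻¹ * z⁻¹ by group,
          h3] at h1
      · obtain ⟨k₀, -, hu⟩ := Ksub_regular hS h2 hzZ hz1 hzZ hz1
        exact congrArg Subtype.val ((hu ⟨d, hD ▸ hd⟩ (mul_inv_eq_one.1 e1)).trans (hu 1 (by simp)).symm)
  rw [← htop, Lsub, Subgroup.closure_le]
  intro v hv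
  by_cases hv1 : v = 1
  · rw [hv1]; exact one_mem N
  obtain ⟨h, rfl⟩ := invol_conj hS hu1 hu2 hv1 hv
  exact hN.conj_mem u huN h

end CfsgLib.RankOneRecog
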