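import Cfsg.Agent.Lib.RankOneTwo.Groups
import Cfsg.Agent.Lib.RankOne.Basic

/-!
The subgroup generated by the involutions in a rank one set-up, and the restriction of the set-up to
subgroups containing `Q` and `t`.
-/

set_option autoImplicit false

noncomputable section

namespace CfsgLib.RankOneRecog

open CfsgLib.RankOneInvol CfsgLib.RankOneTwo
open MulAction (stabilizer mem_stabilizer_iff)

universe u v

/-- the subgroup generated by the involutions -/
def Lsub (G : Type u) [Group G] : Subgroup G := Subgroup.closure {x : G | x * x = 1}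

variable {G : Type u} {Ω : Type v} [Group G]

theorem mem_Lsub {x : G} (hx : x * x = 1) : x ∈ Lsub G := Subgroup.subset_closure hx

instance Lsub_normal : (Lsub G).Normal := by
  constructor
  intro n hn g
  induction hn using Subgroup.closure_induction with
  | mem x hx =>
    refine mem_Lsub ?_
    calc g * x * g⁻¹ * (g * x * g⁻¹) = g * (x * x) * g⁻¹ := by group
      _ = 1 := by rw [show x * x = 1 from hx]; group
  | one => simp
  | mul x y _ _ hx hy => simpa [mul_assoc] using mul_mem hx hy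
  | inv x _ hx => simpa [mul_assoc] using inv_mem hx

variable [MulAction G Ω] {a : Ω} {t : G} {Q : Subgroup G} (hS : Cfsg.IsRankOneSetup G Ω a t Q)
include hS

theorem t_mem_Lsub : t ∈ Lsub G := mem_Lsub hS.mul_self

/-- an element `≠ 1` inverted by `t` centralises no element `≠ 1` of `Q` -/
theorem invSet_fpf [Finite G] {k y : G} (hk : k ∈ invSet G a t) (hk1 : k ≠ 1) (hy : y ∈ Q)
    (hc : k * y = y * k) : y = 1 := by
  have hkb : k • t • a = t • a := (mem_twoPt.1 ((mem_invSet hS).1 hk).1).2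
  rcases invSet_fixes_two hS hk hk1 (c := y • t • a) (by rw [smul_smul, hc, mul_smul, hkb]) with h | h
  · exact absurd (smul_left_cancel y (h.trans (Q_smul hS hy).symm)) (ta_ne hS)
  · exact eq_one_of_mem_Q hS hy h

variable [Finite G] (h2 : ∃ x y : G, x ≠ 1 ∧ y ≠ 1 ∧ x ≠ y ∧ x * x = 1 ∧ y * y = 1 ∧ x * y = y * x)
include h2

theorem Ksub_le_Lsub : Ksub G a t ≤ Lsub G := by
  intro k hk
  have h := isSwap_mul hS ((mem_Ksub_iff hS h2).1 hk)
  have := mul_mem (t_mem_Lsub hS) (mem_Lsub h.2.1)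
  rwa [tt_cancel hS] at this

theorem Zsub_le_Lsub : Zsub G a ≤ Lsub G := fun _ hz => mem_Lsub (Zsub_sq hS h2 hz)

/-- `Q = [Q, K]` consists of products of involutions -/
theorem Q_le_Lsub : Q ≤ Lsub G := by
  classical
  obtain ⟨k, hk, hk1⟩ := exists_invSet_ne_one hS h2
  have hka : k • a = a := (mem_twoPt.1 ((mem_invSet hS).1 hk).1).1
  let f : Q → Q := fun q => ⟨(q : G) * (k * (q : G)⁻¹ * k⁻¹), mul_mem q.2 (Q_conj hS hka (inv_mem q.2))⟩
  have hf : Function.Injective f := by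
    intro x y h
    have h' : (x : G) * (k * (x : G)⁻¹ * k⁻¹) = (y : G) * (k * (y : G)⁻¹ * k⁻¹) := congrArg Subtype.val h
    refine Subtype.ext (inv_mul_eq_one.1 (invSet_fpf hS hk hk1 (mul_mem (inv_mem y.2) x.2) ?_)).symm
    calc k * ((y : G)⁻¹ * x) = (y : G)⁻¹ * ((y : G) * (k * (y : G)⁻¹ * k⁻¹)) * k * x := by group
      _ = (y : G)⁻¹ * ((x : G) * (k * (x : G)⁻¹ * k⁻¹)) * k * x := by rw [h']
      _ = (y : G)⁻¹ * x * k := by group
  intro q hq
  obtain ⟨x, hx⟩ := Finite.surjective_of_injective hf ⟨q, hq⟩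
  have hkL : k ∈ Lsub G := Ksub_le_Lsub hS h2 ((mem_Ksub_iff hS h2).2 hk)
  have hxq : (x : G) * (k * (x : G)⁻¹ * k⁻¹) = q := congrArg Subtype.val hx
  rw [← hxq, show (x : G) * (k * (x : G)⁻¹ * k⁻¹) = (x : G) * k * (x : G)⁻¹ * k⁻¹ by group]
  exact mul_mem (Lsub_normal.conj_mem k hkL x) (inv_mem hkL)

theorem odd_index_Lsub : Odd (Lsub G).index := by
  have h1 : Q.index = Nat.card (twoPt G a t) * (Nat.card Q + 1) := by
    have h := Subgroup.card_mul_index Q
    rw [RankOne.card_group hS, mul_assoc] at h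
    exact Nat.eq_of_mul_eq_mul_left Nat.card_pos h
  refine Odd.of_dvd_nat ?_ (Subgroup.index_dvd_of_le (Q_le_Lsub hS h2))
  rw [h1]
  exact hS.odd_card.mul hS.even_card.add_one

omit h2 in
/-- a subgroup containing `Q` and `t` is transitive -/
theorem exists_smul_mem {M : Subgroup G} (hQ : Q ≤ M) (ht : t ∈ M) (c : Ω) : ∃ m ∈ M, m • a = c := by
  by_cases hc : c = a
  · exact ⟨1, M.one_mem, by rw [one_smul, hc]⟩
  · obtain ⟨q, hq, h⟩ := Q_trans hS hc
    exact ⟨q * t, mul_mem (hQ hq) ht, by rw [mul_smul, h]⟩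

/-- `Lsub G` is generated by `Q` and `t` -/
theorem Lsub_eq_closure : Lsub G = Subgroup.closure ((Q : Set G) ∪ {t}) := by
  refine le_antisymm ((Subgroup.closure_le _).2 fun u hu => ?_) ((Subgroup.closure_le _).2 ?_)
  · set M := Subgroup.closure ((Q : Set G) ∪ {t})
    have hQ : Q ≤ M := fun q hq => Subgroup.subset_closure (Or.inl hq)
    have ht : t ∈ M := Subgroup.subset_closure (Or.inr rfl)
    have hu2 : u * u = 1 := hu
    obtain ⟨c, hc⟩ := exists_fixed hS hu2
    obtain ⟨m, hm, rfl⟩ := exists_smul_mem hS hQ ht c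
    have : m⁻¹ * u * m ∈ Q := inv_mem_Q_of_fixed hS
      (by calc m⁻¹ * u * m * (m⁻¹ * u * m) = m⁻¹ * (u * u) * m := by group
            _ = 1 := by rw [hu2]; group)
      (by rw [mul_smul, mul_smul, hc, inv_smul_smul])
    have := mul_mem (mul_mem hm (hQ this)) (inv_mem hm)
    show u ∈ M
    simpa [mul_assoc] using this
  · rintro x (hx | rfl)
    · exact Q_le_Lsub hS h2 hx
    · exact t_mem_Lsub hS

section Restrict

variable {M : Subgroup G} (hQ : Q ≤ M) (ht : t ∈ M)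
include hQ ht

omit h2 in
/-- the set-up restricts to a subgroup containing `Q` and `t` -/
theorem setup_of_le : Cfsg.IsRankOneSetup M Ω a ⟨t, ht⟩ (Q.subgroupOf M) := by
  refine ⟨?_, Subtype.ext hS.mul_self, fun e => hS.ne_one (congrArg Subtype.val e), ?_, ?_, ?_, ?_, ?_,
    ?_, ?_⟩
  · rw [MulAction.is_two_pretransitive_iff]
    have key : ∀ {b c : Ω}, b ≠ c → ∃ m : M, m • a = b ∧ m • t • a = c := fun {b c} hbc => by
      obtain ⟨g, hg, hgb⟩ := exists_smul_mem hS hQ ht b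
      have hc' : g⁻¹ • c ≠ a := fun e => hbc (by rw [← hgb, ← e, smul_inv_smul])
      obtain ⟨q, hq, hqc⟩ := Q_trans hS hc'
      exact ⟨⟨g * q, mul_mem hg (hQ hq)⟩, by show (g * q) • a = b; rw [mul_smul, Q_smul hS hq, hgb],
        by show (g * q) • t • a = c; rw [mul_smul, hqc, smul_inv_smul]⟩
    intro b c b' c' hb hb'
    obtain ⟨m, hm1, hm2⟩ := key hb
    obtain ⟨m', hm1', hm2'⟩ := key hb'
    exact ⟨m' * m⁻¹, by rw [← hm1, mul_smul, inv_smul_smul, hm1'],
      by rw [← hm2, mul_smul, inv_smul_smul, hm2']⟩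
  · exact fun h => ta_ne hS h
  · exact fun x hx => Q_smul hS (Subgroup.mem_subgroupOf.1 hx)
  · exact fun g hg x hx =>
      Subgroup.mem_subgroupOf.2 (Q_conj hS (show (g : G) • a = a from hg) (Subgroup.mem_subgroupOf.1 hx))
  · rw [eq_bot_iff]
    rintro x ⟨hx, hxb⟩
    exact Subgroup.mem_bot.2 (Subtype.ext (eq_one_of_mem_Q hS (Subgroup.mem_subgroupOf.1 hx) hxb))
  · refine le_antisymm (sup_le (fun x hx => Q_smul hS (Subgroup.mem_subgroupOf.1 hx)) inf_le_left) ?_
    intro g hg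
    obtain ⟨q, hq, d, hd, he⟩ := decomp hS (show (g : G) • a = a from hg)
    have hdM : d ∈ M := by
      have := mul_mem (inv_mem (hQ hq)) g.2
      rwa [he, inv_mul_cancel_left] at this
    rw [show g = ⟨q, hQ hq⟩ * ⟨d, hdM⟩ from Subtype.ext he]
    exact Subgroup.mul_mem_sup (Subgroup.mem_subgroupOf.2 hq)
      ⟨(mem_twoPt.1 hd).1, (mem_twoPt.1 hd).2⟩
  · rw [Nat.card_congr (Subgroup.subgroupOfEquivOfLe hQ).toEquiv]
    exact hS.even_card
  · refine hS.odd_card.of_dvd_nat ?_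
    exact Subgroup.card_dvd_of_le (H := (stabilizer M a ⊓ stabilizer M (t • a)).map M.subtype)
        (K := stabilizer G a ⊓ stabilizer G (t • a))
        (fun x hx => by obtain ⟨y, hy, rfl⟩ := hx; exact ⟨hy.1, hy.2⟩) |> fun h => by
      rwa [Subgroup.card_map_of_injective M.subtype_injective] at h

theorem four_of_le : ∃ x y : M, x ≠ 1 ∧ y ≠ 1 ∧ x ≠ y ∧ x * x = 1 ∧ y * y = 1 ∧ x * y = y * x := by
  obtain ⟨s, s', hne, hs, hs'⟩ := exists_two_invols hS h2
  obtain ⟨hsQ, hsc⟩ := invol_central hS h2 hs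
  have hs'Q := (invol_central hS h2 hs').1
  obtain ⟨-, h1, h11⟩ := mem_invols.1 hs
  obtain ⟨-, h1', h11'⟩ := mem_invols.1 hs'
  exact ⟨⟨s, hQ hsQ⟩, ⟨s', hQ hs'Q⟩, fun e => h1 (congrArg Subtype.val e), fun e => h1' (congrArg Subtype.val e),
    fun e => hne (congrArg Subtype.val e), Subtype.ext h11, Subtype.ext h11', Subtype.ext (hsc s' hs'Q)⟩

omit hS h2 ht [Finite G] hQ in
theorem mem_twoPt_of_le {x : M} {t' : M} (e : (t' : G) = t) :
    x ∈ twoPt M a t' ↔ (x : G) ∈ twoPt G a t := by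
  have h : t' • a = t • a := by rw [← e]; rfl
  rw [mem_twoPt, mem_twoPt, h]
  exact Iff.rfl

theorem mem_Zsub_of_le {x : M} : x ∈ Zsub M a ↔ (x : G) ∈ Zsub G a := by
  rw [mem_Zsub_iff (setup_of_le hS hQ ht) (four_of_le hS h2 hQ ht), mem_Zsub_iff hS h2,
    mem_invols, mem_invols, Subgroup.smul_def]
  simp only [ne_eq, ← OneMemClass.coe_eq_one, Subgroup.coe_mul]

theorem mem_Ksub_of_le {x : M} : x ∈ Ksub M a ⟨t, ht⟩ ↔ (x : G) ∈ Ksub G a t := by
  rw [mem_Ksub_iff (setup_of_le hS hQ ht) (four_of_le hS h2 hQ ht), mem_Ksub_iff hS h2,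
    mem_invSet (setup_of_le hS hQ ht), mem_invSet hS, mem_twoPt_of_le (t' := ⟨t, ht⟩) rfl]
  exact and_congr_right fun _ => ⟨fun e => congrArg Subtype.val e, fun e => Subtype.ext e⟩

omit [MulAction G Ω] hS [Finite G] h2 ht in
theorem Q_card_of_le : Nat.card (Q.subgroupOf M) = Nat.card Q :=
  Nat.card_congr (Subgroup.subgroupOfEquivOfLe hQ).toEquiv

theorem Zsub_card_of_le : Nat.card (Zsub M a) = Nat.card (Zsub G a) := by
  have hle : Zsub G a ≤ M := (Zsub_le hS h2).trans hQ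
  exact Nat.card_congr
    { toFun := fun x => ⟨(x : M), (mem_Zsub_of_le hS h2 hQ ht).1 x.2⟩
      invFun := fun x => ⟨⟨(x : G), hle x.2⟩, (mem_Zsub_of_le hS h2 hQ ht).2 x.2⟩
      left_inv := fun x => rfl
      right_inv := fun x => rfl }

end Restrict

end CfsgLib.RankOneRecog
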